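import Cfsg.Agent.Lib.OrthAut.Core
import Cfsg.Agent.Lib.StdQuadForms
import Cfsg.Agent.Lib.PGO.Proper
import Cfsg.Agent.Lib.Chev.Aut.FieldCyclic
import Cfsg.Agent.Lib.FiniteForms.Congr
import Cfsg.Agent.Lib.FiniteForms.Quad

/-!
Odd-dimensional orthogonal groups: similitudes modulo inner ones, field automorphisms, outer automorphisms.
-/

set_option autoImplicit false
set_option linter.unusedSectionVars false
set_option linter.style.haveILetI false
set_option linter.unusedSimpArgs false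

namespace CfsgLib.OrthAut

open QuadraticMap Module CfsgLib.WittExtension CfsgLib.SpinorNorm CfsgLib.SpinorMatrix
open CfsgLib.OmegaList (RP QP)
open scoped Matrix

section General

variable {F : Type*} [Field F] [Fintype F] {ι : Type} [Fintype ι] [DecidableEq ι] {Q : QuadraticForm F (ι → F)}

/-- An isometry as a similitude. -/
def tG (o : Cfsg.isometryGroup F ⇑Q) : PGO.GO Q := ⟨o.1, PGO.iso_mem Q o.2⟩

theorem det_sq_eq (hQ : (polarBilin Q).Nondegenerate) {g : Matrix ι ι F} {c : F}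
    (hc : ∀ x, Q (g *ᵥ x) = c * Q x) : g.det * g.det = c ^ Fintype.card ι := by
  have e : gᵀ * FiniteForms.polarMat ⇑Q * g = c • FiniteForms.polarMat ⇑Q := by
    ext i j
    have key : (gᵀ * FiniteForms.polarMat ⇑Q * g) i j =
        (g *ᵥ Pi.single i 1) ⬝ᵥ (FiniteForms.polarMat ⇑Q *ᵥ (g *ᵥ Pi.single j 1)) := by
      rw [Matrix.mulVec_single_one, Matrix.mulVec_single_one, Matrix.mul_assoc]; rfl
    rw [key, ← FiniteForms.polar_eq]
    show polar Q _ _ = c * polar Q _ _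
    simp only [polar, ← Matrix.mulVec_add, hc]
    ring
  have e' := congrArg Matrix.det e
  rw [Matrix.det_mul, Matrix.det_mul, Matrix.det_transpose, Matrix.det_smul] at e'
  exact mul_right_cancel₀ (FiniteForms.polarMat_det_ne_zero hQ) (by linear_combination e')

variable (h2 : (2 : F) ≠ 0) (hQ : (polarBilin Q).Nondegenerate) (hodd : Odd (Fintype.card ι))

include hQ hodd in
theorem exists_split (g : PGO.GO Q) :
    ∃ (c : Fˣ) (o : Cfsg.isometryGroup F ⇑Q), o.1.1.det = 1 ∧ g.1 = PGO.sc c * o.1 := by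
  obtain ⟨d, hd⟩ := g.2
  obtain ⟨k, hk⟩ := hodd
  have hdet := det_sq_eq hQ hd
  have hg0 : g.1.1.det ≠ 0 := ((Matrix.isUnit_iff_isUnit_det _).mp g.1.isUnit).ne_zero
  have hd0 : (d : F) ^ k ≠ 0 := pow_ne_zero _ d.ne_zero
  obtain ⟨t, ht⟩ : ∃ t, t = g.1.1.det / (d : F) ^ k := ⟨_, rfl⟩
  have ht0 : t ≠ 0 := ht ▸ div_ne_zero hg0 hd0
  have htt : t * t = d := by
    rw [ht, div_mul_div_comm, hdet, hk, div_eq_iff (mul_ne_zero hd0 hd0)]
    ring
  have htn : t ^ Fintype.card ι = g.1.1.det := by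
    rw [hk, pow_succ, pow_mul, pow_two, htt, ht, mul_div_cancel₀ _ hd0]
  obtain ⟨u, hu⟩ : ∃ u : Fˣ, (u : F) = t := ⟨Units.mk0 t ht0, rfl⟩
  have ho : (PGO.sc u⁻¹ * g.1 : GL ι F) ∈ Cfsg.isometryGroup F ⇑Q := fun v _ => by
    show Q ((PGO.sc u⁻¹ * g.1 : GL ι F).1 *ᵥ v) = Q v
    rw [Units.val_mul, ← Matrix.mulVec_mulVec, PGO.sc_mulVec, QuadraticMap.map_smul, hd, ← htt, ← hu, smul_eq_mul,
      Units.val_inv_eq_inv_val]
    field_simp
  refine ⟨u, ⟨_, ho⟩, ?_, by simp⟩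
  show (PGO.sc u⁻¹ * g.1 : GL ι F).1.det = 1
  rw [Units.val_mul, Matrix.det_mul, PGO.sc_val, Matrix.det_smul, Matrix.det_one, mul_one, Units.val_inv_eq_inv_val,
    inv_pow, hu, htn, inv_mul_cancel₀ hg0]

include h2 in
theorem det_RP_eq_one {vs : List (ι → F)} (hvs : ∀ v ∈ vs, Q v ≠ 0) :
    (RP Q vs).det = 1 ↔ Even vs.length := by
  rw [PGO.Data.det_RP vs hvs]
  refine ⟨fun h => ?_, fun h => h.neg_one_pow⟩
  by_contra hc
  rw [(Nat.not_even_iff_odd.mp hc).neg_one_pow] at h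
  exact h2 (by linear_combination -h)

include h2 hQ hodd in
theorem tG_mem_Ns {o : Cfsg.isometryGroup F ⇑Q} (ho : o.1.1.det = 1) (hne : ∃ v, Q v ≠ 0) :
    tG o ∈ PGO.Ns Q ↔ o ∈ Cfsg.Omega F ⇑Q := by
  refine ⟨?_, fun h => ⟨1, o.1, ⟨o, h, rfl⟩, by simp [tG]⟩⟩
  rintro ⟨c, _, ⟨w, hw, rfl⟩, e⟩
  replace e : o.1 = PGO.sc c * w.1 := e
  obtain ⟨vs, hvs, hm, he, -⟩ := OmegaList.list_of_mem Q (hc_odd Q h2 hQ) hQ w hw
  have hw1 : w.1.1.det = 1 := by rw [hm, det_RP_eq_one h2 hvs]; exact he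
  rw [e, Units.val_mul, Matrix.det_mul, hw1, mul_one, PGO.sc_val, Matrix.det_smul, Matrix.det_one, mul_one] at ho
  obtain ⟨v, hv⟩ := hne
  have h1 : Q (o.1.1 *ᵥ v) = Q v := o.2 v v
  have h3 : Q (w.1.1 *ᵥ v) = Q v := w.2 v v
  rw [e, Units.val_mul, ← Matrix.mulVec_mulVec, PGO.sc_mulVec, QuadraticMap.map_smul, h3, smul_eq_mul] at h1
  have hcc : (c : F) * c = 1 := mul_right_cancel₀ hv (h1.trans (one_mul _).symm)
  obtain ⟨k, hk⟩ := hodd
  rw [hk, pow_succ, pow_mul, pow_two, hcc, one_pow, one_mul, Units.val_eq_one] at ho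
  rw [ho, map_one, one_mul] at e
  rwa [show o = w from Subtype.ext e]

theorem exists_pair {u w : ι → F} (hu : Q u ≠ 0) (hw : Q w ≠ 0) :
    ∃ o : Cfsg.isometryGroup F ⇑Q, o.1.1.det = 1 ∧ o.1.1 = RP Q [u, w] := by
  have hvs : ∀ v ∈ [u, w], Q v ≠ 0 := by simp [hu, hw]
  obtain ⟨o, ho⟩ := OmegaList.exists_iso Q [u, w] hvs
  exact ⟨o, by rw [ho, PGO.Data.det_RP _ hvs]; simp, ho⟩

include h2 hQ hodd in
theorem Ns_cases {z : Cfsg.isometryGroup F ⇑Q} (hz1 : z.1.1.det = 1) (hz : z ∉ Cfsg.Omega F ⇑Q)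
    (g : PGO.GO Q) : g ∈ PGO.Ns Q ∨ g * tG z ∈ PGO.Ns Q := by
  have hc := hc_odd Q h2 hQ
  obtain ⟨c, o, ho, e⟩ := exists_split hQ hodd g
  by_cases hoΩ : o ∈ Cfsg.Omega F ⇑Q
  · exact Or.inl ⟨c, o.1, ⟨o, hoΩ, rfl⟩, e⟩
  · refine Or.inr ⟨c, (o * z).1, ⟨o * z, ?_, rfl⟩, ?_⟩
    · obtain ⟨as, has, hA⟩ := OmegaList.exists_list Q hc o
      obtain ⟨bs, hbs, hB⟩ := OmegaList.exists_list Q hc z
      have hab : ∀ v ∈ as ++ bs, Q v ≠ 0 := fun v hv => (List.mem_append.mp hv).elim (has v) (hbs v)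
      have hm : (o * z).1.1 = RP Q (as ++ bs) := by
        show o.1.1 * z.1.1 = _
        rw [hA, hB, OmegaList.RP_append]
      have ea : Even as.length := (det_RP_eq_one h2 has).mp (hA ▸ ho)
      have eb : Even bs.length := (det_RP_eq_one h2 hbs).mp (hB ▸ hz1)
      rw [OmegaList.omega_iff_list Q hc hQ _ as has hA, and_iff_right ea] at hoΩ
      rw [OmegaList.omega_iff_list Q hc hQ _ bs hbs hB, and_iff_right eb] at hz
      show o * z ∈ Cfsg.Omega F ⇑Q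
      rw [OmegaList.omega_iff_list Q hc hQ _ _ hab hm, List.length_append, OmegaList.QP_append,
        FiniteForms.isSquare_mul_iff (OmegaList.QP_ne_zero Q has) (OmegaList.QP_ne_zero Q hbs)]
      exact ⟨ea.add eb, iff_of_false hoΩ hz⟩
    · show g.1 * z.1 = PGO.sc c * (o.1 * z.1)
      rw [e, mul_assoc]

include h2 hQ hodd in
theorem Ns_index {u w : ι → F} (hu : Q u ≠ 0) (hw : Q w ≠ 0) (hn : ¬ IsSquare (Q u * Q w)) :
    (PGO.Ns Q).index = 2 := by
  obtain ⟨z, hz1, hz⟩ := exists_pair hu hw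
  have hzΩ : z ∉ Cfsg.Omega F ⇑Q := fun h =>
    hn (by simpa [QP] using ((OmegaList.omega_iff_list Q (hc_odd Q h2 hQ) hQ z [u, w]
      (by simp [hu, hw]) hz).mp h).2)
  have hzN : tG z ∉ PGO.Ns Q := fun h => hzΩ ((tG_mem_Ns h2 hQ hodd hz1 ⟨u, hu⟩).mp h)
  refine Subgroup.index_eq_two_iff.mpr ⟨tG z, fun b => ?_⟩
  rcases Ns_cases h2 hQ hodd hz1 hzΩ b with h | h
  · exact Or.inr ⟨h, fun h' => hzN (by simpa using mul_mem (inv_mem h) h')⟩
  · refine Or.inl ⟨h, fun h' => hzN ?_⟩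
    simpa using mul_mem (inv_mem h') h

variable {F₀ : Type*} [Field F₀] [Fintype F₀] (emb : F₀ →+* F) {Q₀ : QuadraticForm F₀ (ι → F₀)}
  (hcomp : ∀ v, Q (up emb v) = emb (Q₀ v))

include hcomp in
theorem reflection_map (v : ι → F₀) :
    (Cfsg.reflectionMatrix (⇑Q₀) v).map emb = Cfsg.reflectionMatrix (⇑Q) (up emb v) :=
  Matrix.ext_of_mulVec_single fun i => by
    rw [← up_single emb, ← up_mulVec, PolarVec.reflection_mulVec, PolarVec.reflection_mulVec,
      polar_up emb Q₀ hcomp, hcomp, up_add, up_smul, map_neg, map_mul, map_inv₀]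

include hcomp in
theorem RP_map (vs : List (ι → F₀)) : (RP Q₀ vs).map emb = RP Q (vs.map (up emb)) := by
  induction vs with
  | nil => simp [RP, Matrix.map_one _ (map_zero emb) (map_one emb)]
  | cons v t ih =>
    rw [List.map_cons, show RP Q₀ (v :: t) = Cfsg.reflectionMatrix (⇑Q₀) v * RP Q₀ t by simp [RP],
      show RP Q (up emb v :: t.map (up emb)) = Cfsg.reflectionMatrix (⇑Q) (up emb v) * RP Q (t.map (up emb)) by
        simp [RP], Matrix.map_mul, reflection_map emb hcomp, ih]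

include hcomp in
theorem QP_map (vs : List (ι → F₀)) : QP Q (vs.map (up emb)) = emb (QP Q₀ vs) := by
  induction vs with
  | nil => simp [QP]
  | cons v t ih =>
    simp only [QP, List.map_cons, List.prod_cons, map_mul, hcomp] at ih ⊢
    rw [ih]

include h2 hQ hcomp in
theorem incl_mem_iff (hQ₀ : (polarBilin Q₀).Nondegenerate) (hne : ∃ v, Q v ≠ 0) (hodd : Odd (Fintype.card ι))
    {o : Cfsg.isometryGroup F₀ ⇑Q₀} (ho : o.1.1.det = 1) :
    ∃ vs : List (ι → F₀), (∀ v ∈ vs, Q₀ v ≠ 0) ∧ o.1.1 = RP Q₀ vs ∧ Even vs.length ∧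
      (incl emb Q₀ hcomp (tG o) ∈ PGO.Ns Q ↔ IsSquare (emb (QP Q₀ vs))) := by
  have h20 : (2 : F₀) ≠ 0 := fun h => h2 (by rw [← map_ofNat emb 2, h, map_zero])
  obtain ⟨vs, hvs, hm⟩ := OmegaList.exists_list Q₀ (hc_odd Q₀ h20 hQ₀) o
  have he : Even vs.length := (det_RP_eq_one h20 hvs).mp (hm ▸ ho)
  have hws : ∀ w ∈ vs.map (up emb), Q w ≠ 0 := by
    intro w hw
    obtain ⟨v, hv, rfl⟩ := List.mem_map.mp hw
    rw [hcomp]; simpa using hvs v hv
  obtain ⟨p, hp⟩ := OmegaList.exists_iso Q _ hws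
  have e : incl emb Q₀ hcomp (tG o) = tG p := Subtype.ext (Units.ext (by
    show o.1.1.map emb = p.1.1
    rw [hm, RP_map emb hcomp, hp]))
  have hp1 : p.1.1.det = 1 := by rw [hp, det_RP_eq_one h2 hws, List.length_map]; exact he
  refine ⟨vs, hvs, hm, he, ?_⟩
  rw [e, tG_mem_Ns h2 hQ hodd hp1 hne, OmegaList.omega_iff_list Q (hc_odd Q h2 hQ) hQ p _ hws hp, List.length_map,
    and_iff_right he, QP_map emb hcomp]

end General

section Squares

variable {F : Type*} [Field F] [Fintype F] {F₀ : Type*} [Field F₀] [Fintype F₀] (emb : F₀ →+* F)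

theorem ringChar_ne {K : Type*} [Field K] (h2 : (2 : K) ≠ 0) : ringChar K ≠ 2 := fun h => by
  haveI : CharP K 2 := ringChar.of_eq h
  exact h2 (by exact_mod_cast CharP.cast_eq_zero K 2)

theorem isSquare_emb_two (h2 : (2 : F) ≠ 0) (hc : Fintype.card F = Fintype.card F₀ ^ 2) (a : F₀) :
    IsSquare (emb a) := by
  rcases eq_or_ne a 0 with rfl | ha
  · rw [map_zero]; exact IsSquare.zero
  have h20 : (2 : F₀) ≠ 0 := fun h => h2 (by rw [← map_ofNat emb 2, h, map_zero])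
  obtain ⟨k, hk⟩ := Nat.odd_iff.mpr (FiniteField.odd_card_of_char_ne_two (ringChar_ne h20))
  rw [FiniteField.isSquare_iff (ringChar_ne h2) (by simpa using ha), ← map_pow]
  have e : Fintype.card F / 2 = (Fintype.card F₀ - 1) * (k + 1) := by
    rw [hc, hk]
    have : (2 * k + 1) ^ 2 = 2 * (2 * k * (k + 1)) + 1 := by ring
    rw [this, Nat.add_sub_cancel]
    omega
  rw [e, pow_mul, FiniteField.pow_card_sub_one_eq_one a ha, one_pow, map_one]

theorem isSquare_emb_odd (h2 : (2 : F) ≠ 0) {r : ℕ} (hr : Odd r) (hc : Fintype.card F = Fintype.card F₀ ^ r) {a : F₀}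
    (h : IsSquare (emb a)) : IsSquare a := by
  rcases eq_or_ne a 0 with rfl | ha
  · exact IsSquare.zero
  have h20 : (2 : F₀) ≠ 0 := fun h => h2 (by rw [← map_ofNat emb 2, h, map_zero])
  obtain ⟨k, hk⟩ := Nat.odd_iff.mpr (FiniteField.odd_card_of_char_ne_two (ringChar_ne h20))
  obtain ⟨S, hS⟩ : ∃ S, S = ∑ i ∈ Finset.range r, (2 * k + 1) ^ i := ⟨_, rfl⟩
  have hSodd : Odd S := by
    rw [hS, Finset.odd_sum_iff_odd_card_odd, Finset.filter_true_of_mem fun i _ => Odd.pow ⟨k, rfl⟩,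
      Finset.card_range]
    exact hr
  have e : Fintype.card F / 2 = k * S := by
    have := geom_sum_mul_add (2 * k) r
    rw [← hS] at this
    rw [hc, hk, ← this, show S * (2 * k) = 2 * (k * S) by ring]
    omega
  rw [FiniteField.isSquare_iff (ringChar_ne h2) (by simpa using ha), ← map_pow, e, pow_mul] at h
  have h1 : (a ^ k) ^ S = 1 := emb.injective (h.trans (map_one emb).symm)
  rw [FiniteField.isSquare_iff (ringChar_ne h20) ha, show Fintype.card F₀ / 2 = k by omega]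
  rcases FiniteField.pow_dichotomy (ringChar_ne h20) ha with h' | h' <;>
    rw [show Fintype.card F₀ / 2 = k by omega] at h'
  · exact h'
  · rw [h', hSodd.neg_one_pow] at h1
    exact absurd (by linear_combination -h1) h20

end Squares

/-- The outer automorphism group, when the diagonal part has order two and the field part splits. -/
theorem out_split {G : Type*} [Group G] [Finite G] {R : Type*} [Group R] (π : MulAut G →* R) (fl : R →* MulAut G)
    (hsec : ∀ σ, π (fl σ) = σ) (hle : Cfsg.Inn G ≤ π.ker) (h2 : (Cfsg.Inn G).relIndex π.ker = 2) {f : ℕ}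
    (hcyc : IsCyclic R) (hf : Nat.card R = f) :
    Nonempty (Cfsg.Out G ≃* Multiplicative (ZMod 2 × ZMod f)) := by
  let φ : Cfsg.Out G →* R := QuotientGroup.lift (Cfsg.Inn G) π hle
  let s : R →* Cfsg.Out G := (QuotientGroup.mk' (Cfsg.Inn G)).comp fl
  have hs : ∀ σ, φ (s σ) = σ := hsec
  have hK : φ.ker = π.ker.map (QuotientGroup.mk' (Cfsg.Inn G)) := QuotientGroup.ker_lift _ _ hle
  have hcard : Nat.card φ.ker = 2 := by rw [hK, ← Subgroup.relIndex_ker, QuotientGroup.ker_mk', h2]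
  have hcomm : ∀ (a : φ.ker) (x : Cfsg.Out G), Commute x a.1 := by
    intro a x
    rcases eq_or_ne a 1 with rfl | ha
    · exact Commute.one_right x
    have hm : x * a.1 * x⁻¹ ∈ φ.ker := (inferInstance : φ.ker.Normal).conj_mem _ a.2 x
    obtain ⟨y, -, hy⟩ := (Nat.card_eq_two_iff' (1 : φ.ker)).mp hcard
    have h1 : (⟨_, hm⟩ : φ.ker) ≠ 1 := fun h => ha (Subtype.ext (by
      have := congrArg Subtype.val h
      simpa using this))
    have e : x * a.1 * x⁻¹ = a.1 := congrArg Subtype.val ((hy ⟨_, hm⟩ h1).trans (hy a ha).symm)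
    exact mul_inv_eq_iff_eq_mul.mp e
  let Ψ : φ.ker × R →* Cfsg.Out G := φ.ker.subtype.noncommCoprod s fun a σ => (hcomm a (s σ)).symm
  have hΨ : Function.Bijective Ψ := by
    refine ⟨(injective_iff_map_eq_one Ψ).mpr ?_, fun x => ⟨(⟨x * (s (φ x))⁻¹, by
      rw [MonoidHom.mem_ker, map_mul, map_inv, hs, mul_inv_cancel]⟩, φ x), ?_⟩⟩
    · rintro ⟨a, σ⟩ h
      replace h : a.1 * s σ = 1 := h
      have hσ : σ = 1 := by
        have := congrArg φ h
        rwa [map_mul, MonoidHom.mem_ker.mp a.2, one_mul, hs, map_one] at this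
      rw [hσ, map_one, mul_one] at h
      exact Prod.ext (Subtype.ext h) hσ
    · show x * (s (φ x))⁻¹ * s (φ x) = x
      rw [inv_mul_cancel_right]
  haveI : IsCyclic φ.ker := isCyclic_of_prime_card hcard
  let e2 : φ.ker ≃* Multiplicative (ZMod 2) := mulEquivOfCyclicCardEq
    (hcard.trans ((Nat.card_congr Multiplicative.toAdd).trans (Nat.card_zmod 2)).symm)
  let ef : R ≃* Multiplicative (ZMod f) := mulEquivOfCyclicCardEq
    (hf.trans ((Nat.card_congr Multiplicative.toAdd).trans (Nat.card_zmod f)).symm)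
  exact ⟨((MulEquiv.ofBijective Ψ hΨ).symm.trans (e2.prodCongr ef)).trans (MulEquiv.prodMultiplicative (ZMod 2) (ZMod f)).symm⟩

section Odd

open StdQuadForms

variable {F : Type*} [Field F] [Fintype F] {m : ℕ}

local notation "ι'" => (Unit ⊕ (Fin m ⊕ Fin m))

theorem Qo_eq {K : Type*} [Field K] (m : ℕ) : ⇑(Qo (F := K) m) = Cfsg.quadFormOdd m K :=
  funext (Qo_apply m)

theorem two_ne_odd (h : Odd (Fintype.card F)) : (2 : F) ≠ 0 :=
  FiniteForms.two_ne_zero_of_odd rfl h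

theorem card_odd_idx : Fintype.card (Unit ⊕ (Fin m ⊕ Fin m)) = 2 * m + 1 := by simp; omega

theorem odd_idx : Odd (Fintype.card (Unit ⊕ (Fin m ⊕ Fin m))) := ⟨m, card_odd_idx⟩

theorem hn_odd (hm : 3 ≤ m) : 7 ≤ Fintype.card (Unit ⊕ (Fin m ⊕ Fin m)) := by rw [card_odd_idx]; omega

theorem Qo_fixed : Fixed (Qo (F := F) m) := fun σ v => by
  simp [Qo_apply, Cfsg.quadFormOdd, σv, map_sum]

theorem Qo_comp {F₀ : Type*} [Field F₀] (emb : F₀ →+* F) (v : Unit ⊕ (Fin m ⊕ Fin m) → F₀) :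
    Qo m (up emb v) = emb (Qo m v) := by
  simp [Qo_apply, Cfsg.quadFormOdd, up, map_sum]

theorem Qo_max (h2 : (2 : F) ≠ 0) :
    (∀ W : Submodule F (Unit ⊕ (Fin m ⊕ Fin m) → F), (∀ a ∈ W, Qo m a = 0) →
      2 * finrank F W < Fintype.card (Unit ⊕ (Fin m ⊕ Fin m))) ∨
      10 ≤ Fintype.card (Unit ⊕ (Fin m ⊕ Fin m)) := Or.inl fun W hW => by
  have h := PGO.singular_le (Qo_nondeg h2 m) W hW
  rw [card_odd_idx] at h ⊢
  omega

/-- A vector of the `i`th hyperbolic pair. -/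
def hv (i : Fin m) (a b : F) : Unit ⊕ (Fin m ⊕ Fin m) → F :=
  Pi.single (Sum.inr (Sum.inl i)) a + Pi.single (Sum.inr (Sum.inr i)) b

/-- The extra basis vector. -/
def e0 : Unit ⊕ (Fin m ⊕ Fin m) → F := Pi.single (Sum.inl ()) 1

theorem Qo_hv (i : Fin m) (a b : F) : Qo m (hv i a b) = a * b := by
  simp [Qo_apply, Cfsg.quadFormOdd, hv, Pi.single_apply]

theorem Qo_e0 : Qo m (e0 (F := F) (m := m)) = 1 := by
  simp [Qo_apply, Cfsg.quadFormOdd, e0, Pi.single_apply]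

theorem polar_e0_hv (i : Fin m) (a b : F) : polar (Qo m) (e0 (F := F)) (hv i a b) = 0 := by
  simp [polar, Qo_apply, Cfsg.quadFormOdd, e0, hv, Pi.single_apply]

theorem polar_hv_hv {i j : Fin m} (hij : i ≠ j) (a b c d : F) : polar (Qo m) (hv i a b) (hv j c d) = 0 := by
  simp [polar, Qo_apply, Cfsg.quadFormOdd, hv, Pi.single_apply, add_mul, mul_add, Finset.sum_add_distrib, hij,
    hij.symm]

theorem Ns_index_odd (h2 : (2 : F) ≠ 0) (hm : 1 ≤ m) : (PGO.Ns (Qo (F := F) m)).index = 2 := by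
  obtain ⟨ν, hν⟩ := PGO.exists_nonsquare h2
  refine Ns_index h2 (Qo_nondeg h2 m) odd_idx (u := e0) (w := hv ⟨0, hm⟩ 1 ν) ?_ ?_ ?_
  · rw [Qo_e0]; exact one_ne_zero
  · rw [Qo_hv, one_mul]; exact ν.ne_zero
  · rw [Qo_e0, Qo_hv, one_mul, one_mul]; exact hν

variable (h2 : (2 : F) ≠ 0) (hm : 3 ≤ m)

include h2 hm in
theorem ker_le_Ns : (PGO.Θ (Qo (F := F) m)).ker ≤ PGO.Ns (Qo m) := fun g hg => by
  obtain ⟨c, hc⟩ := (Θ_eq_one (Qo_nondeg h2 m) (hn_odd hm) g).mp hg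
  exact ⟨c, 1, one_mem _, by rw [hc, mul_one]⟩

theorem inn_le_range : Cfsg.Inn (Cfsg.POmega F ⇑(Qo (F := F) m)) ≤ (PGO.Θ (Qo m)).range := by
  rw [PGO.inn_eq]; exact Subgroup.map_le_range _ _

include h2 hm in
theorem inn_relIndex : (Cfsg.Inn (Cfsg.POmega F ⇑(Qo (F := F) m))).relIndex (PGO.Θ (Qo m)).range = 2 := by
  rw [← Subgroup.index_comap, PGO.inn_eq, Subgroup.comap_map_eq]
  rw [sup_eq_left.mpr (ker_le_Ns h2 hm)]
  exact Ns_index_odd h2 (by omega)

include h2 in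
/-- Every nondegenerate form in odd dimension is similar to the standard one. -/
theorem classify (R : QuadraticForm F (ι' → F)) (hR : (polarBilin R).Nondegenerate) :
    ∃ (P : GL ι' F) (s : F), s ≠ 0 ∧ ∀ v, R (P.1 *ᵥ v) = s * Qo m v := by
  have dR := FiniteForms.polarMat_det_ne_zero hR
  have dQ := FiniteForms.polarMat_det_ne_zero (Qo_nondeg h2 m)
  obtain ⟨s, hs⟩ : ∃ s, s = (FiniteForms.polarMat ⇑R).det * (FiniteForms.polarMat ⇑(Qo (F := F) m)).det := ⟨_, rfl⟩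
  have hs0 : s ≠ 0 := hs ▸ mul_ne_zero dR dQ
  have hd : (FiniteForms.polarMat ⇑(s • Qo (F := F) m)).det =
      s ^ (2 * m + 1) * (FiniteForms.polarMat ⇑(Qo (F := F) m)).det := by
    rw [FiniteForms.polarMat_smul, Matrix.det_smul, card_odd_idx]
  have hc : FiniteForms.Congr (FiniteForms.polarMat ⇑R) (FiniteForms.polarMat ⇑(s • Qo (F := F) m)) := by
    rw [FiniteForms.congr_iff h2 (FiniteForms.polarMat_isSymm _) (FiniteForms.polarMat_isSymm _) dR
      (by rw [hd]; exact mul_ne_zero (pow_ne_zero _ hs0) dQ)]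
    refine ⟨s ^ (m + 1), ?_⟩
    rw [hd, ← pow_add, show m + 1 + (m + 1) = (2 * m + 1) + 1 by ring, pow_succ _ (2 * m + 1)]
    conv_rhs => arg 2; rw [hs]
    ring
  obtain ⟨g, hg⟩ := FiniteForms.isometry_of_congr h2 (s • Qo (F := F) m) R hc
  refine ⟨Matrix.GeneralLinearGroup.mkOfDetNeZero (LinearMap.toMatrix' g.toLinearMap)
    (by rw [LinearMap.det_toMatrix']; exact g.isUnit_det'.ne_zero), s, hs0, fun v => ?_⟩
  show R (LinearMap.toMatrix' g.toLinearMap *ᵥ v) = _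
  rw [LinearMap.toMatrix'_mulVec, LinearEquiv.coe_coe, hg, _root_.smul_apply, smul_eq_mul]

include h2 hm in
theorem exists_conj_of_pow (σ : RingAut F) (g : PGO.GO (Qo (F := F) m))
    (h : (PGO.Θ (Qo m) g * fld Qo_fixed σ) ^ orderOf σ = 1) :
    ∃ k : PGO.GO (Qo (F := F) m), PGO.Θ (Qo m) g * fld Qo_fixed σ =
      PGO.Θ (Qo m) k * fld Qo_fixed σ * (PGO.Θ (Qo m) k)⁻¹ := by
  haveI : Fintype (PSLn.fixedField σ) := Fintype.ofFinite _
  obtain ⟨emb, hι⟩ := FieldGen.exists_emb σ (PSLn.fixedField σ) Nat.card_eq_fintype_card.symm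
  obtain ⟨hh, d, b, R₀, hd, hb, hdh, hR₀, hR⟩ := exists_form emb Qo_fixed (Qo_nondeg h2 m) (hn_odd hm) hι g h
  have h20 : (2 : PSLn.fixedField σ) ≠ 0 := fun e => h2 (by rw [← map_ofNat emb 2, e, map_zero])
  obtain ⟨P, s, hs, hP⟩ := classify h20 R₀ hR₀
  exact exists_conj_of_form emb (Qo m) (Qo_comp emb) hι hd hb hdh hR hs hP Qo_fixed

include h2 hm in
theorem exists_field_part : ∃ π : MulAut (Cfsg.POmega F ⇑(Qo (F := F) m)) →* RingAut F,
    π.ker = (PGO.Θ (Qo m)).range ∧ ∀ σ, π (fld Qo_fixed σ) = σ :=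
  exists_fieldPart Qo_fixed (Qo_nondeg h2 m) (hn_odd hm) (Qo_max h2)

include h2 hm in
theorem out_odd {p f : ℕ} [Fact p.Prime] (hF : Fintype.card F = p ^ f) :
    Nonempty (Cfsg.Out (Cfsg.POmega F ⇑(Qo (F := F) m)) ≃* Multiplicative (ZMod 2 × ZMod f)) := by
  have hF' : Nat.card F = p ^ f := by rw [Nat.card_eq_fintype_card, hF]
  haveI : CharP F p := PSLn.charP_of_card hF
  obtain ⟨π, hk, hs⟩ := exists_field_part h2 hm
  obtain ⟨hcyc, hcard⟩ := Chev.ringAut_cyclic_card p hF'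
  exact out_split π (fld Qo_fixed) hs (hk ▸ inn_le_range) (hk ▸ inn_relIndex h2 hm) hcyc hcard

theorem card_pow {F₀ : Type*} [Field F₀] [Fintype F₀] (emb : F₀ →+* F) {σ : RingAut F}
    (hι : ∀ y, σ y = y ↔ y ∈ emb.range) : Fintype.card F = Fintype.card F₀ ^ orderOf σ := by
  have h₀ : Nat.card (PSLn.fixedField σ) = Nat.card F₀ :=
    Nat.card_congr ((Equiv.subtypeEquivRight fun y => hι y).trans (Equiv.ofInjective emb emb.injective).symm)
  rw [PSLn.card_eq_fixedField_pow σ, h₀, Nat.card_eq_fintype_card]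

include h2 hm in
theorem splitCount {F₀ : Type*} [Field F₀] [Fintype F₀] (emb : F₀ →+* F) {σ : RingAut F}
    (hι : ∀ y, σ y = y ↔ y ∈ emb.range) :
    (Odd (orderOf σ) → Cfsg.splitClassCount (PGO.Θ (Qo (F := F) m)).range
        (Cfsg.Inn (Cfsg.POmega F ⇑(Qo (F := F) m))) (fld Qo_fixed σ) = 1) ∧
      (orderOf σ = 2 → Cfsg.splitClassCount (PGO.Θ (Qo (F := F) m)).range
        (Cfsg.Inn (Cfsg.POmega F ⇑(Qo (F := F) m))) (fld Qo_fixed σ) = 2) := by
  have h20 : (2 : F₀) ≠ 0 := fun e => h2 (by rw [← map_ofNat emb 2, e, map_zero])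
  have hQ := Qo_nondeg h2 m
  have hQ₀ := Qo_nondeg h20 m
  obtain ⟨K, hK⟩ : ∃ K, K = (incl emb (Qo (F := F₀) m) (Qo_comp (F := F) emb)).range := ⟨_, rfl⟩
  have hcount : Cfsg.splitClassCount (PGO.Θ (Qo (F := F) m)).range
      (Cfsg.Inn (Cfsg.POmega F ⇑(Qo (F := F) m))) (fld Qo_fixed σ) = (PGO.Ns (Qo (F := F) m) ⊔ K).index := by
    rw [PSLn.splitClassCount_eq _ _ inn_le_range, ← Subgroup.index_comap,
      ← range_centralizer emb (Qo m) (Qo_comp emb) Qo_fixed hQ (hn_odd hm) hι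
        ⟨e0, by rw [Qo_e0]; exact one_ne_zero⟩, MonoidHom.range_comp, ← hK, PGO.inn_eq, ← Subgroup.map_sup,
      Subgroup.comap_map_eq, sup_eq_left.mpr ((ker_le_Ns h2 hm).trans le_sup_left)]
  have hne : ∃ v, Qo (F := F) m v ≠ 0 := ⟨e0, by rw [Qo_e0]; exact one_ne_zero⟩
  rw [hcount]
  have hNs := Ns_index_odd (F := F) (m := m) h2 (by omega)
  constructor
  · intro hr
    obtain ⟨ν, hν⟩ := PGO.exists_nonsquare (F := F₀) h20
    have hu : Qo (F := F₀) m e0 ≠ 0 := by rw [Qo_e0]; exact one_ne_zero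
    have hw : Qo (F := F₀) m (hv ⟨0, by omega⟩ 1 ν) ≠ 0 := by rw [Qo_hv, one_mul]; exact ν.ne_zero
    obtain ⟨z, hz1, hz⟩ := exists_pair hu hw
    obtain ⟨vs, hvs, hm', he, hiff⟩ := incl_mem_iff h2 hQ emb (Qo_comp emb) hQ₀ hne odd_idx hz1
    have hzn : ¬ IsSquare (QP (Qo (F := F₀) m) vs) := by
      intro hsq
      have hzΩ := (OmegaList.omega_iff_list (Qo (F := F₀) m) (hc_odd _ h20 hQ₀) hQ₀ z vs hvs hm').mpr ⟨he, hsq⟩
      have := ((OmegaList.omega_iff_list (Qo (F := F₀) m) (hc_odd _ h20 hQ₀) hQ₀ z [e0, hv ⟨0, by omega⟩ 1 ν]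
        (by simp [hu, hw]) hz).mp hzΩ).2
      exact hν (by simpa [QP, Qo_e0, Qo_hv] using this)
    have hlt : ¬ K ≤ PGO.Ns (Qo (F := F) m) := fun hle =>
      hzn (isSquare_emb_odd emb h2 hr (card_pow emb hι) (hiff.mp (hle (hK ▸ ⟨_, rfl⟩))))
    have hd := Subgroup.index_dvd_of_le (le_sup_left : PGO.Ns (Qo (F := F) m) ≤ PGO.Ns (Qo (F := F) m) ⊔ K)
    rw [hNs, Nat.dvd_prime Nat.prime_two] at hd
    refine hd.resolve_right fun h2' => hlt ?_
    have h1 := Subgroup.relIndex_mul_index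
      (le_sup_left : PGO.Ns (Qo (F := F) m) ≤ PGO.Ns (Qo (F := F) m) ⊔ K)
    rw [h2', hNs] at h1
    have h1' : (PGO.Ns (Qo (F := F) m)).relIndex (PGO.Ns (Qo (F := F) m) ⊔ K) = 1 := by omega
    exact le_sup_right.trans (Subgroup.relIndex_eq_one.mp h1')
  · intro hr
    have hle : K ≤ PGO.Ns (Qo (F := F) m) := by
      rw [hK]
      rintro _ ⟨y, rfl⟩
      obtain ⟨c, o, ho, e⟩ := exists_split hQ₀ odd_idx y
      obtain ⟨vs, -, -, -, hiff⟩ := incl_mem_iff h2 hQ emb (Qo_comp emb) hQ₀ hne odd_idx ho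
      have hc := card_pow emb hι
      rw [hr] at hc
      have hmem := hiff.mpr (isSquare_emb_two emb h2 hc _)
      have ey : y = ⟨PGO.sc c, PGO.sc_mem _ c⟩ * tG o := Subtype.ext e
      rw [ey, map_mul]
      refine mul_mem ⟨Units.map emb.toMonoidHom c, 1, one_mem _, ?_⟩ hmem
      refine Units.ext ?_
      rw [incl_val, mul_one, PGO.sc_val, PGO.sc_val, FieldGen.map_smul_hom,
        Matrix.map_one _ (map_zero emb) (map_one emb)]
      rfl
    rw [sup_eq_left.mpr hle]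
    exact hNs

include h2 hm in
theorem conj_range_mem_iff (x : MulAut (Cfsg.POmega F ⇑(Qo (F := F) m))) :
    Cfsg.IsSimilarityInducedAutPOmega (⇑(Qo (F := F) m)) x ↔ x ∈ (PGO.Θ (Qo m)).range := by
  constructor
  · rintro ⟨g, hg, h⟩
    exact ⟨⟨g, hg⟩, ((PGO.induced_iff (Qo m) ⟨g, hg⟩ x).mp h).symm⟩
  · rintro ⟨g, rfl⟩
    exact ⟨g.1, g.2, (PGO.induced_iff (Qo m) g _).mpr rfl⟩

include h2 hm in
/-- An automorphism of prime order which is not inner-diagonal is a field automorphism. -/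
theorem exists_field_conj {p : ℕ} [hp : Fact p.Prime] {x : MulAut (Cfsg.POmega F ⇑(Qo (F := F) m))}
    (hord : orderOf x = p) (hnot : x ∉ (PGO.Θ (Qo m)).range) :
    ∃ (k : PGO.GO (Qo (F := F) m)) (τ : RingAut F), τ ≠ 1 ∧ orderOf τ = p ∧
      x = PGO.Θ (Qo m) k * fld Qo_fixed τ * (PGO.Θ (Qo m) k)⁻¹ := by
  obtain ⟨π, hk, hs⟩ := exists_field_part h2 hm
  obtain ⟨g, τ, hx⟩ := decomp Qo_fixed (Qo_nondeg h2 m) (hn_odd hm) (Qo_max h2) x
  have hg : π (PGO.Θ (Qo m) g) = 1 := by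
    rw [← MonoidHom.mem_ker, hk]; exact ⟨g, rfl⟩
  have hπ : π x = τ := by rw [hx, map_mul, hg, one_mul, hs]
  have hτ1 : τ ≠ 1 := fun h => hnot (by rw [hx, h, map_one, mul_one]; exact ⟨g, rfl⟩)
  have hτp : orderOf τ = p := by
    rw [← hord] at hp ⊢
    refine ((Nat.dvd_prime hp.out).mp (hπ ▸ orderOf_map_dvd π x)).resolve_left fun h => hτ1 ?_
    exact orderOf_eq_one_iff.mp h
  obtain ⟨k, hk'⟩ := exists_conj_of_pow h2 hm τ g (by rw [hτp, ← hord, ← hx]; exact pow_orderOf_eq_one x)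
  exact ⟨k, τ, hτ1, hτp, hx.trans hk'⟩

include h2 hm in
theorem exists_fixed (τ : RingAut F) :
    ∃ a : Cfsg.POmega F ⇑(Qo (F := F) m), a ≠ 1 ∧ fld Qo_fixed τ a = a := by
  haveI : Fintype (PSLn.fixedField τ) := Fintype.ofFinite _
  obtain ⟨emb, hι⟩ := FieldGen.exists_emb τ (PSLn.fixedField τ) Nat.card_eq_fintype_card.symm
  have h20 : (2 : PSLn.fixedField τ) ≠ 0 := fun e => h2 (by rw [← map_ofNat emb 2, e, map_zero])
  haveI := OmegaSimple.pomega_simple (Qo (F := PSLn.fixedField τ) m) _ (fun _ => rfl) (Qo_nondeg h20 m)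
    (by rw [card_odd_idx]; omega)
  obtain ⟨a, ha⟩ := exists_ne (1 : Cfsg.POmega (PSLn.fixedField τ) ⇑(Qo (F := PSLn.fixedField τ) m))
  obtain ⟨s, rfl⟩ := QuotientGroup.mk_surjective a
  refine ⟨QuotientGroup.mk (inclΩ emb (Qo m) (Qo_comp emb) s), fun h => ha ?_,
    inclΩ_fixed emb (Qo m) (Qo_comp emb) Qo_fixed hι s⟩
  rw [QuotientGroup.eq_one_iff] at h ⊢
  refine Subgroup.mem_center_iff.mpr fun k => Subtype.ext (Subtype.ext (Units.ext ?_))
  show k.1.1.1 * s.1.1.1 = s.1.1.1 * k.1.1.1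
  have hinj : Function.Injective fun M : Matrix ι' ι' (PSLn.fixedField τ) => M.map emb :=
    Matrix.map_injective emb.injective
  rcases POmegaCard.center_cases (Qo m) (by rw [card_odd_idx]; omega) (Qo_nondeg h2 m) _ h with h' | h' <;>
    rw [inclΩ_val] at h'
  · rw [hinj (h'.trans (Matrix.map_one _ (map_zero emb) (map_one emb)).symm), mul_one, one_mul]
  · rw [hinj (a₁ := s.1.1.1) (a₂ := -1) (h'.trans (by
      ext i j
      rcases eq_or_ne i j with rfl | hij <;> simp [*])), mul_neg, neg_mul,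
      mul_one, one_mul]

include h2 hm in
theorem two_dvd_card : 2 ∣ Nat.card (Cfsg.POmega F ⇑(Qo (F := F) m)) := by
  have hQ := Qo_nondeg h2 m
  let w : Unit ⊕ (Fin m ⊕ Fin m) → F := hv ⟨0, by omega⟩ 1 1
  let x : Unit ⊕ (Fin m ⊕ Fin m) → F := hv ⟨1, by omega⟩ 1 1
  have hu : Qo m (e0 (F := F)) = 1 := Qo_e0
  have hw : Qo m w = 1 := by rw [Qo_hv, one_mul]
  have huw : polar (Qo m) (e0 (F := F)) w = 0 := polar_e0_hv _ _ _
  have hu0 : Qo m (e0 (F := F)) ≠ 0 := hu ▸ one_ne_zero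
  have hw0 : Qo m w ≠ 0 := hw ▸ one_ne_zero
  let a : Cfsg.isometryGroup F ⇑(Qo (F := F) m) := (isoEquiv (Qo (F := F) m)).symm (SpinorNorm.refl (Qo (F := F) m) hu0)
  let b : Cfsg.isometryGroup F ⇑(Qo (F := F) m) := (isoEquiv (Qo (F := F) m)).symm (SpinorNorm.refl (Qo (F := F) m) hw0)
  have hsq : a * a = 1 ∧ b * b = 1 := by
    constructor <;> rw [← map_mul, refl_mul_self, map_one]
  have ha : ∀ y, a.1.1 *ᵥ y = y + (-(polar (Qo m) (e0 (F := F)) y)) • e0 := fun y => by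
    rw [OmegaList.symm_refl_matrix, PolarVec.reflection_mulVec, hu, inv_one, one_mul]
  have hb : ∀ y, b.1.1 *ᵥ y = y + (-(polar (Qo m) w y)) • w := fun y => by
    rw [OmegaList.symm_refl_matrix, PolarVec.reflection_mulVec, hw, inv_one, one_mul]
  have hwu : polar (Qo m) w (e0 (F := F)) = 0 := by rw [polar_comm]; exact huw
  have hab : a * b = b * a := Subtype.ext (Units.ext (Matrix.ext_of_mulVec_single fun j => by
    show (a.1.1 * b.1.1) *ᵥ _ = (b.1.1 * a.1.1) *ᵥ _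
    rw [← Matrix.mulVec_mulVec, ← Matrix.mulVec_mulVec]
    simp only [ha, hb, polar_add_right, polar_smul_right, huw, hwu, smul_eq_mul, mul_zero, add_zero]
    module))
  have hmem : a * b ∈ Cfsg.Omega F ⇑(Qo (F := F) m) := by
    rw [OmegaList.omega_iff_list (Qo m) (hc_odd _ h2 hQ) hQ (a * b) [e0, w] (by simp [hu0, hw0]) (by
      show a.1.1 * b.1.1 = _
      rw [OmegaList.symm_refl_matrix, OmegaList.symm_refl_matrix]
      simp [RP])]
    simp [QP, hu, hw]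
  obtain ⟨z, hz⟩ : ∃ z : Cfsg.Omega F ⇑(Qo (F := F) m), z = ⟨a * b, hmem⟩ := ⟨_, rfl⟩
  have hz2 : (QuotientGroup.mk z : Cfsg.POmega F ⇑(Qo (F := F) m)) ^ 2 = 1 := by
    rw [pow_two, ← QuotientGroup.mk_mul, show z * z = 1 from Subtype.ext (by
      rw [hz]
      show a * b * (a * b) = 1
      rw [mul_assoc, ← mul_assoc b, ← hab, mul_assoc a b b, hsq.2, mul_one, hsq.1]), QuotientGroup.mk_one]
  have hzv : ∀ y, z.1.1.1 *ᵥ y = a.1.1 *ᵥ (b.1.1 *ᵥ y) := fun y => by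
    rw [hz, Matrix.mulVec_mulVec]; rfl
  have hz1 : (QuotientGroup.mk z : Cfsg.POmega F ⇑(Qo (F := F) m)) ≠ 1 := fun h => by
    rw [QuotientGroup.eq_one_iff] at h
    rcases POmegaCard.center_cases (Qo m) (by rw [card_odd_idx]; omega) hQ _ h with h' | h'
    · have e1 := congrFun (hzv e0) (Sum.inl ())
      rw [h', hb, hwu, ha] at e1
      simp [polar, Qo_apply, Cfsg.quadFormOdd, e0] at e1
      first
      | exact h2 (by linear_combination e1)
      | exact h2 (by linear_combination -e1)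
    · have e1 := congrFun (hzv x) (Sum.inr (Sum.inl ⟨1, by omega⟩))
      have hwx : polar (Qo m) w x = 0 := polar_hv_hv (by simp) _ _ _ _
      rw [h', hb, hwx, neg_zero, zero_smul, add_zero, ha, polar_e0_hv, neg_zero, zero_smul, add_zero] at e1
      simp [x, hv, Matrix.neg_mulVec, Matrix.one_mulVec] at e1
      first
      | exact h2 (by linear_combination e1)
      | exact h2 (by linear_combination -e1)
  rw [← orderOf_eq_prime hz2 hz1]
  exact orderOf_dvd_natCard _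

include h2 hm in
theorem dvd_of_dvd_range {p : ℕ} (hp : p.Prime) (h : p ∣ Nat.card (PGO.Θ (Qo (F := F) m)).range) :
    p ∣ Nat.card (Cfsg.POmega F ⇑(Qo (F := F) m)) := by
  rw [← ((Cfsg.Inn (Cfsg.POmega F ⇑(Qo (F := F) m))).subgroupOf (PGO.Θ (Qo m)).range).card_mul_index,
    Nat.card_congr (Subgroup.subgroupOfEquivOfLe inn_le_range).toEquiv,
    show ((Cfsg.Inn (Cfsg.POmega F ⇑(Qo (F := F) m))).subgroupOf (PGO.Θ (Qo m)).range).index =
      (Cfsg.Inn (Cfsg.POmega F ⇑(Qo (F := F) m))).relIndex (PGO.Θ (Qo m)).range from rfl, inn_relIndex h2 hm,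
    ← Nat.card_congr (MonoidHom.ofInjective (conj_injective (Qo_nondeg h2 m) (hn_odd hm))).toEquiv] at h
  rcases hp.dvd_mul.mp h with h | h
  · exact h
  · rw [(Nat.prime_dvd_prime_iff_eq hp Nat.prime_two).mp h]
    exact two_dvd_card h2 hm

include h2 hm in
theorem rigid_odd (τ : RingAut F) {p : ℕ} [hp : Fact p.Prime] (hτ : orderOf τ = p) :
    CoreGen.Rigid p (fld (Qo_fixed (F := F) (m := m)) τ) := by
  haveI : Fintype (PSLn.fixedField τ) := Fintype.ofFinite _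
  obtain ⟨emb, hι⟩ := FieldGen.exists_emb τ (PSLn.fixedField τ) Nat.card_eq_fintype_card.symm
  have h20 : (2 : PSLn.fixedField τ) ≠ 0 := fun e => h2 (by rw [← map_ofNat emb 2, e, map_zero])
  exact rigid_field emb (Qo m) (Qo_comp emb) Qo_fixed (Qo_nondeg h2 m) (Qo_nondeg h20 m) (hn_odd hm) (Qo_max h2)
    hι hτ (dvd_of_dvd_range h20 hm hp.out)

end Odd

end CfsgLib.OrthAut
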