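import Cfsg.Agent.Lib.OrthAut.Span

/-!
Root groups, point stabilisers and Sylow subgroups of the simple orthogonal groups.
-/

set_option autoImplicit false
set_option linter.unusedSectionVars false

namespace CfsgLib.OrthAut

open QuadraticMap CfsgLib.WittExtension Module CfsgLib.Eichler CfsgLib.OmegaSimple
open scoped commutatorElement

variable {F V : Type*} [Field F] [Finite F] [AddCommGroup V] [Module F V] [FiniteDimensional F V]
variable (Q : QuadraticForm F V)

/-- Non-zero singular vectors. -/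
abbrev Sing := {e : V // e ≠ 0 ∧ Q e = 0}

/-- The group generated by the Siegel transformations. -/
abbrev Om : Subgroup (quadIso Q) := Subgroup.closure (Sieg Q)

/-- Its simple quotient. -/
abbrev POm := ↥(Om Q) ⧸ Subgroup.center ↥(Om Q)

/-- The projection. -/
abbrev pr : ↥(Om Q) →* POm Q := QuotientGroup.mk' _

theorem pr_surj : Function.Surjective (pr Q) := QuotientGroup.mk'_surjective _

variable {Q}

/-- The point of a singular vector. -/
abbrev Sing.p (e : Sing Q) : SPt Q := pt e.2.1 e.2.2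

/-- Image of a singular vector. -/
def Sing.map (e : Sing Q) (g : quadIso Q) : Sing Q :=
  ⟨g.1 e.1, fun h => e.2.1 (g.1.injective (h.trans g.1.map_zero.symm)), by rw [g.2]; exact e.2.2⟩

theorem Sing.map_p (e : Sing Q) (g : quadIso Q) : (e.map g).p = g • e.p := (smul_pt g e.2.1 e.2.2).symm

theorem Sing.p_eq_iff {e e' : Sing Q} : e.p = e'.p ↔ ∃ c : F, e.1 = c • e'.1 := by
  constructor
  · intro h
    have h' : Submodule.span F {e.1} = Submodule.span F {e'.1} := congrArg Subtype.val h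
    obtain ⟨c, hc⟩ := Submodule.mem_span_singleton.mp (h' ▸ Submodule.mem_span_singleton_self e.1)
    exact ⟨c, hc.symm⟩
  · rintro ⟨c, hc⟩
    exact pt_eq e.2.1 e.2.2 e'.2.1 e'.2.2 c hc

theorem Sing.fix_iff {e : Sing Q} {g : quadIso Q} : g • e.p = e.p ↔ ∃ c : F, c ≠ 0 ∧ g.1 e.1 = c • e.1 := by
  rw [← e.map_p g, Sing.p_eq_iff]
  refine ⟨fun ⟨c, hc⟩ => ⟨c, fun h => (e.map g).2.1 (by rw [hc, h, zero_smul]), hc⟩, fun ⟨c, _, hc⟩ => ⟨c, hc⟩⟩

variable (Q)

/-- The root group of a singular vector. -/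
def rad (e : Sing Q) : Subgroup ↥(Om Q) := (eichSub Q e.2.2).subgroupOf (Om Q)

/-- Its image. -/
def A (e : Sing Q) : Subgroup (POm Q) := (rad Q e).map (pr Q)

/-- The stabiliser of a singular point. -/
def ST (e : Sing Q) : Subgroup (POm Q) := (MulAction.stabilizer ↥(Om Q) e.p).map (pr Q)

variable {Q}

theorem mem_rad {e : Sing Q} {g : Om Q} : g ∈ rad Q e ↔ ∃ w, polar Q e.1 w = 0 ∧ IsEich Q e.1 w g.1 :=
  Iff.rfl

theorem A_congr {e e' : Sing Q} (h : e.p = e'.p) : A Q e = A Q e' := by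
  obtain ⟨c, hc⟩ := Sing.p_eq_iff.mp h
  rw [A, A, rad, rad, eichSub_eq Q e.2.2 e'.2.2 (fun h0 => e.2.1 (by rw [hc, h0, zero_smul])) hc]

theorem ST_congr {e e' : Sing Q} (h : e.p = e'.p) : ST Q e = ST Q e' := by rw [ST, ST, h]

theorem eich_self {e w : V} (he : Q e = 0) (hew : polar Q e w = 0) {g : quadIso Q} (hg : IsEich Q e w g) :
    g.1 e = e := by
  rw [hg e, ReflectionGen.pol_self, he, polar_comm Q w e, hew]; simp

theorem conj_mem_A {e : Sing Q} (g : Om Q) {y : POm Q} (hy : y ∈ A Q e) :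
    pr Q g * y * (pr Q g)⁻¹ ∈ A Q (e.map g.1) := by
  obtain ⟨k, ⟨w, hw, hk⟩, rfl⟩ := hy
  refine ⟨g * k * g⁻¹, ⟨g.1.1 w, ?_, eich_conj Q hk g.1⟩, by simp⟩
  show polar Q (g.1.1 e.1) (g.1.1 w) = 0
  rw [OrthOrder.polar_map g.1.2]; exact hw

theorem rad_le_stab (e : Sing Q) : rad Q e ≤ MulAction.stabilizer ↥(Om Q) e.p := by
  rintro g ⟨w, hw, hg⟩
  exact Sing.fix_iff.mpr ⟨1, one_ne_zero, by rw [one_smul]; exact eich_self e.2.2 hw hg⟩

theorem A_le_ST (e : Sing Q) : A Q e ≤ ST Q e := Subgroup.map_mono (rad_le_stab e)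

theorem ST_normalizes (e : Sing Q) : ST Q e ≤ Subgroup.normalizer (A Q e : Set (POm Q)) := by
  have key : ∀ x ∈ ST Q e, ∀ y ∈ A Q e, x * y * x⁻¹ ∈ A Q e := by
    rintro - ⟨g, hg, rfl⟩ y hy
    have := conj_mem_A g hy
    rwa [A_congr (e' := e) ((e.map_p g.1).trans hg)] at this
  intro x hx
  rw [Subgroup.mem_normalizer_iff]
  intro y
  refine ⟨key x hx y, fun h => ?_⟩
  have := key x⁻¹ (inv_mem hx) _ h
  rwa [inv_inv, show x⁻¹ * (x * y * x⁻¹) * x = y by group] at this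

section

variable (hQ : (polarBilin Q).Nondegenerate) (hn : 7 ≤ finrank F V)
include hQ hn

theorem center_scalar {g : Om Q} (hg : g ∈ Subgroup.center ↥(Om Q)) :
    ∃ s : F, s * s = 1 ∧ ∀ x, g.1.1 x = s • x :=
  OmegaCenter.central_scalar Q hQ (by omega) g.1 (fun a b => by
    have hab : ⁅a, b⁆ ∈ Om Q := by
      show _ ∈ Subgroup.closure (Sieg Q)
      rw [← commutator_eq Q hQ (by omega), _root_.commutator_def]
      exact Subgroup.commutator_mem_commutator (Subgroup.mem_top a) (Subgroup.mem_top b)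
    exact (congrArg Subtype.val (Subgroup.mem_center_iff.mp hg ⟨_, hab⟩)).symm)

theorem pr_eq_iff {g h : Om Q} : pr Q g = pr Q h ↔ ∃ s : F, ∀ x, g.1.1 x = s • h.1.1 x := by
  constructor
  · intro e
    obtain ⟨s, -, hs⟩ := center_scalar hQ hn (QuotientGroup.eq.mp e.symm)
    refine ⟨s, fun x => ?_⟩
    rw [← map_smul, ← hs x]
    show g.1.1 x = h.1.1 (h.1.1.symm (g.1.1 x))
    rw [LinearEquiv.apply_symm_apply]
  · rintro ⟨s, hs⟩
    refine (QuotientGroup.eq.mpr (Subgroup.mem_center_iff.mpr fun k => ?_)).symm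
    refine Subtype.ext (Subtype.ext (LinearEquiv.ext fun x => ?_))
    show k.1.1 (h.1.1.symm (g.1.1 x)) = h.1.1.symm (g.1.1 (k.1.1 x))
    simp only [hs, map_smul, LinearEquiv.symm_apply_apply]

theorem pr_eq_of_fix {g h : Om Q} {e : V} (he : e ≠ 0) (hge : g.1.1 e = e) (hhe : h.1.1 e = e)
    (heq : pr Q g = pr Q h) : g = h := by
  obtain ⟨s, hs⟩ := (pr_eq_iff hQ hn).mp heq
  have hs1 : s = 1 := by
    have := hs e
    rw [hge, hhe] at this
    exact smul_left_injective F he (this.symm.trans (one_smul F e).symm)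
  exact Subtype.ext (Subtype.ext (LinearEquiv.ext fun x => by rw [hs x, hs1, one_smul]))

theorem center_fix {g : Om Q} (hg : g ∈ Subgroup.center ↥(Om Q)) (x : SPt Q) : g • x = x := by
  obtain ⟨s, hs, hsx⟩ := center_scalar hQ hn hg
  obtain ⟨e, he0, he, rfl⟩ := pt_surj x
  exact smul_pt_eq g.1 he0 he he0 he (fun h => one_ne_zero (α := F) (by rw [← hs, h, zero_mul])) (hsx e)

theorem mem_ST {e : Sing Q} {g : Om Q} : pr Q g ∈ ST Q e ↔ g • e.p = e.p := by
  refine ⟨?_, fun h => ⟨g, h, rfl⟩⟩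
  rintro ⟨k, hk, hkg⟩
  have hc := center_fix hQ hn (QuotientGroup.eq.mp hkg) e.p
  rw [mul_smul, inv_smul_eq_iff] at hc
  exact hc.trans hk

/-- The element attached to a vector orthogonal to `e`. -/
theorem exists_el (e : Sing Q) {w : V} (hw : polar Q e.1 w = 0) :
    ∃ g : Om Q, g ∈ rad Q e ∧ IsEich Q e.1 w g.1 := by
  obtain ⟨g, hg⟩ := exists_eich Q e.2.2 hw
  exact ⟨⟨g, eich_mem Q hQ (by omega) e.2.1 e.2.2 hw hg⟩, ⟨w, hw, hg⟩, hg⟩

theorem eich_inj {e w w' : V} (he0 : e ≠ 0) (he : Q e = 0) {g : quadIso Q} (h : IsEich Q e w g)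
    (h' : IsEich Q e w' g) : ∃ t : F, w' = w + t • e := by
  obtain ⟨f, -, hef⟩ := exists_partner Q hQ he0 he
  have := (h f).symm.trans (h' f)
  rw [hef, one_smul, one_smul, add_right_inj] at this
  refine ⟨(-polar Q w f - Q w * 1) - (-polar Q w' f - Q w' * 1), ?_⟩
  linear_combination (norm := module) -this

theorem dual_family {ι : Type*} [DecidableEq ι] (v : ι → V) (hv : LinearIndependent F v) :
    ∃ f : ι → V, ∀ i j, polar Q (v i) (f j) = if i = j then 1 else 0 := by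
  obtain ⟨L, hL⟩ := (Finsupp.linearCombination F v).exists_leftInverse_of_injective
    (LinearMap.ker_eq_bot.mpr hv)
  have hsurj : Function.Surjective (polarBilin Q).flip := by
    refine (LinearMap.injective_iff_surjective_of_finrank_eq_finrank Subspace.dual_finrank_eq.symm).mp ?_
    refine (injective_iff_map_eq_zero _).mpr fun y hy => hQ.2 y fun x => ?_
    exact congrArg (fun l : V →ₗ[F] F => l x) hy
  choose f hf using fun j => hsurj ((Finsupp.lapply j).comp L)
  refine ⟨f, fun i j => ?_⟩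
  have h1 : polar Q (v i) (f j) = L (v i) j := congrArg (fun l : V →ₗ[F] F => l (v i)) (hf j)
  have h2 : L (v i) = Finsupp.single i 1 := by
    have := congrArg (fun l : (ι →₀ F) →ₗ[F] (ι →₀ F) => l (Finsupp.single i 1)) hL
    simpa using this
  rw [h1, h2, Finsupp.single_apply]

theorem exists_opp (e : Sing Q) : ∃ f : Sing Q, polar Q e.1 f.1 = 1 := by
  obtain ⟨f, hf, hef⟩ := exists_partner Q hQ e.2.1 e.2.2
  exact ⟨⟨f, fun h => by simp [h] at hef, hf⟩, hef⟩

theorem exists_both (e z : Sing Q) : ∃ y : Sing Q, polar Q e.1 y.1 ≠ 0 ∧ polar Q y.1 z.1 ≠ 0 := by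
  obtain ⟨y, hy, hey, hyz⟩ := singular_avoid' Q hQ (by omega) e.2.1 e.2.2 z.2.1
  exact ⟨⟨y, fun h => by simp [h] at hey, hy⟩, by rw [hey]; exact one_ne_zero, hyz⟩

/-- The root group of `e` moves points off `e` to each other. -/
theorem move_rad {e y z : Sing Q} (hy : polar Q e.1 y.1 ≠ 0) (hz : polar Q e.1 z.1 ≠ 0) :
    ∃ g ∈ rad Q e, g • y.p = z.p := by
  set c := polar Q e.1 y.1 * (polar Q e.1 z.1)⁻¹ with hc
  have hc0 : c ≠ 0 := mul_ne_zero hy (inv_ne_zero hz)
  obtain ⟨w, hw⟩ : ∃ w, w = (polar Q e.1 y.1)⁻¹ • (c • z.1 - y.1) := ⟨_, rfl⟩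
  have hz' : polar Q e.1 (c • z.1) = polar Q e.1 y.1 := by
    rw [polar_smul_right, smul_eq_mul, hc, mul_assoc, inv_mul_cancel₀ hz, mul_one]
  have hew : polar Q e.1 w = 0 := by
    simp [hw, polar_smul_right, sub_eq_add_neg, polar_add_right, polar_neg_right] at hz' ⊢
    simp [hz']
  obtain ⟨g, hg, hgE⟩ := exists_el hQ hn e hew
  refine ⟨g, hg, smul_pt_eq g.1 y.2.1 y.2.2 z.2.1 z.2.2 hc0 ?_⟩
  obtain ⟨κ, hκ⟩ : ∃ κ, κ = -(polar Q w y.1) - Q w * polar Q e.1 y.1 := ⟨_, rfl⟩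
  have hga : g.1.1 y.1 = c • z.1 + κ • e.1 := by
    rw [hgE y.1, ← hκ, hw, smul_smul, mul_inv_cancel₀ hy, one_smul]
    abel
  have hq := g.1.2 y.1
  rw [hga, QuadraticMap.map_add Q, QuadraticMap.map_smul, QuadraticMap.map_smul, e.2.2, z.2.2, y.2.2,
    polar_comm Q (c • z.1), polar_smul_left, hz'] at hq
  simp at hq
  rw [hga, hq.resolve_right hy, zero_smul, add_zero]

/-- The only point fixed by a root group is its own. -/
theorem rad_fixed {e y : Sing Q} (h : ∀ g ∈ rad Q e, g • y.p = y.p) : y.p = e.p := by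
  by_contra hne
  rw [Sing.p_eq_iff] at hne
  push Not at hne
  have hfix : ∀ w, polar Q e.1 w = 0 → ∃ c : F,
      y.1 + (polar Q e.1 y.1 • w + (-(polar Q w y.1) - Q w * polar Q e.1 y.1) • e.1) = c • y.1 := fun w hw => by
    obtain ⟨g, hg, hgE⟩ := exists_el hQ hn e hw
    obtain ⟨c, -, hc⟩ := Sing.fix_iff.mp (h g hg)
    exact ⟨c, by rw [← hgE]; exact hc⟩
  by_cases hey : polar Q e.1 y.1 = 0
  · obtain ⟨f, hf⟩ := dual_family hQ hn ![e.1, y.1] (by
      refine (LinearIndependent.pair_iff' e.2.1).mpr fun a ha => ?_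
      exact hne a ha.symm)
    have hew : polar Q e.1 (f 1) = 0 := by simpa using hf 0 1
    have hyw : polar Q (f 1) y.1 = 1 := by rw [polar_comm]; simpa using hf 1 1
    obtain ⟨c, hc⟩ := hfix _ hew
    rw [hey, hyw] at hc
    have hc' : (c - 1) • y.1 = (-1 : F) • e.1 := by linear_combination (norm := module) -hc
    rcases eq_or_ne (c - 1) 0 with h0 | h0
    · rw [h0, zero_smul, eq_comm, smul_eq_zero] at hc'
      exact hc'.elim (neg_ne_zero.mpr one_ne_zero) e.2.1
    · exact hne ((c - 1)⁻¹ * (-1)) (by rw [← smul_smul, ← hc', inv_smul_smul₀ h0])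
  · obtain ⟨y', hy'⟩ : ∃ y', y' = (polar Q e.1 y.1)⁻¹ • y.1 := ⟨_, rfl⟩
    have hQy' : Q y' = 0 := by rw [hy', QuadraticMap.map_smul, y.2.2, smul_zero]
    have hey' : polar Q e.1 y' = 1 := by rw [hy', polar_smul_right, smul_eq_mul, inv_mul_cancel₀ hey]
    have := perp_finrank Q e.2.2 hQy' hey'
    haveI := Module.nontrivial_of_finrank_pos (R := F) (M := perp Q e.1 y') (by omega)
    obtain ⟨w, hw0⟩ := exists_ne (0 : perp Q e.1 y')
    obtain ⟨hew, hyw⟩ := (mem_perp Q).mp w.2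
    have hyw' : polar Q w.1 y.1 = 0 := by
      have hyy : y.1 = polar Q e.1 y.1 • y' := by rw [hy', smul_inv_smul₀ hey]
      rw [polar_comm]
      refine (congrArg (fun a => polar Q a w.1) hyy).trans ?_
      show polar Q (polar Q e.1 y.1 • y') w.1 = 0
      rw [polar_smul_left, hyw, smul_zero]
    obtain ⟨c, hc⟩ := hfix _ hew
    rw [hyw'] at hc
    have he := congrArg (polar Q e.1) hc
    simp [polar_add_right, polar_smul_right, ReflectionGen.pol_self, e.2.2, hew] at he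
    have hc1 : c = 1 := mul_right_cancel₀ hey (by rw [one_mul]; linear_combination -he)
    rw [hc1, one_smul, add_eq_left] at hc
    have hy2 := congrArg (polar Q y.1) hc
    simp [polar_add_right, polar_smul_right, polar_comm Q y.1 w.1, hyw', polar_comm Q y.1 e.1, hey] at hy2
    simp [hy2] at hc
    exact hc.elim hey hw0

theorem A_inj {e e' : Sing Q} (h : A Q e = A Q e') : e.p = e'.p := by
  refine (rad_fixed hQ hn (e := e) (y := e') fun g hg => ?_).symm
  exact (mem_ST hQ hn).mp (A_le_ST e' (h ▸ ⟨g, hg, rfl⟩))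

/-- Points are conjugate. -/
theorem trans_pt (x z : Sing Q) : ∃ g : Om Q, g • x.p = z.p := by
  obtain ⟨y, hxy, hyz⟩ := exists_both hQ hn x z
  obtain ⟨g, -, hg⟩ := move_rad hQ hn (e := y) (by rw [polar_comm]; exact hxy) hyz
  exact ⟨g, hg⟩

theorem ST_ne_top (e : Sing Q) : ST Q e ≠ ⊤ := by
  obtain ⟨f, hef⟩ := exists_opp hQ hn e
  obtain ⟨g, hg⟩ := trans_pt hQ hn e f
  intro h
  have := (mem_ST hQ hn).mp (h ▸ Subgroup.mem_top (pr Q g) : pr Q g ∈ ST Q e)
  rw [hg, Sing.p_eq_iff] at this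
  obtain ⟨c, hc⟩ := this
  rw [hc, polar_smul_right, ReflectionGen.pol_self, e.2.2] at hef
  simp at hef

theorem conj_A_le {K : Subgroup (POm Q)} {e f : Sing Q} {g : Om Q} (hg : pr Q g ∈ K) (hgy : g • e.p = f.p)
    (he : A Q e ≤ K) : A Q f ≤ K := by
  intro y hy
  have h1 : (f.map (g⁻¹).1).p = e.p := by
    rw [Sing.map_p]; show g⁻¹ • f.p = e.p; rw [← hgy, inv_smul_smul]
  have h2 := conj_mem_A g⁻¹ hy
  rw [A_congr (e' := e) h1] at h2
  have := mul_mem (mul_mem hg (he h2)) (inv_mem hg)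
  simpa [mul_assoc] using this

/-- Two opposite root groups generate. -/
theorem gen {K : Subgroup (POm Q)} {e f : Sing Q} (hef : polar Q e.1 f.1 ≠ 0) (he : A Q e ≤ K)
    (hf : A Q f ≤ K) : K = ⊤ := by
  have step : ∀ {e f : Sing Q}, polar Q e.1 f.1 ≠ 0 → A Q e ≤ K → A Q f ≤ K →
      ∀ y : Sing Q, polar Q e.1 y.1 ≠ 0 → A Q y ≤ K := fun {e f} hef he hf y hy => by
    obtain ⟨g, hg, hgy⟩ := move_rad hQ hn hef hy
    exact conj_A_le hQ hn (he ⟨g, hg, rfl⟩) hgy hf
  have hall : ∀ z : Sing Q, A Q z ≤ K := fun z => by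
    obtain ⟨y, hey, hyz⟩ := exists_both hQ hn e z
    exact step (e := y) (f := e) (by rw [polar_comm]; exact hey) (step hef he hf y hey) he z hyz
  refine eq_top_iff.mpr fun x _ => ?_
  obtain ⟨⟨g, hg⟩, rfl⟩ := pr_surj Q x
  refine Subgroup.closure_induction (p := fun g hg => pr Q ⟨g, hg⟩ ∈ K) ?_ ?_ ?_ ?_ hg
  · rintro s ⟨u, v, c, hu, hv, huv, hs⟩
    have hE := (sieg_eich Q hv s).mp hs
    by_cases hu0 : u = 0
    · subst hu0
      have : s = 1 := Subtype.ext (LinearEquiv.ext fun x => by rw [hE x]; simp [QuadraticMap.polar_zero_left])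
      subst this
      exact one_mem K
    exact hall ⟨u, hu0, hu⟩ ⟨⟨s, _⟩, ⟨c • v, by rw [polar_smul_right, huv, smul_zero], hE⟩, rfl⟩
  · exact one_mem K
  · intro a b ha hb iha ihb; exact mul_mem iha ihb
  · intro a ha iha; exact inv_mem iha

/-- Orthogonal root groups do not generate. -/
theorem orth_ne_top {x y : Sing Q} (hxy : polar Q x.1 y.1 = 0) : A Q x ⊔ A Q y ≠ ⊤ := by
  classical
  let P := Submodule.span F ({x.1, y.1} : Set V)
  have hxP : x.1 ∈ P := Submodule.subset_span (by simp)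
  have hyP : y.1 ∈ P := Submodule.subset_span (by simp)
  have hiso : ∀ a ∈ P, polar Q x.1 a = 0 := fun a ha => by
    obtain ⟨s, t, rfl⟩ := Submodule.mem_span_pair.mp ha
    simp [polar_add_right, polar_smul_right, ReflectionGen.pol_self, x.2.2, hxy]
  let S : Subgroup ↥(Om Q) :=
    { carrier := {g | ∀ a, g.1.1 a ∈ P ↔ a ∈ P}
      one_mem' := fun a => Iff.rfl
      mul_mem' := fun {g h} hg hh a => (hg (h.1.1 a)).trans (hh a)
      inv_mem' := fun {g} hg a => by
        show g.1.1.symm a ∈ P ↔ _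
        rw [← hg (g.1.1.symm a), LinearEquiv.apply_symm_apply] }
  have hA : ∀ u : Sing Q, u.1 ∈ P → (∀ a ∈ P, polar Q u.1 a = 0) → rad Q u ≤ S := by
    intro u huP hu g hgr a
    obtain ⟨w, hw, hg⟩ := mem_rad.mp hgr
    constructor
    · intro h
      have h0 : polar Q u.1 a = 0 := by
        have e1 := OrthOrder.polar_map g.1.2 u.1 a
        rw [eich_self u.2.2 hw hg] at e1
        rw [← e1]; exact hu _ h
      rw [hg a, h0, zero_smul, zero_add] at h
      exact (add_mem_cancel_right (P.smul_mem _ huP)).mp h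
    · intro h
      rw [hg a, hu a h, zero_smul, zero_add]
      exact add_mem h (P.smul_mem _ huP)
  have hle : A Q x ⊔ A Q y ≤ S.map (pr Q) := by
    refine sup_le (Subgroup.map_mono (hA x hxP hiso)) (Subgroup.map_mono (hA y hyP fun a ha => ?_))
    obtain ⟨s, t, rfl⟩ := Submodule.mem_span_pair.mp ha
    simp [polar_add_right, polar_smul_right, ReflectionGen.pol_self, y.2.2, polar_comm Q y.1 x.1, hxy]
  intro h
  obtain ⟨f, hf⟩ := exists_opp hQ hn x
  obtain ⟨g, hg⟩ := trans_pt hQ hn x f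
  obtain ⟨k, hk, hkg⟩ := hle (h ▸ Subgroup.mem_top (pr Q g))
  obtain ⟨s, hs⟩ := (pr_eq_iff hQ hn).mp hkg.symm
  change g.1 • x.p = _ at hg
  rw [← x.map_p g.1, Sing.p_eq_iff] at hg
  obtain ⟨c, hc⟩ := hg
  change g.1.1 x.1 = c • f.1 at hc
  have hgP : g.1.1 x.1 ∈ P := by rw [hs]; exact P.smul_mem _ ((hk x.1).mpr hxP)
  have := hiso _ hgP
  rw [hc, polar_smul_right, hf, smul_eq_mul, mul_one] at this
  exact g.1.1.map_ne_zero_iff.mpr x.2.1 (by rw [hc, this, zero_smul])

/-! ### `p`-subgroups -/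

theorem eich_pow {e : Sing Q} {w : V} (hw : polar Q e.1 w = 0) {g : quadIso Q} (hg : IsEich Q e.1 w g) (k : ℕ) :
    IsEich Q e.1 ((k : F) • w) (g ^ k) := by
  induction k with
  | zero => simpa using eich_zero Q e.1
  | succ k ih =>
    rw [Nat.cast_succ, add_smul, one_smul, pow_succ]
    exact eich_add Q e.2.2 (by rw [polar_smul_right, hw, smul_zero]) hw ih hg

theorem rad_pow {e : Sing Q} {g : Om Q} (hg : g ∈ rad Q e) : g ^ ringChar F = 1 := by
  obtain ⟨w, hw, hg⟩ := hg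
  have h := eich_pow hQ hn hw hg (ringChar F)
  rw [CharP.cast_eq_zero, zero_smul] at h
  exact Subtype.ext (by rw [SubmonoidClass.coe_pow]; exact eich_unique Q h (eich_zero Q e.1))

theorem rad_comm {e : Sing Q} {g h : Om Q} (hg : g ∈ rad Q e) (hh : h ∈ rad Q e) : g * h = h * g := by
  obtain ⟨a, ha, hga⟩ := hg
  obtain ⟨b, hb, hhb⟩ := hh
  exact Subtype.ext (eich_unique Q (eich_add Q e.2.2 ha hb hga hhb)
    (add_comm b a ▸ eich_add Q e.2.2 hb ha hhb hga))

theorem rad_pgroup (e : Sing Q) : IsPGroup (ringChar F) (rad Q e) := fun g =>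
  ⟨1, Subtype.ext (by rw [pow_one, SubmonoidClass.coe_pow]; exact rad_pow hQ hn g.2)⟩

theorem A_pgroup (e : Sing Q) : IsPGroup (ringChar F) (A Q e) := (rad_pgroup hQ hn e).map _

theorem A_ne_bot (e : Sing Q) : ∃ y ∈ A Q e, y ≠ 1 ∧ y ^ ringChar F = 1 := by
  obtain ⟨f, hf⟩ := exists_opp hQ hn e
  have := perp_finrank Q e.2.2 f.2.2 hf
  haveI := Module.nontrivial_of_finrank_pos (R := F) (M := perp Q e.1 f.1) (by omega)
  obtain ⟨w, hw0⟩ := exists_ne (0 : perp Q e.1 f.1)
  obtain ⟨hew, hfw⟩ := (mem_perp Q).mp w.2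
  obtain ⟨g, hg, hgE⟩ := exists_el hQ hn e hew
  refine ⟨pr Q g, ⟨g, hg, rfl⟩, fun h => ?_, by rw [← map_pow, rad_pow hQ hn hg, map_one]⟩
  have hg1 : g = 1 := pr_eq_of_fix hQ hn e.2.1 (eich_self e.2.2 hew hgE) rfl (h.trans (map_one (pr Q)).symm)
  subst hg1
  obtain ⟨t, ht⟩ := eich_inj hQ hn e.2.1 e.2.2 hgE (eich_zero Q e.1)
  have := congrArg (polar Q f.1) ht
  rw [QuadraticMap.polar_zero_right, polar_add_right, hfw, polar_smul_right, polar_comm Q f.1, hf, zero_add,
    smul_eq_mul, mul_one] at this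
  exact hw0 (Subtype.ext (by rw [← this] at ht; simpa using ht.symm))

variable [Finite V]

theorem fixed_of_pgroup {P : Subgroup ↥(Om Q)} (hP : IsPGroup (ringChar F) P) :
    ∃ e : Sing Q, ∀ g ∈ P, g • e.p = e.p := by
  haveI := Fact.mk (CharP.char_is_prime F (ringChar F))
  obtain ⟨e₀, he₀0, he₀⟩ := FiniteForms.exists_singular Q (by omega)
  let e : Sing Q := ⟨e₀, he₀0, he₀⟩
  haveI : Finite (SPt Q) := Subtype.finite
  have h1 := (rad_pgroup hQ hn e).card_modEq_card_fixedPoints (SPt Q)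
  have hone : Nat.card (MulAction.fixedPoints (rad Q e) (SPt Q)) = 1 := by
    rw [Nat.card_eq_one_iff_unique]
    refine ⟨⟨fun a b => Subtype.ext ?_⟩, ⟨e.p, fun g => rad_le_stab e g.2⟩⟩
    have key : ∀ a : SPt Q, a ∈ MulAction.fixedPoints (rad Q e) (SPt Q) → a = e.p := fun a ha => by
      obtain ⟨v, hv0, hv, rfl⟩ := pt_surj a
      exact rad_fixed hQ hn (y := ⟨v, hv0, hv⟩) fun g hg => ha ⟨g, hg⟩
    exact (key _ a.2).trans (key _ b.2).symm
  rw [hone] at h1
  have h2 := hP.card_modEq_card_fixedPoints (SPt Q)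
  have hne : Nat.card (MulAction.fixedPoints P (SPt Q)) ≠ 0 := fun h0 => by
    rw [h0] at h2
    exact (Fact.out : (ringChar F).Prime).not_dvd_one
      (Nat.modEq_zero_iff_dvd.mp (h1.symm.trans h2))
  obtain ⟨x, hx⟩ := (Nat.card_pos_iff.mp (Nat.pos_of_ne_zero hne)).1
  obtain ⟨v, hv0, hv, rfl⟩ := pt_surj x
  exact ⟨⟨v, hv0, hv⟩, fun g hg => hx ⟨g, hg⟩⟩

theorem sylow_normal_le {W : Type*} [Group W] {p : ℕ} (P : Sylow p W) {N : Subgroup W} (hN : IsPGroup p N)
    (hn : (P : Subgroup W) ≤ Subgroup.normalizer (N : Set W)) : N ≤ P :=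
  le_sup_right.trans (P.is_maximal' (IsPGroup.to_sup_of_normal_right' P.isPGroup' hN hn) le_sup_left).le

theorem A_le_sylow {e : Sing Q} (P : Sylow (ringChar F) (POm Q)) (hP : (P : Subgroup (POm Q)) ≤ ST Q e) :
    A Q e ≤ P :=
  sylow_normal_le hQ hn P (A_pgroup hQ hn e) (hP.trans (ST_normalizes e))

theorem sylow_point (P : Sylow (ringChar F) (POm Q)) : ∃ e : Sing Q, (P : Subgroup (POm Q)) ≤ ST Q e := by
  haveI := Fact.mk (CharP.char_is_prime F (ringChar F))
  haveI : Finite (quadIso Q) := Finite.of_injective (fun g => (g.1 : V → V)) fun g h e =>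
    Subtype.ext (LinearEquiv.ext (congrFun e))
  obtain ⟨P₀, rfl⟩ := Sylow.mapSurjective_surjective (pr_surj Q) (ringChar F) P
  obtain ⟨e, he⟩ := fixed_of_pgroup hQ hn P₀.isPGroup'
  refine ⟨e, ?_⟩
  rw [Sylow.coe_mapSurjective]
  exact Subgroup.map_mono he

theorem exists_sylow (e : Sing Q) : ∃ P : Sylow (ringChar F) (POm Q), (P : Subgroup (POm Q)) ≤ ST Q e := by
  obtain ⟨P₀⟩ : Nonempty (Sylow (ringChar F) (POm Q)) := inferInstance
  obtain ⟨e₀, he₀⟩ := sylow_point hQ hn P₀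
  obtain ⟨g, hg⟩ := trans_pt hQ hn e₀ e
  refine ⟨pr Q g • P₀, fun y hy => ?_⟩
  rw [Sylow.smul_def, Sylow.pointwise_smul_def, Subgroup.mem_pointwise_smul_iff_inv_smul_mem] at hy
  obtain ⟨k, hk, hky⟩ := he₀ hy
  have hy' : y = pr Q (g * k * g⁻¹) := by
    rw [map_mul, map_mul, map_inv, hky]
    simp [MulAut.smul_def, mul_assoc]
  rw [hy', mem_ST hQ hn, mul_smul, mul_smul, ← hg, inv_smul_smul, show k • e₀.p = e₀.p from hk]

theorem extend_sylow {e : Sing Q} {K : Subgroup (POm Q)} (hK : IsPGroup (ringChar F) K) (hle : K ≤ ST Q e) :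
    ∃ P : Sylow (ringChar F) (POm Q), K ≤ P ∧ (P : Subgroup (POm Q)) ≤ ST Q e := by
  haveI := Fact.mk (CharP.char_is_prime F (ringChar F))
  haveI : Finite (quadIso Q) := Finite.of_injective (fun g => (g.1 : V → V)) fun g h e =>
    Subtype.ext (LinearEquiv.ext (congrFun e))
  obtain ⟨P₀, hP₀⟩ := exists_sylow hQ hn e
  have hKS : IsPGroup (ringChar F) (K.subgroupOf (ST Q e)) :=
    hK.of_equiv (Subgroup.subgroupOfEquivOfLe hle).symm
  obtain ⟨P₁, hP₁⟩ := hKS.exists_le_sylow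
  have hcard : Nat.card (P₁.1.map (ST Q e).subtype) = Nat.card (P₀ : Subgroup (POm Q)) := by
    rw [Subgroup.card_map_of_injective (ST Q e).subtype_injective,
      ← Nat.card_congr (Subgroup.subgroupOfEquivOfLe hP₀).toEquiv]
    exact (Sylow.card_eq_multiplicity P₁).trans (Sylow.card_eq_multiplicity (P₀.subtype hP₀)).symm
  obtain ⟨P₂, hP₂⟩ := (P₁.isPGroup'.map (ST Q e).subtype).exists_le_sylow
  have heq : P₁.1.map (ST Q e).subtype = P₂ := by
    refine Subgroup.eq_of_le_of_card_ge hP₂ ?_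
    rw [hcard, Sylow.card_eq_multiplicity P₀, Sylow.card_eq_multiplicity P₂]
  refine ⟨P₂, heq ▸ fun x hx => ⟨⟨x, hle hx⟩, hP₁ hx, rfl⟩, heq ▸ Subgroup.map_subtype_le _⟩

/-- The intersection of the Sylow subgroups in a point stabiliser. -/
def R (H : Subgroup (POm Q)) : Subgroup (POm Q) :=
  ⨅ (P : Sylow (ringChar F) (POm Q)) (_ : (P : Subgroup (POm Q)) ≤ H), (P : Subgroup (POm Q))

omit hQ hn in
theorem mem_R {H : Subgroup (POm Q)} {x : POm Q} :
    x ∈ R H ↔ ∀ P : Sylow (ringChar F) (POm Q), (P : Subgroup (POm Q)) ≤ H → x ∈ P := by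
  simp only [R, Subgroup.mem_iInf]; exact Iff.rfl

theorem R_eq (e : Sing Q) : R (ST Q e) = A Q e := by
  haveI := Fact.mk (CharP.char_is_prime F (ringChar F))
  haveI : Finite (quadIso Q) := Finite.of_injective (fun g => (g.1 : V → V)) fun g h e =>
    Subtype.ext (LinearEquiv.ext (congrFun e))
  refine le_antisymm (fun x hx => ?_) (fun x hx => mem_R.mpr fun P hP => A_le_sylow hQ hn P hP hx)
  obtain ⟨P₀, hP₀⟩ := exists_sylow hQ hn e
  obtain ⟨g, rfl⟩ := pr_surj Q x
  obtain ⟨l, hl0, hl⟩ := Sing.fix_iff.mp ((mem_ST hQ hn).mp (hP₀ (mem_R.mp hx P₀ hP₀)))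
  change g.1.1 e.1 = l • e.1 at hl
  obtain ⟨f, hf⟩ := exists_opp hQ hn e
  -- `g` acts by a scalar on `e^⊥ / e`
  have key : ∀ w : V, Q w = 0 → polar Q e.1 w = 0 → ∃ t : F, g.1.1 w = l⁻¹ • w + t • e.1 := by
    intro w hw hew
    by_cases hpar : ∃ c : F, w = c • e.1
    · obtain ⟨c, rfl⟩ := hpar
      exact ⟨c * l - l⁻¹ * c, by rw [map_smul, hl, smul_smul, smul_smul, ← add_smul]; congr 1; ring⟩
    push Not at hpar
    have hw0 : w ≠ 0 := fun h => hpar 0 (by rw [h, zero_smul])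
    let w' : Sing Q := ⟨w, hw0, hw⟩
    let K := (rad Q w' ⊓ MulAction.stabilizer ↥(Om Q) e.p).map (pr Q)
    obtain ⟨P, hKP, hP⟩ := extend_sylow hQ hn (e := e) (K := K)
      ((rad_pgroup hQ hn w').to_le inf_le_left |>.map _) (Subgroup.map_mono inf_le_right)
    -- a fixed element of the root group
    letI : MulAction (P : Subgroup (POm Q)) (A Q e) :=
      { smul := fun s a => ⟨s.1 * a.1 * s.1⁻¹,
          (Subgroup.mem_normalizer_iff.mp (ST_normalizes e (hP s.2)) _).mp a.2⟩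
        one_smul := fun a => Subtype.ext (by show (1 : POm Q) * a.1 * 1⁻¹ = a.1; simp)
        mul_smul := fun s t a => Subtype.ext (by
          show (s.1 * t.1) * a.1 * (s.1 * t.1)⁻¹ = s.1 * (t.1 * a.1 * t.1⁻¹) * s.1⁻¹; group) }
    obtain ⟨y₀, hy₀, hy₀1, hy₀p⟩ := A_ne_bot hQ hn e
    have hdvd : ringChar F ∣ Nat.card (A Q e) := by
      rw [← orderOf_eq_prime (p := ringChar F) (x := (⟨y₀, hy₀⟩ : A Q e)) (Subtype.ext hy₀p)
        (fun h => hy₀1 (congrArg Subtype.val h))]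
      exact orderOf_dvd_natCard _
    obtain ⟨y, hy, hy1⟩ := P.isPGroup'.exists_fixed_point_of_prime_dvd_card_of_fixed_point (A Q e) hdvd
      (a := 1) (fun s => Subtype.ext (by show s.1 * 1 * s.1⁻¹ = 1; simp))
    obtain ⟨k, hkr, hky⟩ := y.2
    obtain ⟨v, hev, hk⟩ := mem_rad.mp hkr
    have hke := eich_self e.2.2 hev hk
    have act : ∀ h : Om Q, pr Q h ∈ P → ∀ c : F, h.1.1 e.1 = c • e.1 →
        ∃ t : F, c • h.1.1 v = v + t • e.1 := by
      intro h hh c hc
      have h1 : pr Q (h * k * h⁻¹) = pr Q k := by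
        have := congrArg Subtype.val (hy ⟨_, hh⟩)
        change pr Q h * y.1 * (pr Q h)⁻¹ = y.1 at this
        rw [map_mul, map_mul, map_inv, hky]; exact this
      have h2 : h * k * h⁻¹ = k := by
        refine pr_eq_of_fix hQ hn e.2.1 ?_ hke h1
        show h.1.1 (k.1.1 (h.1.1.symm e.1)) = e.1
        rcases eq_or_ne c 0 with rfl | hc0
        · exact absurd (by rw [hc, zero_smul]) (fun h0 : h.1.1 e.1 = 0 => e.2.1 (h.1.1.map_eq_zero_iff.mp h0))
        · have : h.1.1.symm e.1 = c⁻¹ • e.1 := by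
            rw [LinearEquiv.symm_apply_eq, map_smul, hc, inv_smul_smul₀ hc0]
          rw [this, map_smul, hke, map_smul, hc, inv_smul_smul₀ hc0]
      have h3 := eich_conj Q hk h.1
      rw [hc] at h3
      have h4 := eich_scale Q c h3
      have h5 : IsEich Q e.1 (c • h.1.1 v) k.1 := by
        have : (h * k * h⁻¹).1 = k.1 := congrArg Subtype.val h2
        rw [← this]; exact h4
      exact eich_inj hQ hn e.2.1 e.2.2 hk h5
    obtain ⟨fd, hfd⟩ := dual_family hQ hn ![e.1, w] (by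
      refine (LinearIndependent.pair_iff' e.2.1).mpr fun a ha => hpar a ha.symm)
    have hJ : ∀ d, polar Q e.1 d = 0 → polar Q w d = 0 →
        ∃ t : F, polar Q w v • d + (-(polar Q d v) - Q d * polar Q w v) • w = t • e.1 := by
      intro d hed hwd
      obtain ⟨h, hh, hhE⟩ := exists_el hQ hn w' hwd
      have hhe : h.1.1 e.1 = e.1 := by
        rw [hhE e.1, polar_comm Q w e.1, hew, polar_comm Q d e.1, hed]; simp
      obtain ⟨t, ht⟩ := act h (hKP ⟨h, ⟨hh, Sing.fix_iff.mpr ⟨1, one_ne_zero, by rw [one_smul]; exact hhe⟩⟩,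
        rfl⟩) 1 (by rw [one_smul]; exact hhe)
      rw [one_smul, hhE v, add_right_inj] at ht
      exact ⟨t, ht⟩
    have hwv : polar Q w v = 0 := by
      by_contra hwv
      let L : V →ₗ[F] F × F := (polarBilin Q e.1).prod (polarBilin Q w)
      have hker : LinearMap.ker L ≤ Submodule.span F ({e.1, w} : Set V) := fun d hd => by
        rw [LinearMap.mem_ker] at hd
        obtain ⟨h1, h2⟩ := Prod.mk_eq_zero.mp hd
        obtain ⟨t, ht⟩ := hJ d h1 h2
        have : d = (polar Q w v)⁻¹ • (t • e.1 - (-(polar Q d v) - Q d * polar Q w v) • w) := by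
          rw [← ht, add_sub_cancel_right, inv_smul_smul₀ hwv]
        rw [this]
        exact Submodule.smul_mem _ _ (sub_mem (Submodule.smul_mem _ _ (Submodule.subset_span (by simp)))
          (Submodule.smul_mem _ _ (Submodule.subset_span (by simp))))
      have h1 := LinearMap.finrank_range_add_finrank_ker L
      have h2 := Submodule.finrank_le (LinearMap.range L)
      have h3 : finrank F (LinearMap.ker L) ≤ 2 := by
        refine (Submodule.finrank_mono hker).trans ?_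
        classical
        have h := finrank_span_le_card (R := F) ({e.1, w} : Set V)
        have h' : ({e.1, w} : Set V).toFinset.card ≤ 2 := by simp; exact Finset.card_le_two
        omega
      rw [Module.finrank_prod, Module.finrank_self] at h2
      omega
    have hdv : ∀ d, polar Q e.1 d = 0 → polar Q w d = 0 → polar Q d v = 0 := fun d hed hwd => by
      obtain ⟨t, ht⟩ := hJ d hed hwd
      rw [hwv, zero_smul, zero_add, mul_zero, sub_zero] at ht
      by_contra h0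
      exact hpar ((-(polar Q d v))⁻¹ * t) (by rw [← smul_smul, ← ht, inv_smul_smul₀ (neg_ne_zero.mpr h0)])
    have f00 : polar Q e.1 (fd 0) = 1 := by simpa using hfd 0 0
    have f01 : polar Q e.1 (fd 1) = 0 := by simpa using hfd 0 1
    have f10 : polar Q w (fd 0) = 0 := by simpa using hfd 1 0
    have f11 : polar Q w (fd 1) = 1 := by simpa using hfd 1 1
    obtain ⟨α, hα⟩ : ∃ α, α = polar Q v (fd 0) := ⟨_, rfl⟩
    obtain ⟨β, hβ⟩ : ∃ β, β = polar Q v (fd 1) := ⟨_, rfl⟩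
    have hv : v = α • e.1 + β • w := by
      refine sub_eq_zero.mp (hQ.1 _ fun z => ?_)
      have := hdv (z - polar Q e.1 z • fd 0 - polar Q w z • fd 1)
        (by simp [sub_eq_add_neg, polar_add_right, polar_smul_right, polar_neg_right, f00, f01])
        (by simp [sub_eq_add_neg, polar_add_right, polar_smul_right, polar_neg_right, f10, f11])
      rw [polar_comm] at this
      simp [sub_eq_add_neg, polar_add_right, polar_smul_right, polar_neg_right, ← hα, ← hβ] at this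
      show polar Q (v - (α • e.1 + β • w)) z = 0
      simp [sub_eq_add_neg, polar_add_left, polar_smul_left, polar_neg_left]
      linear_combination this
    have hβ0 : β ≠ 0 := fun h0 => hy1 (by
      rw [h0, zero_smul, add_zero] at hv
      subst hv
      have h1 : IsEich Q e.1 (α • e.1) (1 : quadIso Q) := by
        have := eich_shift Q e.2.2 (QuadraticMap.polar_zero_right Q e.1) α (eich_zero Q e.1)
        rwa [zero_add] at this
      have : k = 1 := Subtype.ext (eich_unique Q hk h1)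
      exact Subtype.ext (by rw [← hky, this, map_one]; rfl))
    obtain ⟨t, ht⟩ := act g (mem_R.mp hx P hP) l hl
    refine ⟨β⁻¹ * l⁻¹ * (α + t) - β⁻¹ * α * l, ?_⟩
    have e1 : (l * β) • g.1.1 w = β • w + (α + t - l * α * l) • e.1 := by
      rw [hv, map_add, map_smul, map_smul, hl] at ht
      linear_combination (norm := module) ht
    rw [← inv_smul_smul₀ (mul_ne_zero hl0 hβ0) (g.1.1 w), e1, smul_add, smul_smul, smul_smul]
    congr 1 <;> congr 1 <;> field_simp
  have hef := perp_finrank Q e.2.2 f.2.2 hf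
  have hnd := perp_nondeg Q hQ e.2.2 f.2.2 hf
  have hperp : ∀ u : perp Q e.1 f.1, ∃ t : F, g.1.1 u.1 = l⁻¹ • u.1 + t • e.1 := by
    intro u
    refine span3 (Q.comp (perp Q e.1 f.1).subtype) hnd (by omega)
      (fun u => ∃ t : F, g.1.1 u.1 = l⁻¹ • u.1 + t • e.1) ?_
      (fun u hu => key u.1 hu ((mem_perp Q).mp u.2).1) u
    rintro a b ⟨s, hs⟩ ⟨t, ht⟩
    refine ⟨s + t, ?_⟩
    rw [Submodule.coe_add, map_add, hs, ht]
    module
  have hll : l⁻¹ = l := by
    obtain ⟨u, hu⟩ := exists_nonzero_value (Q.comp (perp Q e.1 f.1).subtype) hnd (by omega)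
    obtain ⟨t, ht⟩ := hperp u
    have hq := g.1.2 u.1
    rw [ht, QuadraticMap.map_add Q, QuadraticMap.map_smul, QuadraticMap.map_smul, e.2.2, polar_smul_left,
      polar_smul_right, polar_comm Q u.1, ((mem_perp Q).mp u.2).1] at hq
    simp at hq
    have h1 : l⁻¹ * l⁻¹ = 1 := mul_right_cancel₀ (show Q u.1 ≠ 0 from hu) (by rw [one_mul]; exact hq)
    calc l⁻¹ = l⁻¹ * l⁻¹ * l := by rw [mul_assoc, inv_mul_cancel₀ hl0, mul_one]
      _ = l := by rw [h1, one_mul]
  obtain ⟨a, ha⟩ : ∃ a, a = l • g.1.1 f.1 - f.1 := ⟨_, rfl⟩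
  have hgf : l • g.1.1 f.1 = f.1 + a := by rw [ha]; abel
  have hl2 : l * l = 1 := by nth_rw 1 [← hll]; exact inv_mul_cancel₀ hl0
  have hea : polar Q e.1 a = 0 := by
    have h1 := OrthOrder.polar_map g.1.2 e.1 f.1
    rw [hl, hf, polar_smul_left] at h1
    rw [ha, sub_eq_add_neg, polar_add_right, polar_neg_right, hf, polar_smul_right, h1, add_neg_cancel]
  obtain ⟨k, hk, hkE⟩ := exists_el hQ hn e hea
  refine ⟨k, hk, ((pr_eq_iff hQ hn).mpr ⟨l, fun x => ?_⟩).symm⟩
  -- compare on `e`, `f` and the complement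
  have he1 : g.1.1 e.1 = l • k.1.1 e.1 := by rw [eich_self e.2.2 hea hkE, hl]
  have hf1 : g.1.1 f.1 = l • k.1.1 f.1 := by
    have hq : Q (f.1 + a) = 0 := by rw [← hgf, QuadraticMap.map_smul, g.1.2, f.2.2, smul_zero]
    rw [QuadraticMap.map_add Q, f.2.2, polar_comm] at hq
    rw [hkE f.1, hf]
    have h0 : -(polar Q a f.1) - Q a * 1 = 0 := by linear_combination -hq
    rw [h0, zero_smul, add_zero, one_smul, ← hgf, smul_smul, hl2, one_smul]
  have hu1 : ∀ u : perp Q e.1 f.1, g.1.1 u.1 = l • k.1.1 u.1 := by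
    intro u
    obtain ⟨t, ht⟩ := hperp u
    obtain ⟨heu, hfu⟩ := (mem_perp Q).mp u.2
    rw [hkE u.1, heu, zero_smul, zero_add, mul_zero, sub_zero, ht, hll]
    have h2 := OrthOrder.polar_map g.1.2 u.1 f.1
    rw [polar_comm Q u.1 f.1, hfu, ht, show g.1.1 f.1 = l • (f.1 + a) by rw [← hgf, smul_smul, hl2, one_smul],
      hll] at h2
    simp [polar_add_left, polar_add_right, polar_smul_left, polar_smul_right, hf, hea, polar_comm Q u.1 f.1, hfu] at h2
    have : t = -(l * polar Q a u.1) := by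
      rw [polar_comm Q a u.1]
      refine mul_left_cancel₀ hl0 ?_
      linear_combination h2
    rw [this]
    module
  obtain ⟨u, hu⟩ : ∃ u : perp Q e.1 f.1, x = polar Q f.1 x • e.1 + polar Q e.1 x • f.1 + u.1 :=
    ⟨⟨_, proj_mem Q e.2.2 f.2.2 hf x⟩, by show x = _ + (x - _ - _); abel⟩
  rw [hu]
  simp only [map_add, map_smul, smul_add, he1, hf1, hu1, smul_comm l]

end

end CfsgLib.OrthAut
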