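import Cfsg.Agent.Lib.OrthAut.PlusFieldSplit

/-!
Invariance under conjugation by any automorphism normalising the groups.
-/

set_option autoImplicit false
set_option linter.unusedSectionVars false
set_option maxHeartbeats 1600000

namespace CfsgLib.OrthPlus

open QuadraticMap Module CfsgLib.OrthAut CfsgLib.OrthPair
open CfsgLib.Lagrangian (Qp Qp_apply Qp_nondeg)

theorem centralizer_conj {X : Type*} [Group X] (H : Subgroup X) [hH : H.Normal] (a x : X) :
    (H ⊓ Subgroup.centralizer {x}).map (MulAut.conj a : X →* X) = H ⊓ Subgroup.centralizer {a * x * a⁻¹} := by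
  ext y
  rw [show (MulAut.conj a : X →* X) = (MulAut.conj a).toMonoidHom from rfl, Subgroup.mem_map_equiv, MulAut.conj_symm_apply, Subgroup.mem_inf, Subgroup.mem_inf,
    Subgroup.mem_centralizer_singleton_iff, Subgroup.mem_centralizer_singleton_iff]
  refine and_congr ⟨fun h => ?_, fun h => ?_⟩ ⟨fun h => ?_, fun h => ?_⟩
  · simpa [mul_assoc] using hH.conj_mem _ h a
  · simpa [mul_assoc] using hH.conj_mem _ h a⁻¹
  · calc y * (a * x * a⁻¹) = a * (a⁻¹ * y * a * x) * a⁻¹ := by group
      _ = a * (x * (a⁻¹ * y * a)) * a⁻¹ := by rw [h]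
      _ = a * x * a⁻¹ * y := by group
  · calc a⁻¹ * y * a * x = a⁻¹ * (y * (a * x * a⁻¹)) * a := by group
      _ = a⁻¹ * (a * x * a⁻¹ * y) * a := by rw [h]
      _ = x * (a⁻¹ * y * a) := by group

theorem conj_invariant {X : Type*} [Group X] (H K : Subgroup X) [hH : H.Normal] [hK : K.Normal] (hKH : K ≤ H)
    (a x : X) : Nonempty (↥(H ⊓ Subgroup.centralizer {x}) ≃* ↥(H ⊓ Subgroup.centralizer {a * x * a⁻¹})) ∧
      Cfsg.splitClassCount H K x = Cfsg.splitClassCount H K (a * x * a⁻¹) := by
  refine ⟨⟨((MulAut.conj a).subgroupMap _).trans (MulEquiv.subgroupCongr (centralizer_conj H a x))⟩, ?_⟩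
  rw [PSLn.splitClassCount_eq _ _ hKH, PSLn.splitClassCount_eq _ _ hKH, ← centralizer_conj H a x]
  have hKm : K.map (MulAut.conj a : X →* X) = K := Subgroup.normal_iff_map_conj_eq.mp hK a
  have hHm : H.map (MulAut.conj a : X →* X) = H := Subgroup.normal_iff_map_conj_eq.mp hH a
  have := Subgroup.relIndex_map_map_of_injective (f := (MulAut.conj a : X →* X)) (K ⊔ H ⊓ Subgroup.centralizer {x}) H
    (MulAut.conj a).injective
  rw [Subgroup.map_sup, hKm, hHm] at this
  exact this.symm

variable {F : Type*} [Field F] [Fintype F] {m : ℕ}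

/-- The inner-diagonal group is normal in all dimensions at least eight. -/
theorem Gd_normal (hm : 4 ≤ m) : ((Gd (Qp m F)).map (PGO.Θ (Qp m F))).Normal := by
  by_cases h4 : m = 4
  · subst h4; exact OrthPlusFour.inndiag_normal
  · exact Gd_map_normal Qp_nondeg hev_plus (hn_plus (by omega)) (hmax_plus (by omega))

end CfsgLib.OrthPlus
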