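import Cfsg.Agent.Lib.OrthAut.Field
import Cfsg.Agent.Lib.PolarAut.CoreGen

/-!
The centralizer of a field automorphism of a prime-field orthogonal group: rigidity.
-/

set_option autoImplicit false
set_option linter.unusedSectionVars false
set_option linter.style.haveILetI false
set_option linter.unusedSimpArgs false

namespace CfsgLib.OrthAut

open QuadraticMap Module CfsgLib.Eichler CfsgLib.WittExtension
open scoped Matrix commutatorElement

variable {F : Type*} [Field F] [Fintype F] {ι : Type} [Fintype ι] [DecidableEq ι]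
variable {F₀ : Type*} [Field F₀] [Fintype F₀] (emb : F₀ →+* F)
variable {Q : QuadraticForm F (ι → F)} (Q₀ : QuadraticForm F₀ (ι → F₀))
  (hcomp : ∀ v, Q (up emb v) = emb (Q₀ v))

include hcomp in
theorem polar_up (u v : ι → F₀) : polar Q (up emb u) (up emb v) = emb (polar Q₀ u v) := by
  simp only [polar, ← up_add, hcomp, map_sub]

include hcomp in
theorem incl_iso {x : GL ι F₀} (hx : x ∈ Cfsg.isometryGroup F₀ ⇑Q₀) :
    Matrix.GeneralLinearGroup.map emb x ∈ Cfsg.isometryGroup F ⇑Q := by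
  have key : Q.comp (Matrix.mulVecLin (x.1.map emb)) = Q := form_ext_up emb fun w => by
    show Q (x.1.map emb *ᵥ up emb w) = Q (up emb w)
    rw [← up_mulVec, hcomp, hcomp]
    exact congrArg emb (hx w w)
  intro v _
  exact congrArg (fun A : QuadraticForm F (ι → F) => A v) key

/-- The inclusion of `Ω`. -/
def inclΩ : Cfsg.Omega F₀ ⇑Q₀ →* Cfsg.Omega F ⇑Q :=
  let φ : Cfsg.isometryGroup F₀ ⇑Q₀ →* Cfsg.isometryGroup F ⇑Q :=
    ((Matrix.GeneralLinearGroup.map emb).comp (Cfsg.isometryGroup F₀ ⇑Q₀).subtype).codRestrict _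
      (fun x => incl_iso emb Q₀ hcomp x.2)
  (φ.comp (Cfsg.Omega F₀ ⇑Q₀).subtype).codRestrict _ (fun x => by
    have hle : (commutator (Cfsg.isometryGroup F₀ ⇑Q₀)).map φ ≤ commutator (Cfsg.isometryGroup F ⇑Q) := by
      rw [_root_.commutator_def, Subgroup.map_commutator]
      exact Subgroup.commutator_mono le_top le_top
    exact hle ⟨x.1, x.2, rfl⟩)

theorem inclΩ_val (s : Cfsg.Omega F₀ ⇑Q₀) : (inclΩ emb Q₀ hcomp s).1.1.1 = s.1.1.1.map emb := rfl

variable {σ : RingAut F}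

theorem inclΩ_fixed (hfix : Fixed Q) (hι : ∀ y, σ y = y ↔ y ∈ emb.range) (s : Cfsg.Omega F₀ ⇑Q₀) :
    fld hfix σ (QuotientGroup.mk (inclΩ emb Q₀ hcomp s)) = QuotientGroup.mk (inclΩ emb Q₀ hcomp s) := by
  rw [fld_mk]
  congr 1
  exact Subtype.ext (Subtype.ext (Units.ext (Matrix.ext fun i j => (hι _).mpr ⟨s.1.1.1 i j, rfl⟩)))

include hcomp in
/-- A semilinear similitude fixing the small group pointwise modulo scalars is a scalar on the subfield. -/
theorem fix_small (hfix : Fixed Q) (hQ : (polarBilin Q).Nondegenerate) (hQ₀ : (polarBilin Q₀).Nondegenerate)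
    (hn : 7 ≤ Fintype.card ι) {g : PGO.GO Q} {τ : RingAut F}
    (h : ∀ s : Cfsg.Omega F₀ ⇑Q₀, (PGO.Θ Q g * fld hfix τ) (QuotientGroup.mk (inclΩ emb Q₀ hcomp s)) =
      QuotientGroup.mk (inclΩ emb Q₀ hcomp s)) :
    (∀ t : F₀, τ (emb t) = emb t) ∧ ∃ c : Fˣ, g.1 = PGO.sc c := by
  classical
  have hF : finrank F (ι → F) = Fintype.card ι := Module.finrank_fintype_fun_eq_card F
  have hF₀ : finrank F₀ (ι → F₀) = Fintype.card ι := Module.finrank_fintype_fun_eq_card F₀
  let e₀ := CfsgLib.SpinorMatrix.isoEquiv Q₀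
  let T : (ι → F) → (ι → F) := fun v => g.1.1 *ᵥ σv τ v
  have Tadd : ∀ x y, T (x + y) = T x + T y := fun x y => by
    show _ = g.1.1 *ᵥ σv τ x + g.1.1 *ᵥ σv τ y
    rw [← Matrix.mulVec_add]
    exact congrArg (g.1.1 *ᵥ ·) (funext fun i => map_add τ (x i) (y i))
  have Tsmul : ∀ (c : F) x, T (c • x) = τ c • T x := fun c x => by
    show _ = τ c • g.1.1 *ᵥ σv τ x
    rw [← Matrix.mulVec_smul]
    exact congrArg (g.1.1 *ᵥ ·) (funext fun i => map_mul τ c (x i))
  have Tinj : Function.Injective T := fun x y h =>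
    funext fun i => τ.injective (congrFun (Matrix.mulVec_injective_of_isUnit g.1.isUnit h) i)
  have T0 : T 0 = 0 := by have := Tsmul 0 0; rwa [zero_smul, map_zero, zero_smul] at this
  obtain ⟨d, hd⟩ := g.2
  have upinj : ∀ {u : ι → F₀}, u ≠ 0 → up emb u ≠ 0 := fun hu h0 =>
    hu (funext fun i => emb.injective ((congrFun h0 i).trans (map_zero emb).symm))
  -- singular points over the subfield are fixed
  have hpt : ∀ u : ι → F₀, u ≠ 0 → Q₀ u = 0 → ∃ μ : F, T (up emb u) = μ • up emb u := by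
    intro u hu0 hu
    by_contra hne
    push Not at hne
    obtain ⟨y, hy⟩ : ∃ y, y = T (up emb u) := ⟨_, rfl⟩
    rw [← hy] at hne
    have hy0 : y ≠ 0 := fun h0 => upinj hu0 (Tinj (by rw [← hy, h0, T0]))
    have hQu : Q (up emb u) = 0 := by rw [hcomp, hu, map_zero]
    have hfix' : ∀ w : ι → F₀, polar Q₀ u w = 0 → ∃ c : F,
        y + (polar Q (up emb u) y • up emb w +
          (-(polar Q (up emb w) y) - Q (up emb w) * polar Q (up emb u) y) • up emb u) = c • y := by
      intro w hw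
      obtain ⟨k, hk⟩ := exists_eich Q₀ hu hw
      have hkm : e₀.symm k ∈ Cfsg.Omega F₀ ⇑Q₀ := by
        rw [Cfsg.Omega, SpinorMatrix.comap_commutator e₀, Subgroup.mem_comap]
        simp only [MulEquiv.coe_toMonoidHom, MulEquiv.apply_symm_apply]
        rw [OmegaSimple.commutator_eq Q₀ hQ₀ (by omega)]
        exact OmegaSimple.eich_mem Q₀ hQ₀ (by omega) hu0 hu hw hk
      obtain ⟨S, hS⟩ : ∃ S, S = inclΩ emb Q₀ hcomp ⟨e₀.symm k, hkm⟩ := ⟨_, rfl⟩
      have hSx : ∀ x : ι → F, S.1.1.1 *ᵥ x = x + (polar Q (up emb u) x • up emb w +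
          (-(polar Q (up emb w) x) - Q (up emb w) * polar Q (up emb u) x) • up emb u) := by
        have huw : polar Q (up emb u) (up emb w) = 0 := by rw [polar_up emb Q₀ hcomp, hw, map_zero]
        obtain ⟨K, hK⟩ := exists_eich Q hQu huw
        have key : Matrix.mulVecLin S.1.1.1 = K.1.toLinearMap := (Pi.basisFun F ι).ext fun j => by
          rw [Pi.basisFun_apply, Matrix.mulVecLin_apply, LinearEquiv.coe_coe, hK, ← up_single emb, hS, inclΩ_val,
            ← up_mulVec, SpinorMatrix.isoEquiv_symm_apply, hk, up_add, up_add, up_smul, up_smul, map_sub, map_neg,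
            map_mul, ← polar_up emb Q₀ hcomp, ← polar_up emb Q₀ hcomp, ← hcomp]
        intro x
        rw [← hK x]
        exact congrArg (fun l : (ι → F) →ₗ[F] (ι → F) => l x) key
      have h1 := h ⟨e₀.symm k, hkm⟩
      rw [← hS, MulAut.mul_apply, fld_mk] at h1
      change QuotientGroup.mk (PGO.omEquiv Q g (fΩ hfix τ S)) = _ at h1
      rw [QuotientGroup.eq] at h1
      have hSu : S.1.1.1 *ᵥ up emb u = up emb u := by
        rw [hSx, polar_comm Q (up emb w), polar_up emb Q₀ hcomp, polar_up emb Q₀ hcomp, hw]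
        simp [ReflectionGen.pol_self, hu]
      -- the centre acts by scalars
      obtain ⟨K, hK⟩ : ∃ K, K = PGO.omEquiv Q g (fΩ hfix τ S) := ⟨_, rfl⟩
      rw [← hK] at h1
      have hKy : K.1.1.1 *ᵥ y = y := by
        rw [hK]
        show (g.1 * PGO.σM τ S.1.1 * g.1⁻¹).1 *ᵥ y = y
        rw [hy, Units.val_mul, Units.val_mul]
        show (g.1.1 * S.1.1.1.map τ * (g.1⁻¹).1) *ᵥ (g.1.1 *ᵥ σv τ (up emb u)) = g.1.1 *ᵥ σv τ (up emb u)
        rw [Matrix.mulVec_mulVec, Matrix.mul_assoc, Units.inv_mul, Matrix.mul_one, ← Matrix.mulVec_mulVec,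
          ← σv_mulVec, hSu]
      obtain ⟨c, hc⟩ : ∃ c : F, (K⁻¹ * S).1.1.1 = c • 1 := by
        rcases POmegaCard.center_cases Q (by omega) hQ _ h1 with h' | h'
        · exact ⟨1, by rw [one_smul]; exact h'⟩
        · exact ⟨-1, by rw [neg_one_smul]; exact h'⟩
      refine ⟨c, ?_⟩
      rw [← hSx]
      have e : S.1.1.1 = K.1.1.1 * (K⁻¹ * S).1.1.1 := by
        show _ = K.1.1.1 * ((K.1.1⁻¹).1 * S.1.1.1)
        rw [← Matrix.mul_assoc, Units.mul_inv, Matrix.one_mul]
      rw [e, hc, Matrix.mul_smul, Matrix.mul_one, Matrix.smul_mulVec, hKy]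
    by_cases huy : polar Q (up emb u) y = 0
    · -- an orthogonal vector moving `y`
      obtain ⟨f, hf, huf⟩ := exists_partner Q₀ hQ₀ hu0 hu
      have hall : ∀ w : ι → F₀, polar Q₀ u w = 0 → polar Q (up emb w) y = 0 := by
        intro w hw
        obtain ⟨c, hc⟩ := hfix' w hw
        rw [huy, zero_smul, zero_add, mul_zero, sub_zero] at hc
        by_contra h0
        have hc' : (c - 1) • y = (-(polar Q (up emb w) y)) • up emb u := by linear_combination (norm := module) -hc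
        rcases eq_or_ne (c - 1) 0 with h1 | h1
        · rw [h1, zero_smul, eq_comm, smul_eq_zero] at hc'
          exact hc'.elim (neg_ne_zero.mpr h0) (upinj hu0)
        · exact hne ((c - 1)⁻¹ * (-(polar Q (up emb w) y))) (by rw [← smul_smul, ← hc', inv_smul_smul₀ h1])
      refine hne (polar Q (up emb f) y) (sub_eq_zero.mp (hQ.2 _ fun z => ?_))
      have hlin : (polarBilin Q).flip (y - polar Q (up emb f) y • up emb u) = 0 := (Pi.basisFun F ι).ext fun j => by
        rw [Pi.basisFun_apply, ← up_single emb]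
        show polar Q (up emb (Pi.single j 1)) (y - polar Q (up emb f) y • up emb u) = 0
        obtain ⟨v, hv⟩ : ∃ v, v = (Pi.single j (1 : F₀) : ι → F₀) := ⟨_, rfl⟩
        rw [← hv]
        have h2 := hall (v - polar Q₀ u v • f)
          (by simp [sub_eq_add_neg, polar_add_right, polar_neg_right, polar_smul_right, huf])
        rw [sub_eq_add_neg, ← neg_smul, up_add, up_smul, map_neg, neg_smul, polar_add_left, polar_neg_left,
          polar_smul_left] at h2
        rw [sub_eq_add_neg, polar_add_right, polar_neg_right, polar_smul_right, polar_comm Q _ (up emb u),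
          polar_up emb Q₀ hcomp u v]
        simp only [smul_eq_mul] at h2 ⊢
        linear_combination h2
      exact LinearMap.congr_fun hlin z
    · obtain ⟨f, hf, huf⟩ := exists_partner Q₀ hQ₀ hu0 hu
      have := perp_finrank Q₀ hu hf huf
      haveI := Module.nontrivial_of_finrank_pos (R := F₀) (M := perp Q₀ u f) (by omega)
      obtain ⟨w, hw0⟩ := exists_ne (0 : perp Q₀ u f)
      obtain ⟨huw, hfw⟩ := (mem_perp Q₀).mp w.2
      obtain ⟨c, hc⟩ := hfix' w.1 huw
      have hu2 := congrArg (polar Q (up emb u)) hc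
      simp [polar_add_right, polar_smul_right, ReflectionGen.pol_self, hQu, polar_up emb Q₀ hcomp, hu, huw] at hu2
      have hc1 : c = 1 := mul_right_cancel₀ huy (by rw [one_mul]; linear_combination -hu2)
      rw [hc1, one_smul, add_eq_left] at hc
      have hf2 := congrArg (polar Q (up emb f)) hc
      simp [polar_add_right, polar_smul_right, polar_up emb Q₀ hcomp, hfw, polar_comm Q₀ f u, huf] at hf2
      rw [hf2, zero_smul, add_zero, smul_eq_zero] at hc
      exact hc.elim huy (upinj (fun h0 => hw0 (Subtype.ext h0)))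
  obtain ⟨lam, hlam⟩ : ∃ lam : (ι → F₀) → F, ∀ u, u ≠ 0 → Q₀ u = 0 → T (up emb u) = lam u • up emb u :=
    ⟨fun u => if h : u ≠ 0 ∧ Q₀ u = 0 then (hpt u h.1 h.2).choose else 0,
      fun u h1 h2 => by simp only [dif_pos (And.intro h1 h2)]; exact (hpt u h1 h2).choose_spec⟩
  have hor : ∀ a c, a ≠ 0 → c ≠ 0 → Q₀ a = 0 → Q₀ c = 0 → polar Q₀ a c = 0 → (∀ t : F₀, c ≠ t • a) →
      lam a = lam c := by
    intro a c ha0 hc0 ha hc hac hind
    have hs : Q₀ (a + c) = 0 := by rw [QuadraticMap.map_add Q₀, ha, hc, hac, add_zero, add_zero]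
    have hs0 : a + c ≠ 0 := fun h0 => hind (-1) (by rw [neg_one_smul]; exact eq_neg_of_add_eq_zero_right h0)
    have e := hlam _ hs0 hs
    rw [up_add, Tadd, hlam a ha0 ha, hlam c hc0 hc, smul_add] at e
    have e' : (lam a - lam (a + c)) • up emb a + (lam c - lam (a + c)) • up emb c = 0 := by
      linear_combination (norm := module) e
    obtain ⟨f, hf⟩ := dual_family (Q := Q₀) hQ₀ (by omega) ![a, c]
      ((LinearIndependent.pair_iff' ha0).mpr fun t ht => hind t ht.symm)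
    have k0 := congrArg (fun v => polar Q v (up emb (f 0))) e'
    have k1 := congrArg (fun v => polar Q v (up emb (f 1))) e'
    simp [polar_add_left, polar_smul_left, polar_up emb Q₀ hcomp,
      show polar Q₀ a (f 0) = 1 by simpa using hf 0 0, show polar Q₀ c (f 0) = 0 by simpa using hf 1 0,
      show polar Q₀ a (f 1) = 0 by simpa using hf 0 1, show polar Q₀ c (f 1) = 1 by simpa using hf 1 1] at k0 k1
    exact (sub_eq_zero.mp k0).trans (sub_eq_zero.mp k1).symm
  obtain ⟨u₀, hu₀0, hu₀⟩ := FiniteForms.exists_singular Q₀ (by omega)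
  obtain ⟨μ, hμ⟩ : ∃ μ, μ = lam u₀ := ⟨_, rfl⟩
  have hall : ∀ u, u ≠ 0 → Q₀ u = 0 → T (up emb u) = μ • up emb u := fun u h1 h2 => by
    rw [hlam u h1 h2, hμ, const_of_orth Q₀ hQ₀ (by omega) lam hor h1 hu₀0 h2 hu₀]
  have hμ0 : μ ≠ 0 := fun h0 => upinj hu₀0 (Tinj (by rw [hall _ hu₀0 hu₀, h0, zero_smul, T0]))
  refine ⟨fun t => ?_, Units.mk0 μ hμ0, Units.ext (Matrix.ext_of_mulVec_single fun j => ?_)⟩
  · rcases eq_or_ne t 0 with rfl | ht
    · simp
    have h1 := hall (t • u₀) (smul_ne_zero ht hu₀0) (by rw [QuadraticMap.map_smul, hu₀, smul_zero])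
    rw [up_smul, Tsmul, hall _ hu₀0 hu₀, smul_smul, smul_smul, mul_comm μ] at h1
    exact mul_right_cancel₀ hμ0 (smul_left_injective F (upinj hu₀0) h1)
  · have hv : ∀ v : ι → F₀, T (up emb v) = μ • up emb v := fun v =>
      span3 Q₀ hQ₀ (by omega) (fun v => T (up emb v) = μ • up emb v)
        (fun a b ha hb => by rw [up_add, Tadd, ha, hb, smul_add]) (fun v hv => by
          rcases eq_or_ne v 0 with rfl | hv0
          · rw [show up emb (0 : ι → F₀) = 0 from funext fun i => map_zero emb, T0, smul_zero]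
          · exact hall v hv0 hv) v
    have := hv (Pi.single j 1)
    rw [up_single] at this
    rw [PGO.sc_mulVec, Units.val_mk0, ← this]
    show g.1.1 *ᵥ _ = g.1.1 *ᵥ _
    congr 1
    funext i
    by_cases hi : i = j <;> simp [σv, Pi.single_apply, hi]

include hcomp in
/-- Rigidity of field automorphisms. -/
theorem rigid_field (hfix : Fixed Q) (hQ : (polarBilin Q).Nondegenerate) (hQ₀ : (polarBilin Q₀).Nondegenerate)
    (hn : 7 ≤ Fintype.card ι)
    (hmax : (∀ W : Submodule F (ι → F), (∀ a ∈ W, Q a = 0) → 2 * finrank F W < Fintype.card ι) ∨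
      10 ≤ Fintype.card ι)
    (hι : ∀ y, σ y = y ↔ y ∈ emb.range) {p : ℕ} [hp : Fact p.Prime] (hord : orderOf σ = p)
    (hdiv : p ∣ Nat.card (PGO.Θ Q₀).range → p ∣ Nat.card (Cfsg.POmega F₀ ⇑Q₀)) :
    CoreGen.Rigid p (fld hfix σ) := by
  classical
  intro hdvd N hN hc hk
  haveI : Nonempty ι := Fintype.card_pos_iff.mp (by omega)
  have hne : ∃ v, Q₀ v ≠ 0 :=
    OmegaSimple.exists_nonzero_value Q₀ hQ₀ (by rw [Module.finrank_fintype_fun_eq_card]; omega)
  let φ : PGO.GO Q₀ →* MulAut (Cfsg.POmega F ⇑Q) := (PGO.Θ Q).comp (incl emb Q₀ hcomp)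
  have hrange : φ.range = (PGO.Θ Q).range ⊓ Subgroup.centralizer {fld hfix σ} :=
    range_centralizer emb Q₀ hcomp hfix hQ hn hι hne
  have hinn : Cfsg.Inn (Cfsg.POmega F ⇑Q) ≤ (PGO.Θ Q).range := by rw [PGO.inn_eq]; exact Subgroup.map_le_range _ _
  have hinj := conj_injective hQ hn
  have hinj₀ := conj_injective hQ₀ hn
  have hker : φ.ker = (PGO.Θ Q₀).ker := by
    ext y
    rw [MonoidHom.mem_ker, MonoidHom.mem_ker, MonoidHom.comp_apply, Θ_eq_one hQ hn, Θ_eq_one hQ₀ hn]
    obtain ⟨i₀⟩ := (inferInstance : Nonempty ι)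
    constructor
    · rintro ⟨u, hu⟩
      have hu' : y.1.1.map emb = (u : F) • (1 : Matrix ι ι F) := by rw [← PGO.sc_val, ← hu]; rfl
      have hi : (u : F) = emb (y.1.1 i₀ i₀) := by
        have := congrFun (congrFun hu' i₀) i₀
        simpa using this.symm
      refine ⟨Units.mk0 (y.1.1 i₀ i₀) (fun h0 => u.ne_zero (by rw [hi, h0, map_zero])),
        Units.ext (Matrix.map_injective emb.injective ?_)⟩
      show y.1.1.map emb = ((PGO.sc (ι := ι) (Units.mk0 (y.1.1 i₀ i₀) _)).1).map emb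
      rw [hu', PGO.sc_val, Units.val_mk0, FieldGen.map_smul_hom, hi, Matrix.map_one _ (map_zero emb) (map_one emb)]
    · rintro ⟨u, hu⟩
      refine ⟨Units.map emb.toMonoidHom u, Units.ext ?_⟩
      rw [incl_val, hu, PGO.sc_val, PGO.sc_val, FieldGen.map_smul_hom, Matrix.map_one _ (map_zero emb) (map_one emb)]
      rfl
  have hcardmap : ∀ H : Subgroup (PGO.GO Q₀), Nat.card (H.map (PGO.Θ Q₀)) = Nat.card (H.map φ) := fun H => by
    rw [← Subgroup.relIndex_ker, ← Subgroup.relIndex_ker, hker]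
  have key₀ : ∀ w : Cfsg.Omega F₀ ⇑Q₀,
      PGO.Θ Q₀ ⟨w.1.1, PGO.iso_mem Q₀ w.1.2⟩ = MulAut.conj (QuotientGroup.mk w) := fun w => by
    refine MulEquiv.ext fun x => QuotientGroup.induction_on x fun s => ?_
    show QuotientGroup.mk (PGO.omEquiv Q₀ _ s) = _
    rw [MulAut.conj_apply, ← QuotientGroup.mk_inv, ← QuotientGroup.mk_mul, ← QuotientGroup.mk_mul]
    congr 1
  have key : ∀ w : Cfsg.Omega F₀ ⇑Q₀, φ ⟨w.1.1, PGO.iso_mem Q₀ w.1.2⟩ =
      MulAut.conj (QuotientGroup.mk (inclΩ emb Q₀ hcomp w)) := fun w => by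
    refine MulEquiv.ext fun x => QuotientGroup.induction_on x fun s => ?_
    show QuotientGroup.mk (PGO.omEquiv Q _ s) = _
    rw [MulAut.conj_apply, ← QuotientGroup.mk_inv, ← QuotientGroup.mk_mul, ← QuotientGroup.mk_mul]
    congr 1
  haveI := OmegaSimple.pomega_simple Q₀ (⇑Q₀) (fun _ => rfl) hQ₀ (by omega)
  haveI : Finite (MulAut (Cfsg.POmega F ⇑Q)) :=
    Finite.of_injective (fun f => (f : Cfsg.POmega F ⇑Q → Cfsg.POmega F ⇑Q)) DFunLike.coe_injective
  have hpK : p ∣ Nat.card (Cfsg.POmega F₀ ⇑Q₀) := by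
    refine hdiv ?_
    rw [MonoidHom.range_eq_map, hcardmap, ← MonoidHom.range_eq_map]
    let g : ↥(MonoidHom.eqLocus (fld hfix σ).toMonoidHom (MonoidHom.id (Cfsg.POmega F ⇑Q))) →*
        MulAut (Cfsg.POmega F ⇑Q) := MulAut.conj.comp (Subgroup.subtype _)
    have hg : g.range ≤ φ.range := by
      rintro _ ⟨k, rfl⟩
      rw [hrange]
      refine Subgroup.mem_inf.mpr ⟨hinn ⟨k.1, rfl⟩, Subgroup.mem_centralizer_singleton_iff.mpr ?_⟩
      show MulAut.conj k.1 * fld hfix σ = fld hfix σ * MulAut.conj k.1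
      rw [CoreGen.mul_conj, show fld hfix σ k.1 = k.1 from k.2]
    exact dvd_trans hdvd (dvd_trans
      (Nat.card_congr (MonoidHom.ofInjective (f := g) (hinj.comp (Subgroup.subtype_injective _))).toEquiv).dvd
      (Subgroup.card_dvd_of_le hg))
  have hMbot : ∀ a ∈ N, a ∈ (PGO.Θ Q).range → a = 1 := by
    intro a ha haI
    let M1 : Subgroup (MulAut (Cfsg.POmega F₀ ⇑Q₀)) := (N.comap φ).map (PGO.Θ Q₀)
    have hc1 : (Nat.card M1).Coprime p := by
      rw [hcardmap]
      exact Nat.Coprime.coprime_dvd_left (Subgroup.card_dvd_of_le (Subgroup.map_comap_le φ N)) hc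
    have hnorm : ∀ k, ∀ y ∈ M1, MulAut.conj k * y * (MulAut.conj k)⁻¹ ∈ M1 := by
      rintro k _ ⟨y, hy, rfl⟩
      induction k using QuotientGroup.induction_on with
      | _ s =>
        refine ⟨⟨s.1.1, PGO.iso_mem Q₀ s.1.2⟩ * y * ⟨s.1.1, PGO.iso_mem Q₀ s.1.2⟩⁻¹, ?_,
          by rw [map_mul, map_mul, map_inv, key₀]⟩
        show φ _ ∈ N
        rw [map_mul, map_mul, map_inv, key]
        exact hk _ (inclΩ_fixed emb Q₀ hcomp hfix hι s) _ hy
    haveI : (M1.comap (MulAut.conj : Cfsg.POmega F₀ ⇑Q₀ →* _)).Normal := ⟨fun n hn g => by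
      show MulAut.conj (g * n * g⁻¹) ∈ M1
      rw [map_mul, map_mul, map_inv]
      exact hnorm g _ hn⟩
    have hbot : M1.comap (MulAut.conj : Cfsg.POmega F₀ ⇑Q₀ →* _) = ⊥ := by
      refine (IsSimpleGroup.eq_bot_or_eq_top_of_normal _ inferInstance).resolve_right fun htop => ?_
      have hdd := Subgroup.card_comap_dvd_of_injective M1 _ hinj₀
      rw [htop, Subgroup.card_top] at hdd
      exact hp.out.not_dvd_one (hc1 ▸ Nat.dvd_gcd (hpK.trans hdd) dvd_rfl)
    have hM1 : M1 = ⊥ := CoreGen.eq_bot_of_normalized hinj₀ M1 hnorm fun k hk' =>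
      (Subgroup.eq_bot_iff_forall _).mp hbot k hk'
    have hmem : a ∈ φ.range := by
      rw [hrange]
      exact Subgroup.mem_inf.mpr ⟨haI, Subgroup.mem_centralizer_singleton_iff.mpr (hN a ha)⟩
    obtain ⟨b, rfl⟩ := hmem
    have : PGO.Θ Q₀ b = 1 := Subgroup.mem_bot.mp (hM1 ▸ (⟨b, ha, rfl⟩ : PGO.Θ Q₀ b ∈ M1))
    exact (hker ▸ (MonoidHom.mem_ker.mpr this : b ∈ (PGO.Θ Q₀).ker) : b ∈ φ.ker)
  refine (Subgroup.eq_bot_iff_forall _).mpr fun y hy => ?_
  have hyfix : ∀ k, fld hfix σ k = k → y k = k := fun k hk' => by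
    have h1' : MulAut.conj (y k * k⁻¹) ∈ N := by
      have := N.mul_mem hy (hk k hk' _ (N.inv_mem hy))
      rw [map_mul, map_inv, show MulAut.conj (y k) = y * MulAut.conj k * y⁻¹ by rw [CoreGen.mul_conj]; group]
      simpa [mul_assoc] using this
    exact mul_inv_eq_one.mp (hinj ((hMbot _ h1' (hinn ⟨_, rfl⟩)).trans (map_one _).symm))
  obtain ⟨g, τ, rfl⟩ := decomp hfix hQ hn hmax y
  obtain ⟨hτι, c, hg⟩ := fix_small emb Q₀ hcomp hfix hQ hQ₀ hn fun s =>
    hyfix _ (inclΩ_fixed emb Q₀ hcomp hfix hι s)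
  have hy1 : PGO.Θ Q g * fld hfix τ = fld hfix τ := by rw [PGO.Θ_sc Q hg, one_mul]
  rw [hy1] at hy ⊢
  have hτ : (orderOf τ).Coprime p := by
    refine Nat.Coprime.coprime_dvd_left ?_ hc
    rw [← orderOf_injective _ (fld_inj hfix hQ hn) τ, ← Subgroup.orderOf_mk (fld hfix τ) hy]
    exact orderOf_dvd_natCard _
  -- Galois theory
  have hle : ∀ t, emb t ∈ PSLn.fixedField τ := hτι
  letI : Algebra F₀ (PSLn.fixedField τ) := (emb.codRestrict _ hle).toAlgebra
  haveI : Fintype (PSLn.fixedField τ) := Fintype.ofFinite _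
  haveI : Module.Finite F₀ (PSLn.fixedField τ) := Module.Finite.of_finite
  have hj := Module.card_eq_pow_finrank (K := F₀) (V := PSLn.fixedField τ)
  rw [← Nat.card_eq_fintype_card, ← Nat.card_eq_fintype_card] at hj
  have hq1 := PSLn.card_eq_fixedField_pow σ
  have h₀ : Nat.card (PSLn.fixedField σ) = Nat.card F₀ :=
    Nat.card_congr ((Equiv.subtypeEquivRight fun y => hι y).trans (Equiv.ofInjective emb emb.injective).symm)
  rw [h₀, hord] at hq1
  have hq2 := PSLn.card_eq_fixedField_pow τ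
  rw [hq1, hj, ← pow_mul] at hq2
  have hmul := Nat.pow_right_injective (Finite.one_lt_card (α := F₀)) hq2
  have : orderOf τ ∣ p := Dvd.intro_left _ hmul.symm
  have hτ1 : τ = 1 := orderOf_eq_one_iff.mp (Nat.eq_one_of_dvd_coprimes hτ dvd_rfl this)
  rw [hτ1, map_one]

end CfsgLib.OrthAut
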