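import Cfsg.Agent.Lib.ChevClassical.D4
import Cfsg.Agent.Lib.Chev.GraphAut
import Cfsg.Agent.Lib.Chev.CharDiag
import Cfsg.Agent.Lib.Chev.Inst
import Cfsg.Prelude.Def_KGroupFacts
import Cfsg.Agent.Lib.PGO.Basic
import Mathlib.Algebra.Group.End

/-!
The model of type D4: diagonal similitudes induce diagonal automorphisms of the Chevalley group.
-/

set_option autoImplicit false
set_option linter.unusedSectionVars false
set_option maxRecDepth 100000
set_option maxHeartbeats 1600000

namespace CfsgLib.OrthD4Model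

open Cfsg Cfsg.Lie Matrix
open CfsgLib.ChevClassical

variable {F : Type*} [Field F]

theorem eval_entry {ι : Type} [Fintype ι] [DecidableEq ι] (p q : ι) (L : List (Ent ι)) :
    eval (1 : F) L p q = (((L.filter fun e => e.2.1 == p && e.2.2.1 == q).map (fun e => e.2.2.2)).sum : ℤ) := by
  induction L with
  | nil => simp
  | cons e L ih =>
    rw [eval_cons, Matrix.add_apply, ih, List.filter_cons]
    by_cases h : e.2.1 = p ∧ e.2.2.1 = q
    · simp [h.1, h.2]
    · rcases not_and_or.1 h with h | h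
      · simp [h, Matrix.single_apply_of_row_ne h]
      · simp [h, Matrix.single_apply_of_col_ne _ _ h]

/-- An isomorphism with the model compatible with the adjoint action. -/
theorem exists_equiv :
    ∃ e : POmega F ⇑(qform (F := F) D4.tab) ≃* ↥(chevD4.group F),
      ∀ g : Omega F ⇑(qform (F := F) D4.tab),
        Tab.Compat (T := D4.tab) F (e (QuotientGroup.mk g) : GL chevD4.Idx F) g.1.1 ∧
        ∀ x : ↥(chevD4.group F), Tab.Compat (T := D4.tab) F (x : GL chevD4.Idx F) g.1.1 →
          x = e (QuotientGroup.mk g) := by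
  classical
  have hsimple : IsSimpleGroup ↥(chevD4.group F) ∧ ¬ IsMulCommutative ↥(chevD4.group F) :=
    CfsgLib.Chev.simple_of_conn CfsgLib.Chev.chevD4 CfsgLib.Chev.connD4 ⟨0, by decide⟩
      (CfsgLib.Chev.perfect_of_mem (by simp) fun h => by
        rcases h with h | h <;>
          exact absurd (congrArg Cfsg.Lie.ChevalleyDatum.nroots h) (by decide))
  obtain ⟨Φ⟩ := CfsgLib.Chev.exists_chev (D := chevD4) (by simp)
  have hgen : ∀ r (t : F), ∃ x : GL chevD4.Idx F, (x : Matrix chevD4.Idx chevD4.Idx F) = chevD4.xMat F r t :=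
    fun r t => ⟨Φ.xg r t, by rw [Φ.xg_val]; exact (Φ.xMat_eq F r t).symm⟩
  have hT := D4.ok
  have hΩ := D4.omega_model (F := F)
  haveI := hsimple.1
  let K0 : Subgroup ↥(chevD4.group F) :=
    { carrier := {x | Tab.Compat (T := D4.tab) F (x : GL chevD4.Idx F) 1}
      mul_mem' := fun {a b} ha hb => by simpa using ha.mul F hb
      one_mem' := Tab.compat_one F
      inv_mem' := fun {a} ha => by simpa using ha.inv F }
  have hK0 : ∀ x : ↥(chevD4.group F), x ∈ K0 → x = 1 := by
    haveI : K0.Normal := ⟨fun x hx g => by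
      obtain ⟨h, -, hc⟩ := Tab.exists_y hT F g.1 g.2
      have := (hc.mul F hx).mul F (hc.inv F)
      show Tab.Compat (T := D4.tab) F _ 1
      simpa using this⟩
    rcases Subgroup.Normal.eq_bot_or_eq_top (H := K0) inferInstance with h | h
    · intro x hx; rw [h] at hx; exact hx
    · exfalso
      refine hsimple.2 ⟨⟨fun a b => ?_⟩⟩
      have hall : ∀ g : Omega F ⇑(qform (F := F) D4.tab), ∃ c : F, g.1.1.1 = c • 1 := fun g => by
        obtain ⟨x, hx, hc⟩ := Tab.exists_x hT F hgen g.1.1 (hΩ ▸ ⟨g.1, g.2, rfl⟩)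
        have h1 : Tab.Compat (T := D4.tab) F (x : GL chevD4.Idx F) 1 :=
          (h ▸ Subgroup.mem_top (⟨x, hx⟩ : ↥(chevD4.group F)) : (⟨x, hx⟩ : ↥(chevD4.group F)) ∈ K0)
        have h2 := (h1.inv F).mul F hc
        simp only [inv_one, one_mul, inv_mul_cancel] at h2
        exact Tab.scalar_of_trivial hT F h2
      exfalso
      obtain ⟨r, hr⟩ := hT.movedOK
      obtain ⟨o, ho, hoy⟩ := D4.y_omega (F := F) r 1
      obtain ⟨c, hc⟩ := hall ⟨o, ho⟩
      have h3 := congrFun (congrFun hc D4.tab.moved.1) D4.tab.moved.2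
      rw [show o.1 = Tab.y hT F r 1 from hoy, Tab.y_val, Tab.Y, eval_append, Tab.eval_one hT] at h3
      simp [hT.movedNe] at h3
      rw [eval_entry D4.tab.moved.1 D4.tab.moved.2] at h3
      simp only [List.mem_cons, List.not_mem_nil, or_false] at hr
      rcases hr with hr | hr <;> rw [hr] at h3 <;> simp at h3
  have huniq : ∀ (a b : ↥(chevD4.group F)) (h : GL D4.I F), Tab.Compat (T := D4.tab) F (a : GL chevD4.Idx F) h →
      Tab.Compat (T := D4.tab) F (b : GL chevD4.Idx F) h → a = b := by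
    intro a b h ha hb
    have := hK0 (a⁻¹ * b) (by
      show Tab.Compat (T := D4.tab) F _ 1
      simpa using (ha.inv F).mul F hb)
    rwa [inv_mul_eq_one] at this
  have hex : ∀ g : Omega F ⇑(qform (F := F) D4.tab),
      ∃ x : ↥(chevD4.group F), Tab.Compat (T := D4.tab) F (x : GL chevD4.Idx F) g.1.1 := fun g => by
    obtain ⟨x, hx, hc⟩ := Tab.exists_x hT F hgen g.1.1 (hΩ ▸ ⟨g.1, g.2, rfl⟩)
    exact ⟨⟨x, hx⟩, hc⟩
  choose θ hθ using hex
  let θhom : Omega F ⇑(qform (F := F) D4.tab) →* ↥(chevD4.group F) := MonoidHom.mk' θ fun a b =>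
    huniq _ _ _ (hθ (a * b)) (by simpa using (hθ a).mul F (hθ b))
  have hsurj : Function.Surjective θhom := fun x => by
    obtain ⟨h, hh, hc⟩ := Tab.exists_y hT F x.1 x.2
    rw [← hΩ] at hh
    obtain ⟨g, hg, rfl⟩ := hh
    exact ⟨⟨g, hg⟩, huniq _ _ _ (hθ ⟨g, hg⟩) hc⟩
  have hker : θhom.ker = Subgroup.center (Omega F ⇑(qform (F := F) D4.tab)) := by
    refine le_antisymm (fun g hg => Subgroup.mem_center_iff.2 fun h => ?_) fun g hg => ?_
    · have h1 := hθ g
      rw [show θ g = 1 from hg] at h1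
      obtain ⟨c, hc⟩ := Tab.scalar_of_trivial hT F h1
      refine Subtype.ext (Subtype.ext (Units.ext ?_))
      show (h.1.1 : Matrix D4.I D4.I F) * g.1.1 = g.1.1 * h.1.1
      rw [hc]; simp
    · have h1 : θhom g ∈ Subgroup.center ↥(chevD4.group F) := Subgroup.mem_center_iff.2 fun x => by
        obtain ⟨h, rfl⟩ := hsurj x
        rw [← map_mul, ← map_mul, Subgroup.mem_center_iff.1 hg h]
      rcases Subgroup.Normal.eq_bot_or_eq_top (H := Subgroup.center ↥(chevD4.group F)) inferInstance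
        with h | h
      · rw [h] at h1; exact h1
      · exact absurd ⟨⟨fun a b => Subgroup.mem_center_iff.1 (h ▸ Subgroup.mem_top b) a⟩⟩ hsimple.2
  refine ⟨(QuotientGroup.quotientMulEquivOfEq hker.symm).trans
    (QuotientGroup.quotientKerEquivOfSurjective θhom hsurj), fun g => ⟨hθ g, fun x hx => huniq _ _ _ hx (hθ g)⟩⟩

/-- The exponent of a root under diagonal exponents. -/
def ev (a : D4.I → ℤ) (r : ℕ) : ℤ :=
  if h : r < chevD4.nroots then
    match (D4.tab.A ⟨r, h⟩).head? with
    | none => 0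
    | some e => a e.2.1 - a e.2.2.1
  else 0

/-- The exponents give a character of the root lattice. -/
def charOK (a : D4.I → ℤ) : Bool :=
  ((List.finRange chevD4.nroots).all fun r => (D4.tab.X r).all fun e => a e.2.1 - a e.2.2.1 == ev a r.val) &&
  ((List.finRange chevD4.rank).all fun i => (D4.tab.H i).all fun e => a e.2.1 - a e.2.2.1 == 0) &&
  ((List.range chevD4.nroots).all fun r => ev a (chevD4.neg r) == - ev a r) &&
  (List.range chevD4.nroots).all fun r => (List.range chevD4.nroots).all fun s =>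
    match chevD4.chainRoot r s 1 with
    | none => true
    | some k => ev a k == ev a r + ev a s

/-- The exponents of a similitude with nonsquare multiplier. -/
def aSim : D4.I → ℤ := Sum.elim (fun _ => 1) (fun _ => 0)

/-- The exponents of a rotation with nonsquare spinor norm. -/
def aRot : D4.I → ℤ := Sum.elim (fun i => if i = 0 then 1 else 0) (fun i => if i = 0 then -1 else 0)

theorem charOK_sim : charOK aSim = true := by decide +kernel

theorem charOK_rot : charOK aRot = true := by decide +kernel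

/-- A diagonal unit. -/
def diagU (u : D4.I → Fˣ) : GL D4.I F :=
  ⟨Matrix.diagonal fun p => (u p : F), Matrix.diagonal fun p => ((u p)⁻¹ : Fˣ),
    by simp [Matrix.diagonal_mul_diagonal], by simp [Matrix.diagonal_mul_diagonal]⟩

theorem diagU_mulVec (u : D4.I → Fˣ) (v : D4.I → F) : (diagU u).1 *ᵥ v = fun p => (u p : F) * v p :=
  funext fun p => Matrix.mulVec_diagonal _ v p

theorem eval_conj (ν : Fˣ) (a : D4.I → ℤ) (k : ℤ) (L : List (Ent D4.I))
    (hL : ∀ e ∈ L, a e.2.1 - a e.2.2.1 = k) :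
    (diagU fun p => ν ^ a p).1 * eval (1 : F) L * ((diagU fun p => ν ^ a p)⁻¹).1 =
      ((ν ^ k : Fˣ) : F) • eval (1 : F) L := by
  induction L with
  | nil => simp
  | cons e L ih =>
    rw [eval_cons, Matrix.mul_add, Matrix.add_mul, ih (fun x hx => hL x (List.mem_cons_of_mem e hx)), smul_add]
    congr 1
    show Matrix.diagonal _ * _ * Matrix.diagonal _ = _
    ext i j
    rw [Matrix.mul_diagonal, Matrix.diagonal_mul, Matrix.smul_apply, smul_eq_mul]
    by_cases h : e.2.1 = i ∧ e.2.2.1 = j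
    · obtain ⟨rfl, rfl⟩ := h
      rw [← hL e List.mem_cons_self, _root_.zpow_sub, Units.val_mul]
      ring
    · rcases not_and_or.1 h with h | h <;> simp [Matrix.single_apply, h]

theorem isRootCharacter_pow {a : D4.I → ℤ} (ha : charOK a = true) (ν : Fˣ) :
    chevD4.IsRootCharacter fun r => ν ^ ev a r := by
  simp only [charOK, Bool.and_eq_true, List.all_eq_true, List.mem_range, beq_iff_eq] at ha
  obtain ⟨⟨⟨-, -⟩, h3⟩, h4⟩ := ha
  refine ⟨fun r hr => by simp only [h3 r hr, _root_.zpow_neg], fun r s k hr hs hk => ?_⟩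
  have := h4 r hr s hs
  rw [hk] at this
  simp only [beq_iff_eq] at this
  simp only [this, _root_.zpow_add]

/-- A diagonal similitude induces a diagonal automorphism. -/
theorem isDiagonal_transport [Fintype F] (e : POmega F ⇑(qform (F := F) D4.tab) ≃* ↥(chevD4.group F))
    (he : ∀ g : Omega F ⇑(qform (F := F) D4.tab),
      Tab.Compat (T := D4.tab) F (e (QuotientGroup.mk g) : GL chevD4.Idx F) g.1.1 ∧
      ∀ x : ↥(chevD4.group F), Tab.Compat (T := D4.tab) F (x : GL chevD4.Idx F) g.1.1 →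
        x = e (QuotientGroup.mk g))
    {a : D4.I → ℤ} (ha : charOK a = true) (ν : Fˣ) (g : PGO.GO (qform (F := F) D4.tab))
    (hg : g.1 = diagU fun p => ν ^ a p) :
    chevD4.IsDiagonalAut (MulAut.congr e (PGO.Θ (qform (F := F) D4.tab) g)) := by
  obtain ⟨Φ⟩ := CfsgLib.Chev.exists_chev (D := chevD4) (by simp)
  set χ : ℕ → Fˣ := fun r => ν ^ ev a r with hχdef
  have hχ := isRootCharacter_pow ha ν
  let X : GL chevD4.Idx F := ⟨chevD4.charDiag F χ, chevD4.charDiag F fun s => (χ s)⁻¹,
    Chev.Chev.charDiag_mul_inv χ, by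
      have := Chev.Chev.charDiag_mul_inv (D := chevD4) (F := F) fun s => (χ s)⁻¹
      simpa only [inv_inv] using this⟩
  have hmem : ∀ x ∈ chevD4.group F, X * x * X⁻¹ ∈ chevD4.group F := by
    intro x hx
    have : chevD4.group F ≤ (chevD4.group F).comap (MulAut.conj X).toMonoidHom := by
      nth_rewrite 1 [Φ.toAlg.group_eq]
      rw [Subgroup.closure_le]
      rintro _ ⟨r, t, rfl⟩
      show X * Φ.toAlg.xg r t * X⁻¹ ∈ chevD4.group F
      have e1 : X * Φ.toAlg.xg r t = Φ.toAlg.xg r ((χ r.val : F) * t) * X := Units.ext (by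
        have := Φ.charDiag_X (F := F) hχ r t
        rw [Φ.toAlg.x_val, Φ.toAlg.x_val] at this
        exact this)
      rw [e1, mul_inv_cancel_right]
      exact Φ.toAlg.xg_mem_group r _
    exact this hx
  have hcomp : Tab.Compat (T := D4.tab) F X g.1 := by
    simp only [charOK, Bool.and_eq_true, List.all_eq_true, List.mem_finRange, beq_iff_eq, true_implies] at ha
    obtain ⟨⟨⟨h1, h2⟩, -⟩, -⟩ := ha
    intro v
    rw [hg]
    show Tab.L D4.tab F (chevD4.charDiag F χ *ᵥ v) = _
    rw [Tab.L_apply, Tab.L_apply, Finset.mul_sum, Finset.sum_mul]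
    refine Finset.sum_congr rfl fun c _ => ?_
    rw [Matrix.mul_smul, Matrix.smul_mul, ChevalleyDatum.charDiag, Matrix.mulVec_diagonal]
    rcases c with i | r
    · rw [show Tab.psiM D4.tab F (Sum.inl i) = eval (1 : F) (D4.tab.H i) from rfl, eval_conj ν a 0 _ (fun x hx => h2 i x hx), zpow_zero, Units.val_one, one_smul]
      simp
    · rw [show Tab.psiM D4.tab F (Sum.inr r) = eval (1 : F) (D4.tab.X r) from rfl, eval_conj ν a (ev a r.val) _ (fun x hx => h1 r x hx), smul_smul]
      simp [hχdef, mul_comm]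
  refine ⟨χ, hχ, fun x => ?_⟩
  obtain ⟨q, rfl⟩ := e.surjective x
  induction q using QuotientGroup.induction_on with
  | _ s =>
    show (e (PGO.Θ _ g (e.symm (e (QuotientGroup.mk s))))).1.1 = _
    rw [MulEquiv.symm_apply_apply]
    show (e (PGO.θ _ g (QuotientGroup.mk s))).1.1 = _
    obtain ⟨y, hy⟩ : ∃ y, y = e (QuotientGroup.mk s) := ⟨_, rfl⟩
    have hcy : Tab.Compat (T := D4.tab) F (X * y.1 * X⁻¹) (g.1 * s.1.1 * g.1⁻¹) :=
      (hcomp.mul F (hy ▸ (he s).1)).mul F (hcomp.inv F)
    have hval : (PGO.omEquiv (qform (F := F) D4.tab) g s).1.1 = g.1 * s.1.1 * g.1⁻¹ := rfl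
    have h1 := (he (PGO.omEquiv (qform (F := F) D4.tab) g s)).2 ⟨X * y.1 * X⁻¹, hmem _ y.2⟩ (by rw [hval]; exact hcy)
    rw [PGO.θ_mk, ← h1, ← hy, Units.val_mul, Units.val_mul]
    rfl

end CfsgLib.OrthD4Model
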