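import Cfsg.Agent.Lib.OrthAut.MinusInn
import Cfsg.Agent.Lib.PolarAut.FieldGen
import Cfsg.Agent.Lib.PSLn.FieldCentral

/-!
Field automorphisms of prime order of the orthogonal groups of minus type.
-/

set_option autoImplicit false
set_option linter.unusedSectionVars false
set_option linter.style.haveILetI false
set_option linter.unusedSimpArgs false
set_option maxHeartbeats 800000

namespace CfsgLib.OrthPair

open QuadraticMap Module CfsgLib.OrthAut CfsgLib.SpinorNorm CfsgLib.SpinorMatrix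
open CfsgLib.OmegaList (RP QP)
open scoped Matrix

variable {F : Type*} [Field F] [Fintype F] {ι : Type} [Fintype ι] [DecidableEq ι]

/-- Isometric forms have isomorphic projective groups. -/
theorem exists_congr (Q Q' : QuadraticForm F (ι → F)) (h : GL ι F) (hh : ∀ v, Q (h.1 *ᵥ v) = Q' v) :
    ∃ E : Cfsg.POmega F ⇑Q' ≃* Cfsg.POmega F ⇑Q, ∀ (s : Cfsg.Omega F ⇑Q') (s' : Cfsg.Omega F ⇑Q),
      s'.1.1 = h * s.1.1 * h⁻¹ → E (QuotientGroup.mk s) = QuotientGroup.mk s' := by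
  have hiso : (Cfsg.isometryGroup F ⇑Q').map (MulAut.conj h).toMonoidHom = Cfsg.isometryGroup F ⇑Q := by
    have h1 : ∀ v, Q' ((h⁻¹).1 *ᵥ v) = Q v := fun v => by
      rw [← hh, Matrix.mulVec_mulVec, Units.mul_inv, Matrix.one_mulVec]
    refine le_antisymm ?_ fun g hg => ⟨h⁻¹ * g * h, fun v _ => ?_, ?_⟩
    · rintro _ ⟨x, hx, rfl⟩ v _
      show Q ((h * x * h⁻¹).1 *ᵥ v) = Q v
      rw [Units.val_mul, Units.val_mul, ← Matrix.mulVec_mulVec, ← Matrix.mulVec_mulVec, hh]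
      exact (hx _ ((h⁻¹).1 *ᵥ v)).trans (h1 v)
    · show Q' ((h⁻¹ * g * h).1 *ᵥ v) = Q' v
      rw [Units.val_mul, Units.val_mul, ← Matrix.mulVec_mulVec, ← Matrix.mulVec_mulVec, h1, ← hh v]
      exact hg _ (h.1 *ᵥ v)
    · show h * (h⁻¹ * g * h) * h⁻¹ = g
      group
  let e := (Cfsg.isometryGroup F ⇑Q').equivMapOfInjective (MulAut.conj h).toMonoidHom (MulAut.conj h).injective
  let e₁ := e.trans (MulEquiv.subgroupCongr hiso)
  have hmap : (Cfsg.Omega F ⇑Q').map e₁.toMonoidHom = Cfsg.Omega F ⇑Q := by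
    show (commutator _).map _ = commutator _
    rw [_root_.commutator_def, _root_.commutator_def, Subgroup.map_commutator,
      Subgroup.map_top_of_surjective _ e₁.surjective]
  let e' : ↥(Cfsg.Omega F ⇑Q') ≃* ↥(Cfsg.Omega F ⇑Q) := (e₁.subgroupMap _).trans (MulEquiv.subgroupCongr hmap)
  have hcen : (Subgroup.center ↥(Cfsg.Omega F ⇑Q')).map e'.toMonoidHom = Subgroup.center ↥(Cfsg.Omega F ⇑Q) := by
    ext x
    constructor
    · rintro ⟨y, hy, rfl⟩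
      refine Subgroup.mem_center_iff.mpr fun k => ?_
      obtain ⟨k, rfl⟩ := e'.surjective k
      show e' k * e' y = e' y * e' k
      rw [← map_mul, ← map_mul, Subgroup.mem_center_iff.mp hy k]
    · intro hx
      refine ⟨e'.symm x, Subgroup.mem_center_iff.mpr fun k => e'.injective ?_, e'.apply_symm_apply x⟩
      rw [map_mul, map_mul, e'.apply_symm_apply]
      exact Subgroup.mem_center_iff.mp hx _
  refine ⟨QuotientGroup.congr _ _ e' hcen, fun s s' hs => ?_⟩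
  show QuotientGroup.mk (e' s) = _
  exact congrArg _ (Subtype.ext (Subtype.ext hs.symm))

variable {F₀ : Type*} [Field F₀] [Fintype F₀] {emb : F₀ →+* F} {Q : QuadraticForm F (ι → F)} {h : GL ι F} {b : F}
  {Q₀ : QuadraticForm F₀ (ι → F₀)} {σ : RingAut F}
  (hι : ∀ y, σ y = y ↔ y ∈ emb.range) (hfr : IsFrame emb Q h b Q₀)
  (hQ : (polarBilin Q).Nondegenerate) (hev : Even (Fintype.card ι)) (hn : 7 ≤ Fintype.card ι)

include hQ hn in
theorem Ψ_sc_mul {γ δ : ΓO Q} {c : Fˣ} (hl : γ.1.left = PGO.sc c * δ.1.left) (hr : γ.1.right = δ.1.right) :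
    Ψ γ = Ψ δ := by
  have e : γ = ofGO ⟨PGO.sc c, PGO.sc_mem Q c⟩ * δ := Subtype.ext (SemidirectProduct.ext
    (by simp [Subgroup.coe_mul, ofGO_left, ofGO_right, hl]) (by simp [Subgroup.coe_mul, ofGO_right, hr]))
  rw [e, map_mul, Ψ_ofGO, PGO.Θ_sc Q (g := ⟨PGO.sc c, PGO.sc_mem Q c⟩) rfl, one_mul]

include hQ hev hn in
theorem inn_le_Gd : Cfsg.Inn (Cfsg.POmega F ⇑Q) ≤ (Gd Q).map (PGO.Θ Q) := by
  rw [PGO.inn_eq]; exact Subgroup.map_mono (Ns_le_Gd hQ hev hn)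

include hι hfr hQ hev hn in
theorem Gd_centralizer :
    (Gd Q).map (PGO.Θ Q) ⊓ Subgroup.centralizer {Ψ (⟨fel h σ, fel_mem emb hι hfr⟩ : ΓO Q)} =
      (Gd Q₀).map ((PGO.Θ Q).comp (inclH emb hfr)) := by
  have hker : (PGO.Θ Q).ker ≤ Gd Q := (CfsgLib.OrthMinus.ker_le hQ hn).trans (Ns_le_Gd hQ hev hn)
  apply le_antisymm
  · intro a ha
    obtain ⟨ha1, ha2⟩ := Subgroup.mem_inf.mp ha
    obtain ⟨y, rfl⟩ : a ∈ ((PGO.Θ Q).comp (inclH emb hfr)).range := by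
      rw [centralizer_range emb hι hQ hn hfr]
      exact Subgroup.mem_inf.mpr ⟨Subgroup.map_le_range _ _ ha1, ha2⟩
    obtain ⟨g, hg, e⟩ := ha1
    refine ⟨y, (inclH_mem_Gd hQ hev hn hfr y).mp ?_, rfl⟩
    have h1 : g⁻¹ * inclH emb hfr y ∈ Gd Q := hker (by
      rw [MonoidHom.mem_ker, map_mul, map_inv, e, MonoidHom.comp_apply, inv_mul_cancel])
    simpa using mul_mem hg h1
  · rintro _ ⟨y, hy, rfl⟩
    refine Subgroup.mem_inf.mpr ⟨⟨_, (inclH_mem_Gd hQ hev hn hfr y).mpr hy, rfl⟩, ?_⟩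
    rw [Subgroup.mem_centralizer_singleton_iff, MonoidHom.comp_apply, ← Ψ_ofGO, ← map_mul, ← map_mul,
      inclH_commute emb hι]

include hι hfr hQ hev hn in
theorem Gd_centralizer_equiv :
    Nonempty (↥((Gd Q).map (PGO.Θ Q) ⊓ Subgroup.centralizer {Ψ (⟨fel h σ, fel_mem emb hι hfr⟩ : ΓO Q)}) ≃*
      ↥((Gd Q₀).map (PGO.Θ Q₀))) := by
  rw [Gd_centralizer hι hfr hQ hev hn]
  let φ₁ : ↥(Gd Q₀) →* MulAut (Cfsg.POmega F ⇑Q) := ((PGO.Θ Q).comp (inclH emb hfr)).comp (Gd Q₀).subtype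
  let φ₂ : ↥(Gd Q₀) →* MulAut (Cfsg.POmega F₀ ⇑Q₀) := (PGO.Θ Q₀).comp (Gd Q₀).subtype
  have hk : φ₁.ker = φ₂.ker := by
    ext y
    rw [MonoidHom.mem_ker, MonoidHom.mem_ker]
    exact Θ_inclH_eq_one emb hQ hn hfr y.1
  have h1 : φ₁.range = (Gd Q₀).map ((PGO.Θ Q).comp (inclH emb hfr)) := by
    rw [MonoidHom.range_comp, Subgroup.range_subtype]
  have h2 : φ₂.range = (Gd Q₀).map (PGO.Θ Q₀) := by rw [MonoidHom.range_comp, Subgroup.range_subtype]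
  exact ⟨(MulEquiv.subgroupCongr h1).symm.trans ((QuotientGroup.quotientKerEquivRange φ₁).symm.trans
    ((QuotientGroup.quotientMulEquivOfEq hk).trans ((QuotientGroup.quotientKerEquivRange φ₂).trans
      (MulEquiv.subgroupCongr h2))))⟩

include hι hfr hQ hev hn in
/-- A frame of odd degree gives a single class. -/
theorem splitCount_frame (hodd : Odd (orderOf σ))
    (hδ : (2 : F₀) ≠ 0 → ∃ (g : PGO.GO Q₀) (c : F₀ˣ), (∀ x, Q₀ (g.1.1 *ᵥ x) = (c : F₀) * Q₀ x) ∧ ¬ IsSquare (c : F₀))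
    (hz : (2 : F₀) ≠ 0 → ∃ u w, Q₀ u ≠ 0 ∧ Q₀ w ≠ 0 ∧ ¬ IsSquare (Q₀ u * Q₀ w)) :
    Cfsg.splitClassCount ((Gd Q).map (PGO.Θ Q)) (Cfsg.Inn (Cfsg.POmega F ⇑Q))
      (Ψ (⟨fel h σ, fel_mem emb hι hfr⟩ : ΓO Q)) = 1 := by
  rw [PSLn.splitClassCount_eq _ _ (inn_le_Gd hQ hev hn), Subgroup.relIndex_eq_one,
    Gd_centralizer hι hfr hQ hev hn, PGO.inn_eq, ← Subgroup.map_map, ← Subgroup.map_sup]
  refine Subgroup.map_mono ?_
  show Gd Q ≤ PGO.Ns Q ⊔ _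
  by_cases h2 : (2 : F) = 0
  · rw [Gd_two h2]; exact le_sup_left
  have h20 : (2 : F₀) ≠ 0 := fun e => h2 (by rw [← map_ofNat emb 2, e, map_zero])
  have hQ₀ := frame_nondeg emb hQ hfr
  have hnsq : ∀ t : F₀, ¬ IsSquare t → ¬ IsSquare (emb t) := fun t ht ht' =>
    ht (isSquare_emb_odd emb h2 hodd (card_pow emb hι) ht')
  have hF2 : ringChar F ≠ 2 := fun e => h2 (by haveI := ringChar.of_eq e; exact CharTwo.two_eq_zero)
  obtain ⟨u, w, hu, hw, huw⟩ := hz h20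
  obtain ⟨ru, hru⟩ := exists_refl hu
  obtain ⟨rw', hrw⟩ := exists_refl hw
  obtain ⟨g₀, c₀, hg₀, hc₀⟩ := hδ h20
  obtain ⟨d, hdGd, hd⟩ : ∃ d ∈ Gd Q₀, ∀ x, Q₀ (d.1.1 *ᵥ x) = (c₀ : F₀) * Q₀ x := by
    by_cases hg : g₀ ∈ Gd Q₀
    · exact ⟨g₀, hg, hg₀⟩
    · refine ⟨g₀ * ru, Gd_mul_refl hQ₀ hev hn hu hru g₀ hg, fun x => ?_⟩
      rw [Subgroup.coe_mul, Units.val_mul, ← Matrix.mulVec_mulVec, hg₀]
      exact congrArg _ (refl_iso hu hru x x)
  have hzGd : ru * rw' ∈ Gd Q₀ := Gd_mul_refl hQ₀ hev hn hw hrw ru (refl_notMem_Gd hQ₀ hev hn hu hru)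
  have hdN : inclH emb hfr d ∈ PGO.Ns Q ⊔ (Gd Q₀).map (inclH emb hfr) := Subgroup.mem_sup_right ⟨d, hdGd, rfl⟩
  have hzN : inclH emb hfr (ru * rw') ∈ PGO.Ns Q ⊔ (Gd Q₀).map (inclH emb hfr) :=
    Subgroup.mem_sup_right ⟨_, hzGd, rfl⟩
  -- square multiplier
  have key : ∀ g ∈ Gd Q, ∀ t : F, t ≠ 0 → (∀ x, Q (g.1.1 *ᵥ x) = t * t * Q x) →
      g ∈ PGO.Ns Q ⊔ (Gd Q₀).map (inclH emb hfr) := by
    intro g hg t ht hgt
    obtain ⟨tu, rfl⟩ : ∃ tu : Fˣ, (tu : F) = t := ⟨Units.mk0 t ht, rfl⟩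
    obtain ⟨o, ho⟩ : ∃ o : Cfsg.isometryGroup F ⇑Q, o.1 = PGO.sc tu⁻¹ * g.1 := by
      refine ⟨⟨_, fun x _ => ?_⟩, rfl⟩
      show Q ((PGO.sc tu⁻¹ * g.1 : GL ι F).1 *ᵥ x) = Q x
      rw [Units.val_mul, ← Matrix.mulVec_mulVec, PGO.sc_mulVec, QuadraticMap.map_smul, hgt, smul_eq_mul,
        Units.val_inv_eq_inv_val]
      field_simp
    have hgo : g.1 = PGO.sc tu * o.1 := by rw [ho]; simp
    obtain ⟨vs, hvs, hvm⟩ := OmegaList.exists_list Q (hc_even hQ hn) o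
    rw [Gd_odd h2, mem_prop_iff' hQ hn (c := tu * tu) (fun x => by rw [Units.val_mul]; exact hgt x)] at hg
    have hlen : Even vs.length := by
      obtain ⟨k, hk⟩ := hev
      rw [hgo, Units.val_mul, Matrix.det_mul, PGO.sc_val, Matrix.det_smul, Matrix.det_one, mul_one, hvm,
        PGO.Data.det_RP _ hvs, Units.val_mul, show PGO.half ι = k by simp only [PGO.half]; omega, hk, mul_pow,
        pow_add] at hg
      by_contra hc
      rw [(Nat.not_even_iff_odd.mp hc).neg_one_pow] at hg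
      have : (2 : F) * ((tu : F) ^ k * (tu : F) ^ k) = 0 := by linear_combination -hg
      exact mul_ne_zero h2 (mul_ne_zero (pow_ne_zero _ tu.ne_zero) (pow_ne_zero _ tu.ne_zero)) this
    by_cases hsq : IsSquare (QP Q vs)
    · exact Subgroup.mem_sup_left ⟨tu, o.1,
        ⟨o, (OmegaList.omega_iff_list Q (hc_even hQ hn) hQ o vs hvs hvm).mpr ⟨hlen, hsq⟩, rfl⟩, hgo⟩
    obtain ⟨u', hu'⟩ : ∃ u', u' = h.1 *ᵥ up emb u := ⟨_, rfl⟩
    obtain ⟨w', hw'⟩ : ∃ w', w' = h.1 *ᵥ up emb w := ⟨_, rfl⟩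
    have hu0 : Q u' ≠ 0 := by
      rw [hu', frame_value hfr]; exact mul_ne_zero (inv_ne_zero hfr.1) (by simpa using hu)
    have hw0 : Q w' ≠ 0 := by
      rw [hw', frame_value hfr]; exact mul_ne_zero (inv_ne_zero hfr.1) (by simpa using hw)
    have hvs' : ∀ x ∈ vs ++ [u', w'], Q x ≠ 0 := by
      intro x hx
      rcases List.mem_append.mp hx with hx | hx
      · exact hvs x hx
      · rcases List.mem_cons.mp hx with rfl | hx
        · exact hu0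
        · rw [List.mem_singleton.mp hx]; exact hw0
    obtain ⟨o', ho'⟩ := OmegaList.exists_iso Q (vs ++ [u', w']) hvs'
    have hmem : g * inclH emb hfr (ru * rw') ∈ PGO.Ns Q := by
      refine ⟨tu, o'.1, ⟨o', (OmegaList.omega_iff_list Q (hc_even hQ hn) hQ o' _ hvs' ho').mpr ⟨?_, ?_⟩, rfl⟩,
        Units.ext ?_⟩
      · rw [List.length_append]; exact hlen.add even_two
      · have h1 : QP Q [u', w'] = b⁻¹ * b⁻¹ * emb (Q₀ u * Q₀ w) := by
          simp only [QP, List.map_cons, List.map_nil, List.prod_cons, List.prod_nil, hu', hw', frame_value hfr,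
            map_mul]
          ring
        rw [OmegaList.QP_append, h1]
        have hb : (b⁻¹ * b⁻¹ : F) ≠ 0 := mul_ne_zero (inv_ne_zero hfr.1) (inv_ne_zero hfr.1)
        have he : emb (Q₀ u * Q₀ w) ≠ 0 := by simp [hu, hw]
        rw [FiniteForms.isSquare_mul_iff (OmegaList.QP_ne_zero Q hvs) (mul_ne_zero hb he),
          FiniteForms.isSquare_mul_iff hb he]
        exact iff_of_false hsq fun hh => hnsq _ huw (hh.mp ⟨b⁻¹, rfl⟩)
      · rw [map_mul, Subgroup.coe_mul, Subgroup.coe_mul, Units.val_mul, Units.val_mul, Units.val_mul,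
          inclH_refl hfr hu hru, inclH_refl hfr hw hrw, hgo, Units.val_mul, ho', OmegaList.RP_append, hvm, hu', hw']
        simp [RP, Matrix.mul_assoc]
    have := mul_mem (Subgroup.mem_sup_left hmem :
      g * inclH emb hfr (ru * rw') ∈ PGO.Ns Q ⊔ (Gd Q₀).map (inclH emb hfr)) (inv_mem hzN)
    simpa [mul_assoc] using this
  intro g hg
  obtain ⟨c, hc⟩ := g.2
  by_cases hsq : IsSquare (c : F)
  · obtain ⟨t, ht⟩ := hsq
    exact key g hg t (fun h0 => c.ne_zero (by rw [ht, h0, mul_zero])) (fun x => by rw [← ht]; exact hc x)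
  · obtain ⟨t, ht⟩ := (FiniteForms.isSquare_mul_iff c.ne_zero (by simp : emb (c₀ : F₀) ≠ 0)).mpr
      (iff_of_false hsq (hnsq _ hc₀))
    have h1 := key (g * inclH emb hfr d) (mul_mem hg ((inclH_mem_Gd hQ hev hn hfr d).mpr hdGd)) t
      (fun h0 => mul_ne_zero c.ne_zero (by simp : emb (c₀ : F₀) ≠ 0) (by rw [ht, h0, mul_zero]))
      (fun x => by
        rw [Subgroup.coe_mul, Units.val_mul, ← Matrix.mulVec_mulVec, hc, inclH_val,
          frame_isometry_map emb hfr hd, ← ht]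
        ring)
    have := mul_mem h1 (inv_mem hdN)
    simpa [mul_assoc] using this

include hι hfr hQ hev hn in
theorem Gd_conj_frames {h' : GL ι F} {b' : F} (hfr' : IsFrame emb Q h' b' Q₀) :
    Cfsg.IsConjUnder ((Gd Q).map (PGO.Θ Q)) (Ψ (⟨fel h σ, fel_mem emb hι hfr⟩ : ΓO Q))
      (Ψ (⟨fel h' σ, fel_mem emb hι hfr'⟩ : ΓO Q)) := by
  obtain ⟨k, hk⟩ := conj_frames emb hι hfr hfr' (P := 1) (s := 1) one_ne_zero fun v => by simp
  have hconj : PGO.Θ Q k * Ψ (⟨fel h σ, fel_mem emb hι hfr⟩ : ΓO Q) * (PGO.Θ Q k)⁻¹ =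
      Ψ (⟨fel h' σ, fel_mem emb hι hfr'⟩ : ΓO Q) := by rw [← hk, map_mul, map_mul, map_inv, Ψ_ofGO]
  by_cases hkG : k ∈ Gd Q
  · exact ⟨_, ⟨k, hkG, rfl⟩, hconj.symm⟩
  obtain ⟨v, hv⟩ := exists_aniso (frame_nondeg emb hQ hfr) hn
  obtain ⟨r₀, hr₀⟩ := exists_refl hv
  refine ⟨_, ⟨k * inclH emb hfr r₀, Gd_mul_refl hQ hev hn ?_ (inclH_refl hfr hv hr₀) k hkG, rfl⟩, ?_⟩
  · rw [frame_value hfr]; exact mul_ne_zero (inv_ne_zero hfr.1) (by simpa using hv)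
  have hc : PGO.Θ Q (inclH emb hfr r₀) * Ψ (⟨fel h σ, fel_mem emb hι hfr⟩ : ΓO Q) =
      Ψ (⟨fel h σ, fel_mem emb hι hfr⟩ : ΓO Q) * PGO.Θ Q (inclH emb hfr r₀) := by
    rw [← Ψ_ofGO, ← map_mul, ← map_mul, inclH_commute emb hι]
  rw [← hconj, map_mul, _root_.mul_inv_rev, ← mul_assoc, mul_assoc (PGO.Θ Q k) (PGO.Θ Q (inclH emb hfr r₀)), hc]
  group

end CfsgLib.OrthPair

namespace CfsgLib.OrthMinus

open QuadraticMap Module CfsgLib.OrthAut CfsgLib.OrthPair CfsgLib.StdQuadForms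
open scoped Matrix

universe u v

variable {F : Type u} [Field F] [Fintype F] {m : ℕ} {a b : F}
  (hm : 3 ≤ m) (hab : ∀ z₁ z₂ : F, z₁ ^ 2 + a * z₁ * z₂ + b * z₂ ^ 2 = 0 → z₁ = 0 ∧ z₂ = 0)

theorem hev_minus : Even (Fintype.card ((Fin m ⊕ Fin m) ⊕ Fin 2)) := ⟨m + 1, by simp; omega⟩

include hm hab in
theorem inndiag_normal : ((Gd (Qm m a b)).map (PGO.Θ (Qm m a b))).Normal :=
  Gd_map_normal (Qm_nondeg m hab) hev_minus (hn_minus hm) (hmax_minus hm hab)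

include hm hab in
/-- The field part of a field automorphism. -/
theorem field_class {x : MulAut (Cfsg.POmega F ⇑(Qm m a b))}
    (hx : ∃ (a' b' : F) (ψ : Cfsg.POmega F ⇑(Qm m a b) ≃* Cfsg.POmega F (Cfsg.quadFormMinus m F a' b'))
      (σ : F ≃+* F), (∀ z₁ z₂ : F, z₁ ^ 2 + a' * z₁ * z₂ + b' * z₂ ^ 2 = 0 → z₁ = 0 ∧ z₂ = 0) ∧
      σ ≠ RingEquiv.refl F ∧ σ a' = a' ∧ σ b' = b' ∧
      Cfsg.IsFieldAutPOmegaOf (Cfsg.quadFormMinus m F a' b') σ ((ψ.symm.trans x).trans ψ)) :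
    ∃ γ : ΓO (Qm m a b), Ψ γ = x ∧ orderOf γ.1.right = orderOf x ∧ orderOf γ.1.right ≠ 2 := by
  classical
  obtain ⟨a', b', ψ, σ, hab', -, ha, hb, hφ⟩ := hx
  obtain ⟨ψ', hψ'⟩ : ∃ ψ' : Cfsg.POmega F ⇑(Qm m a b) ≃* Cfsg.POmega F ⇑(Qm m a' b'),
      Cfsg.IsFieldAutPOmegaOf ⇑(Qm m a' b') σ ((ψ'.symm.trans x).trans ψ') := by
    rw [show ⇑(Qm m a' b') = Cfsg.quadFormMinus m F a' b' from funext fun v => Qm_apply m a' b' v]
    exact ⟨ψ, hφ⟩
  clear hφ ψ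
  obtain ⟨h, hh⟩ := minus_iso (m := m) hab hab'
  obtain ⟨E, hE⟩ := exists_congr _ _ h hh
  let F₀ := PSLn.fixedField (σ : RingAut F)
  haveI : Fintype F₀ := Fintype.ofFinite _
  let emb : F₀ →+* F := F₀.subtype
  have hι : ∀ y, σ y = y ↔ y ∈ emb.range := fun y =>
    ⟨fun hy => ⟨⟨y, hy⟩, rfl⟩, by rintro ⟨z, rfl⟩; exact z.2⟩
  let a₀ : F₀ := ⟨a', ha⟩
  let b₀ : F₀ := ⟨b', hb⟩
  have hfr : IsFrame emb (Qm m a b) h 1 (Qm m a₀ b₀) := ⟨one_ne_zero, fun v => by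
    rw [one_mul, hh]; simp [Qm_apply, Cfsg.quadFormMinus, up, emb, a₀, b₀]⟩
  obtain ⟨γ₀, hγ₀⟩ : ∃ γ₀ : ΓO (Qm m a b), γ₀ = ⟨fel h σ, fel_mem emb hι hfr⟩ := ⟨_, rfl⟩
  have hQ := Qm_nondeg m hab
  have hn := hn_minus hm
  obtain ⟨α, hα⟩ : ∃ α : MulAut (Cfsg.POmega F ⇑(Qm m a b)), α = ψ'.trans E := ⟨_, rfl⟩
  have key : α * x = Ψ γ₀ * α := by
    refine MulEquiv.ext fun c => ?_
    rw [MulAut.mul_apply, MulAut.mul_apply, hα]
    show E (ψ' (x c)) = Ψ γ₀ (E (ψ' c))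
    obtain ⟨d, hd⟩ : ∃ d, d = ψ' c := ⟨_, rfl⟩
    rw [show x c = x (ψ'.symm d) by rw [hd, MulEquiv.symm_apply_apply], ← hd]
    clear hd
    induction d using QuotientGroup.induction_on with
    | _ s =>
      obtain ⟨t, ht⟩ : ∃ t : Cfsg.Omega F ⇑(Qm m a b), t.1.1 = h * s.1.1 * h⁻¹ := by
        let τ : Cfsg.isometryGroup F ⇑(Qm m a' b') →* Cfsg.isometryGroup F ⇑(Qm m a b) :=
          ((MulAut.conj h).toMonoidHom.comp (Cfsg.isometryGroup F ⇑(Qm m a' b')).subtype).codRestrict _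
            fun o v _ => by
              have h2 : Qm m a' b' (o.1.1 *ᵥ ((h⁻¹).1 *ᵥ v)) = Qm m a' b' ((h⁻¹).1 *ᵥ v) :=
                o.2 ((h⁻¹).1 *ᵥ v) ((h⁻¹).1 *ᵥ v)
              show Qm m a b ((h * o.1 * h⁻¹).1 *ᵥ v) = Qm m a b v
              rw [Units.val_mul, Units.val_mul, ← Matrix.mulVec_mulVec, ← Matrix.mulVec_mulVec, hh, h2, ← hh,
                Matrix.mulVec_mulVec, Units.mul_inv, Matrix.one_mulVec]
        have hle : (commutator (Cfsg.isometryGroup F ⇑(Qm m a' b'))).map τ ≤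
            commutator (Cfsg.isometryGroup F ⇑(Qm m a b)) := by
          rw [_root_.commutator_def, Subgroup.map_commutator]
          exact Subgroup.commutator_mono le_top le_top
        exact ⟨⟨τ s.1, hle ⟨s.1, s.2, rfl⟩⟩, rfl⟩
      let e := (omS γ₀ t)
      have he : e.1.1 = h * σA F _ σ s.1.1 * h⁻¹ := by
        rw [omS_val, hγ₀]
        show h * σA F _ σ h⁻¹ * σA F _ σ t.1.1 * (h * σA F _ σ h⁻¹)⁻¹ = _
        rw [ht, map_mul, map_mul, map_inv]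
        group
      -- the entrywise image
      obtain ⟨s₁, hs₁⟩ : ∃ s₁ : Cfsg.Omega F ⇑(Qm m a' b'), s₁.1.1.1 = s.1.1.1.map σ := by
        have hfr' : IsFrame emb (Qm m a' b') 1 1 (Qm m a₀ b₀) := ⟨one_ne_zero, fun v => by
          rw [one_mul, Units.val_one, Matrix.one_mulVec]; simp [Qm_apply, Cfsg.quadFormMinus, up, emb, a₀, b₀]⟩
        refine ⟨omS ⟨fel 1 σ, fel_mem emb hι hfr'⟩ s, ?_⟩
        rw [omS_val]
        simp [fel, σA_val]
      have h1 := hψ' s s₁ hs₁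
      change ψ' (x (ψ'.symm (QuotientGroup.mk s))) = _ at h1
      rw [h1, hE s t ht, Ψ_mk, hE s₁ e]
      rw [he]
      congr 2
      exact Units.ext (by rw [σA_val, hs₁])
  obtain ⟨δ, hδ⟩ := Ψ_surjective hQ hn (hmax_minus hm hab) α
  have hx' : x = α⁻¹ * Ψ γ₀ * α := by rw [mul_assoc, ← key, inv_mul_cancel_left]
  obtain ⟨q, n, hp, -⟩ : ∃ (q : ℕ) (n : ℕ), CharP F q ∧ q.Prime := by
    obtain ⟨q, hq⟩ := CharP.exists F
    exact ⟨q, 0, hq, CharP.char_is_prime F q⟩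
  haveI : Fact q.Prime := ⟨CharP.char_is_prime F q⟩
  have hright : (δ⁻¹ * γ₀ * δ).1.right = σ := by
    simp only [Subgroup.coe_mul, Subgroup.coe_inv, SemidirectProduct.mul_right, SemidirectProduct.inv_right, hγ₀]
    rw [show (fel h σ).right = (σ : RingAut F) from rfl, PSLn.ringAut_comm q, ← mul_assoc, mul_inv_cancel,
      one_mul]
  refine ⟨δ⁻¹ * γ₀ * δ, by rw [map_mul, map_mul, map_inv, hδ, hx'], ?_, ?_⟩
  · have hconj : orderOf x = orderOf (Ψ γ₀) := by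
      rw [hx', show α⁻¹ * Ψ γ₀ * α = MulAut.conj α⁻¹ (Ψ γ₀) by simp, MulEquiv.orderOf_eq]
    rw [hright, hconj]
    refine Nat.dvd_antisymm ?_ ?_
    · have h2 : Ψ (γ₀ ^ orderOf (Ψ γ₀)) = 1 := by rw [map_pow, pow_orderOf_eq_one]
      refine orderOf_dvd_of_pow_eq_one ?_
      have h3 := ((Ψ_eq_one hQ hn _).mp h2).1
      rw [SubmonoidClass.coe_pow, show (γ₀.1 ^ orderOf (Ψ γ₀)).right = γ₀.1.right ^ orderOf (Ψ γ₀) from
        map_pow SemidirectProduct.rightHom γ₀.1 _, show γ₀.1.right = σ by rw [hγ₀]; rfl] at h3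
      exact h3
    · refine (orderOf_map_dvd _ γ₀).trans ?_
      rw [← Subgroup.orderOf_coe, hγ₀, orderOf_fel]
  · rw [hright]
    intro h2
    letI : Algebra F₀ F := emb.toAlgebra
    haveI : Module.Finite F₀ F := Module.Finite.of_finite
    have hc := card_pow emb hι
    rw [h2] at hc
    have hK : finrank F₀ F = 2 := Nat.pow_right_injective (a := Fintype.card F₀) Fintype.one_lt_card
      ((Module.card_eq_pow_finrank (K := F₀) (V := F)).symm.trans hc)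
    have hab₀ : ∀ z₁ z₂ : F₀, z₁ ^ 2 + a₀ * z₁ * z₂ + b₀ * z₂ ^ 2 = 0 → z₁ = 0 ∧ z₂ = 0 := fun z₁ z₂ hz => by
      have := congrArg emb hz
      simp only [map_add, map_mul, map_pow, map_zero] at this
      obtain ⟨e1, e2⟩ := hab' (emb z₁) (emb z₂) this
      exact ⟨(map_eq_zero emb).mp e1, (map_eq_zero emb).mp e2⟩
    obtain ⟨ρ, hρ⟩ := exists_root hab₀ F hK
    exact no_root hab' ρ hρ

variable {F₀ : Type v} [Field F₀] [Fintype F₀] {emb : F₀ →+* F} {σ : RingAut F}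
  (hι : ∀ y, σ y = y ↔ y ∈ emb.range)

include hm hab in
/-- Lang's theorem for minus type. -/
theorem exists_minus_frame (γ : ΓO (Qm m a b)) (hγ : γ.1.right = σ) (hpow : Ψ γ ^ orderOf σ = 1) :
    ∃ a₀ b₀ : F₀, (∀ z₁ z₂ : F₀, z₁ ^ 2 + a₀ * z₁ * z₂ + b₀ * z₂ ^ 2 = 0 → z₁ = 0 ∧ z₂ = 0) ∧
      ∃ (h : GL ((Fin m ⊕ Fin m) ⊕ Fin 2) F) (bb : F) (hfr : IsFrame emb (Qm m a b) h bb (Qm m a₀ b₀)),
        Ψ γ = Ψ (⟨fel h σ, fel_mem emb hι hfr⟩ : ΓO (Qm m a b)) := by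
  have hQ := Qm_nondeg m hab
  obtain ⟨c, hh, bb, R₀, hfr, hl⟩ := exists_frame emb hι hQ (hn_minus hm) γ hγ hpow
  obtain ⟨d, hd, P, hP⟩ := frame_minus hab hfr
  obtain ⟨hfr', he⟩ := change_frame hfr hP hι
  exact ⟨1, d, hd, _, bb, hfr', Ψ_sc_mul hQ (hn_minus hm) (c := c) (hl.trans (congrArg (fun z => PGO.sc c * z.left) he.symm)) hγ⟩

end CfsgLib.OrthMinus

namespace CfsgLib.OrthMinus

open QuadraticMap Module CfsgLib.OrthAut CfsgLib.OrthPair CfsgLib.StdQuadForms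
open scoped Matrix

variable {F : Type*} [Field F] [Fintype F] {m : ℕ} {a b : F}
  (hm : 3 ≤ m) (hab : ∀ z₁ z₂ : F, z₁ ^ 2 + a * z₁ * z₂ + b * z₂ ^ 2 = 0 → z₁ = 0 ∧ z₂ = 0)

include hm hab in
theorem minus_nonsquare (h2 : (2 : F) ≠ 0) :
    (∃ (g : PGO.GO (Qm m a b)) (c : Fˣ),
        (∀ x, Qm m a b (g.1.1 *ᵥ x) = (c : F) * Qm m a b x) ∧ ¬ IsSquare (c : F)) ∧
      ∃ u w, Qm m a b u ≠ 0 ∧ Qm m a b w ≠ 0 ∧ ¬ IsSquare (Qm m a b u * Qm m a b w) := by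
  have hodd : Odd (Fintype.card F) := by
    rw [Nat.odd_iff]
    exact FiniteField.odd_card_of_char_ne_two fun h => h2 (by
      haveI := ringChar.of_eq h; exact CharTwo.two_eq_zero)
  let D := PGO.minusData hodd hm hab
  refine ⟨⟨D.δ, D.ν, D.hδ, D.hν⟩, ?_⟩
  have hv : ∀ c : F, Qm m a b
      (Pi.single (Sum.inl (Sum.inl ⟨0, by omega⟩)) 1 + Pi.single (Sum.inl (Sum.inr ⟨0, by omega⟩)) c) = c := by
    intro c
    rw [Qm_apply]
    simp [Cfsg.quadFormMinus, Pi.single_apply]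
  exact ⟨_, _, by rw [hv 1]; exact one_ne_zero, by rw [hv (D.ν : F)]; exact D.ν.ne_zero,
    by rw [hv 1, hv (D.ν : F), one_mul]; exact D.hν⟩

end CfsgLib.OrthMinus

namespace CfsgLib.OrthMinus

universe w

theorem inndiag_def (m : ℕ) (F : Type w) [Field F] (a b : F) :
    Cfsg.inndiagPOmegaMinus m F a b =
      Subgroup.closure {β : MulAut (Cfsg.POmega F (Cfsg.quadFormMinus m F a b)) |
        ∃ g : GL ((Fin m ⊕ Fin m) ⊕ Fin 2) F,
          g ∈ Cfsg.Geo.quadSimilarityGroup (F := F) (Cfsg.quadFormMinus m F a b) ∧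
            Cfsg.PreservesSingularClassesMinus m a b g.1 ∧
            Cfsg.IsInducedBySemilinearPOmega (Cfsg.quadFormMinus m F a b) g (RingEquiv.refl F) β} := rfl

end CfsgLib.OrthMinus
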