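import Cfsg.Agent.Lib.OrthAut.Gd
import Cfsg.Agent.Lib.OrthAut.MinusField

/-!
Transport of similitude groups along a linear isometry between coordinate spaces.
-/

set_option autoImplicit false
set_option linter.unusedSectionVars false
set_option linter.style.haveILetI false
set_option linter.unusedSimpArgs false
set_option maxHeartbeats 800000

namespace CfsgLib.OrthPair

open QuadraticMap Module CfsgLib.OrthAut CfsgLib.SpinorNorm CfsgLib.SpinorMatrix
open scoped Matrix

variable {F : Type*} [Field F] [Fintype F] {ι κ : Type} [Fintype ι] [DecidableEq ι] [Fintype κ] [DecidableEq κ]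
  {R : QuadraticForm F (ι → F)} {S : QuadraticForm F (κ → F)} (g : (ι → F) ≃ₗ[F] (κ → F))

/-- Conjugation of matrices by a linear equivalence. -/
noncomputable def glCongr : GL ι F ≃* GL κ F :=
  Matrix.GeneralLinearGroup.toLin.trans ((LinearMap.GeneralLinearGroup.congrLinearEquiv g).trans
    Matrix.GeneralLinearGroup.toLin.symm)

theorem glCongr_apply (x : GL ι F) (w : κ → F) : (glCongr g x).1 *ᵥ w = g (x.1 *ᵥ g.symm w) := by
  show LinearMap.toMatrix' _ *ᵥ w = _
  rw [LinearMap.toMatrix'_mulVec]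
  rfl

theorem glCongr_det (x : GL ι F) : (glCongr g x).1.det = x.1.det := by
  rw [← LinearMap.det_toLin', ← LinearMap.det_toLin' x.1,
    ← LinearMap.det_conj (Matrix.toLin' x.1) g]
  congr 1
  exact LinearMap.ext fun w => by rw [Matrix.toLin'_apply, glCongr_apply]; rfl

theorem glCongr_sc (c : Fˣ) : glCongr g (PGO.sc c) = PGO.sc c := by
  refine Units.ext (Matrix.ext_of_mulVec_single fun i => ?_)
  rw [glCongr_apply, PGO.sc_mulVec, map_smul, LinearEquiv.apply_symm_apply, PGO.sc_mulVec]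

variable {g} (hg : ∀ v, R v = S (g v))

include hg in
theorem glCongr_mult {x : GL ι F} {c : F} :
    (∀ w, S ((glCongr g x).1 *ᵥ w) = c * S w) ↔ ∀ v, R (x.1 *ᵥ v) = c * R v := by
  constructor
  · intro h v
    have := h (g v)
    rwa [glCongr_apply, LinearEquiv.symm_apply_apply, ← hg, ← hg] at this
  · intro h w
    rw [glCongr_apply, ← hg, h, hg, LinearEquiv.apply_symm_apply]

include hg in
/-- The similitude groups of isometric forms. -/
noncomputable def goCongr : PGO.GO R ≃* PGO.GO S :=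
  (glCongr g).subgroupMap (PGO.GO R) |>.trans (MulEquiv.subgroupCongr (by
    ext y
    constructor
    · rintro ⟨x, ⟨c, hc⟩, rfl⟩
      exact ⟨c, (glCongr_mult hg).mpr hc⟩
    · rintro ⟨c, hc⟩
      refine ⟨(glCongr g).symm y, ⟨c, (glCongr_mult hg).mp fun w => ?_⟩, (glCongr g).apply_symm_apply y⟩
      rw [MulEquiv.apply_symm_apply]
      exact hc w))

theorem goCongr_val (x : PGO.GO R) : (goCongr hg x).1 = glCongr g x.1 := rfl

variable (hR : (polarBilin R).Nondegenerate) (hS : (polarBilin S).Nondegenerate) (hn : 7 ≤ Fintype.card ι)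

include hg in
theorem card_eq_of_equiv : Fintype.card κ = Fintype.card ι := by
  rw [← Module.finrank_fintype_fun_eq_card (R := F) (η := κ), ← g.finrank_eq, Module.finrank_fintype_fun_eq_card]

include hg hR hS hn in
theorem goCongr_Gd (x : PGO.GO R) : goCongr hg x ∈ Gd S ↔ x ∈ Gd R := by
  have hcard := card_eq_of_equiv hg
  by_cases h2 : (2 : F) = 0
  · rw [Gd_two h2, Gd_two h2]
    let φ : Cfsg.isometryGroup F ⇑R →* Cfsg.isometryGroup F ⇑S :=
      ((glCongr g).toMonoidHom.comp (Cfsg.isometryGroup F ⇑R).subtype).codRestrict _ fun o w _ => by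
        show S ((glCongr g o.1).1 *ᵥ w) = S w
        rw [(glCongr_mult hg (c := 1)).mpr (fun v => by rw [one_mul]; exact o.2 v v), one_mul]
    have hφ : Function.Surjective φ := fun o => by
      refine ⟨⟨(glCongr g).symm o.1, fun v _ => ?_⟩, Subtype.ext ((glCongr g).apply_symm_apply o.1)⟩
      show R (((glCongr g).symm o.1).1 *ᵥ v) = R v
      rw [(glCongr_mult hg (c := 1)).mp (fun w => by
        rw [MulEquiv.apply_symm_apply, one_mul]; exact o.2 w w), one_mul]
    have hle : (commutator (Cfsg.isometryGroup F ⇑R)).map φ = commutator (Cfsg.isometryGroup F ⇑S) := by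
      rw [_root_.commutator_def, _root_.commutator_def, Subgroup.map_commutator,
        Subgroup.map_top_of_surjective _ hφ]
    have hinj : Function.Injective φ := fun o o' h => Subtype.ext ((glCongr g).injective (congrArg Subtype.val h))
    constructor
    · rintro ⟨c, _, ⟨w, hw, rfl⟩, e⟩
      replace e : glCongr g x.1 = PGO.sc c * w.1 := e
      obtain ⟨w₀, hw₀, rfl⟩ := (show w ∈ (commutator (Cfsg.isometryGroup F ⇑R)).map φ from hle ▸ hw)
      refine ⟨c, w₀.1, ⟨w₀, hw₀, rfl⟩, (glCongr g).injective ?_⟩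
      rw [map_mul, glCongr_sc]
      exact e
    · rintro ⟨c, _, ⟨w, hw, rfl⟩, e⟩
      replace e : x.1 = PGO.sc c * w.1 := e
      refine ⟨c, (φ w).1, ⟨φ w, hle.le ⟨w, hw, rfl⟩, rfl⟩, ?_⟩
      rw [goCongr_val, e, map_mul, glCongr_sc]
      rfl
  · obtain ⟨d, hd⟩ := x.2
    rw [Gd_odd h2, Gd_odd h2, mem_prop_iff' hS (by omega) (c := d) ((glCongr_mult hg).mpr hd),
      mem_prop_iff' hR hn (c := d) hd, goCongr_val, glCongr_det,
      show PGO.half κ = PGO.half ι by simp only [PGO.half, hcard]]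

include hg hR hS hn in
theorem Gd_map_equiv : Nonempty (↥((Gd R).map (PGO.Θ R)) ≃* ↥((Gd S).map (PGO.Θ S))) := by
  have hn' : 7 ≤ Fintype.card κ := by rw [card_eq_of_equiv hg]; exact hn
  let φ₁ : ↥(Gd R) →* MulAut (Cfsg.POmega F ⇑R) := (PGO.Θ R).comp (Gd R).subtype
  let φ₂ : ↥(Gd R) →* MulAut (Cfsg.POmega F ⇑S) :=
    ((PGO.Θ S).comp (goCongr hg).toMonoidHom).comp (Gd R).subtype
  have hk : φ₁.ker = φ₂.ker := by
    ext y
    rw [MonoidHom.mem_ker, MonoidHom.mem_ker]
    show PGO.Θ R y.1 = 1 ↔ PGO.Θ S (goCongr hg y.1) = 1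
    rw [Θ_eq_one hR hn, Θ_eq_one hS hn', goCongr_val]
    exact ⟨fun ⟨c, hc⟩ => ⟨c, by rw [hc, glCongr_sc]⟩,
      fun ⟨c, hc⟩ => ⟨c, (glCongr g).injective (by rw [hc, glCongr_sc])⟩⟩
  have h1 : φ₁.range = (Gd R).map (PGO.Θ R) := by rw [MonoidHom.range_comp, Subgroup.range_subtype]
  have h2 : φ₂.range = (Gd S).map (PGO.Θ S) := by
    rw [MonoidHom.range_comp, Subgroup.range_subtype, ← Subgroup.map_map]
    congr 1
    ext z
    constructor
    · rintro ⟨y, hy, rfl⟩
      exact (goCongr_Gd hg hR hS hn y).mpr hy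
    · intro hz
      exact ⟨(goCongr hg).symm z, (goCongr_Gd hg hR hS hn _).mp (by rwa [MulEquiv.apply_symm_apply]),
        (goCongr hg).apply_symm_apply z⟩
  exact ⟨(MulEquiv.subgroupCongr h1).symm.trans ((QuotientGroup.quotientKerEquivRange φ₁).symm.trans
    ((QuotientGroup.quotientMulEquivOfEq hk).trans ((QuotientGroup.quotientKerEquivRange φ₂).trans
      (MulEquiv.subgroupCongr h2))))⟩

end CfsgLib.OrthPair
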