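import Cfsg.Agent.Lib.OrthAut.Semi
import Cfsg.Agent.Lib.PolarAut.FieldGen

/-!
Descent of semilinear similitudes of prime-field forms to the fixed field.
-/

set_option autoImplicit false
set_option linter.unusedSectionVars false
set_option linter.style.haveILetI false
set_option linter.unusedSimpArgs false

namespace CfsgLib.OrthAut

open QuadraticMap Module
open scoped Matrix

variable {F : Type*} [Field F] [Fintype F] {ι : Type} [Fintype ι] [DecidableEq ι]

/-- Forms agreeing on sums of at most two basis vectors are equal. -/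
theorem form_ext {A B : QuadraticForm F (ι → F)} (h1 : ∀ i, A (Pi.single i 1) = B (Pi.single i 1))
    (h2 : ∀ i j, A (Pi.single i 1 + Pi.single j 1) = B (Pi.single i 1 + Pi.single j 1)) : A = B := by
  obtain ⟨D, hD⟩ : ∃ D, D = A - B := ⟨_, rfl⟩
  have hD1 : ∀ i, D (Pi.single i 1) = 0 := fun i => by rw [hD]; simp [h1]
  have hD2 : ∀ i j, D (Pi.single i 1 + Pi.single j 1) = 0 := fun i j => by rw [hD]; simp [h2]
  have hp : polarBilin D = 0 := (Pi.basisFun F ι).ext fun i => (Pi.basisFun F ι).ext fun j => by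
    show polar D (Pi.basisFun F ι i) (Pi.basisFun F ι j) = 0
    rw [Pi.basisFun_apply, Pi.basisFun_apply, QuadraticMap.polar, hD2, hD1, hD1, sub_zero, sub_zero]
  have hadd : ∀ u v, D (u + v) = D u + D v := fun u v => by
    have : polar D u v = 0 := LinearMap.congr_fun (LinearMap.congr_fun hp u) v
    rw [QuadraticMap.map_add D, this, add_zero]
  refine QuadraticMap.ext fun v => ?_
  have hv : D v = 0 := by
    rw [← (Pi.basisFun F ι).sum_repr v]
    have : ∀ s : Finset ι, D (∑ i ∈ s, (Pi.basisFun F ι).repr v i • Pi.basisFun F ι i) = 0 := by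
      intro s
      induction s using Finset.induction_on with
      | empty => simp
      | insert a s ha ih =>
        rw [Finset.sum_insert ha, hadd, ih, QuadraticMap.map_smul, Pi.basisFun_apply, hD1, smul_zero, add_zero]
    exact this _
  rw [hD] at hv
  exact sub_eq_zero.mp (by simpa using hv)

variable {F₀ : Type*} [Field F₀] (emb : F₀ →+* F)

/-- Vectors over the subfield. -/
def up (v : ι → F₀) : ι → F := fun i => emb (v i)

theorem up_single (i : ι) : up emb (Pi.single i (1 : F₀)) = Pi.single i 1 := by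
  funext j; by_cases h : j = i <;> simp [up, Pi.single_apply, h]

theorem up_add (u v : ι → F₀) : up emb (u + v) = up emb u + up emb v := funext fun i => map_add emb (u i) (v i)

theorem up_smul (c : F₀) (v : ι → F₀) : up emb (c • v) = emb c • up emb v := funext fun i => map_mul emb c (v i)

theorem up_mulVec (M : Matrix ι ι F₀) (v : ι → F₀) : up emb (M *ᵥ v) = M.map emb *ᵥ up emb v :=
  funext fun i => RingHom.map_mulVec emb M v i

/-- Forms are equal when they agree on the vectors over the subfield. -/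
theorem form_ext_up {A B : QuadraticForm F (ι → F)} (h : ∀ v : ι → F₀, A (up emb v) = B (up emb v)) : A = B :=
  form_ext (fun i => by rw [← up_single emb]; exact h _)
    fun i j => by rw [← up_single emb, ← up_single emb j, ← up_add]; exact h _

variable {Q : QuadraticForm F (ι → F)} {σ : RingAut F}

/-- The descended form of a semilinear similitude. -/
theorem exists_form (hfix : Fixed Q) (hQ : (polarBilin Q).Nondegenerate) (hn : 7 ≤ Fintype.card ι)
    (hι : ∀ y, σ y = y ↔ y ∈ emb.range) (g : PGO.GO Q) (h : (PGO.Θ Q g * fld hfix σ) ^ orderOf σ = 1) :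
    ∃ (hh : GL ι F) (d b : F) (R₀ : QuadraticForm F₀ (ι → F₀)), d ≠ 0 ∧ b ≠ 0 ∧
      d • (g.1.1 * hh.1.map σ) = hh.1 ∧ (polarBilin R₀).Nondegenerate ∧
      ∀ v : ι → F₀, emb (R₀ v) = b * Q (hh.1 *ᵥ up emb v) := by
  classical
  haveI : Nonempty ι := Fintype.card_pos_iff.mp (by omega)
  rw [FieldGen.pow_conj_field (PGO.Θ Q) (fld hfix) (mapG hfix) (fld_Θ hfix), pow_orderOf_eq_one] at h
  obtain ⟨-, c, hc⟩ := conj_field_one hfix hQ hn h
  obtain ⟨hh, d, hd, hdh⟩ := FieldGen.exists_descent σ g.1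
    (fun k => ((fun y => g * mapG hfix σ y)^[k] 1).1.1) rfl
    (fun k => by simp only [Function.iterate_succ_apply']; rfl)
    (c := (c : F)) (by rw [show ((fun y => g * mapG hfix σ y)^[orderOf σ] 1).1 = _ from hc, PGO.sc_val])
  obtain ⟨c', hc'⟩ := g.2
  have hkey : ∀ x : ι → F, σv σ x = x → Q (hh.1 *ᵥ x) = d * d * (c' : F) * σ (Q (hh.1 *ᵥ x)) := by
    intro x hx
    conv_lhs => rw [← hdh, Matrix.smul_mulVec, ← Matrix.mulVec_mulVec, ← hx, ← σv_mulVec, QuadraticMap.map_smul,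
      hc', hfix]
    simp [mul_assoc]
  have hupfix : ∀ v : ι → F₀, σv σ (up emb v) = up emb v := fun v => funext fun i => (hι _).mpr ⟨v i, rfl⟩
  obtain ⟨A, hA⟩ : ∃ A : QuadraticForm F (ι → F), ∀ x, A x = Q (hh.1 *ᵥ x) :=
    ⟨Q.comp (Matrix.mulVecLin hh.1), fun x => rfl⟩
  obtain ⟨v₀, hv₀⟩ : ∃ v₀ : ι → F₀, A (up emb v₀) ≠ 0 := by
    by_contra hcon
    push Not at hcon
    have hA0 : A = 0 := form_ext_up emb fun v => by rw [hcon]; rfl
    obtain ⟨a, ha⟩ := OmegaSimple.exists_nonzero_value Q hQ (by rw [Module.finrank_fintype_fun_eq_card]; omega)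
    refine ha ?_
    have h1 := hA ((hh⁻¹).1 *ᵥ a)
    rw [hA0, Matrix.mulVec_mulVec, Units.mul_inv, Matrix.one_mulVec] at h1
    exact h1.symm
  obtain ⟨b, hb⟩ : ∃ b, b = (A (up emb v₀))⁻¹ := ⟨_, rfl⟩
  have hb0 : b ≠ 0 := hb ▸ inv_ne_zero hv₀
  have hrat : ∀ v : ι → F₀, ∃ r : F₀, emb r = b * A (up emb v) := fun v => (hι _).mp (by
    have k0 := hkey _ (hupfix v₀)
    have k1 := hkey _ (hupfix v)
    rw [← hA] at k0 k1
    have hσ0 : σ (A (up emb v₀)) ≠ 0 := by simpa using hv₀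
    have hdc : d * d * (c' : F) ≠ 0 := mul_ne_zero (mul_ne_zero hd hd) c'.ne_zero
    rw [hb, map_mul, map_inv₀]
    generalize σ (A (up emb v)) = sv at *
    generalize σ (A (up emb v₀)) = s0 at *
    rw [k1, k0]
    field_simp)
  choose r hr using hrat
  have inj := emb.injective
  let R₀ : QuadraticForm F₀ (ι → F₀) := QuadraticMap.ofPolar r
    (fun a x => inj (by
      rw [smul_eq_mul, map_mul, map_mul, hr, hr, up_smul, QuadraticMap.map_smul, smul_eq_mul]; ring))
    (fun x x' y => inj (by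
      simp only [QuadraticMap.polar, map_add, map_sub, hr, up_add]
      have h1 := QuadraticMap.polar_add_left A (up emb x) (up emb x') (up emb y)
      simp only [QuadraticMap.polar] at h1
      linear_combination b * h1))
    (fun a x y => inj (by
      simp only [QuadraticMap.polar, smul_eq_mul, map_mul, map_add, map_sub, hr, up_add, up_smul]
      have h1 := QuadraticMap.polar_smul_left A (emb a) (up emb x) (up emb y)
      simp only [QuadraticMap.polar, smul_eq_mul] at h1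
      linear_combination b * h1))
  have hR : ∀ v, emb (R₀ v) = b * A (up emb v) := hr
  refine ⟨hh, d, b, R₀, hd, hb0, hdh, ?_, fun v => by rw [← hA]; exact hR v⟩
  have hl : ∀ x, (∀ y, polar R₀ x y = 0) → x = 0 := by
    intro x hx
    have hp : ∀ y, polar A (up emb x) (up emb y) = 0 := fun y => by
      have := congrArg emb (hx y)
      simp only [QuadraticMap.polar, map_sub, hR, up_add, map_zero] at this
      refine mul_left_cancel₀ hb0 ?_
      simp only [QuadraticMap.polar, mul_zero]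
      linear_combination this
    have hlin : polarBilin A (up emb x) = 0 := (Pi.basisFun F ι).ext fun j => by
      rw [Pi.basisFun_apply, ← up_single emb]; exact hp _
    have hx0 : hh.1 *ᵥ up emb x = 0 := hQ.1 _ fun z => by
      show polar Q (hh.1 *ᵥ up emb x) z = 0
      have := LinearMap.congr_fun hlin ((hh⁻¹).1 *ᵥ z)
      change polar A (up emb x) ((hh⁻¹).1 *ᵥ z) = 0 at this
      simp only [QuadraticMap.polar, hA, Matrix.mulVec_add, Matrix.mulVec_mulVec, Units.mul_inv,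
        Matrix.one_mulVec] at this
      exact this
    funext i
    refine inj ((congrFun (Matrix.mulVec_injective_of_isUnit hh.isUnit (hx0.trans (Matrix.mulVec_zero _).symm)) i).trans
      (map_zero emb).symm)
  exact ⟨hl, fun y hy => hl y fun x => (polar_comm R₀ y x).trans (hy x)⟩

/-- Similitude from the descended form to a base form. -/
theorem exists_conj_of_form (Q₀ : QuadraticForm F₀ (ι → F₀)) (hcomp : ∀ v, Q (up emb v) = emb (Q₀ v))
    (hι : ∀ y, σ y = y ↔ y ∈ emb.range) {g : PGO.GO Q} {hh : GL ι F} {d b : F}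
    {R₀ : QuadraticForm F₀ (ι → F₀)} (hd : d ≠ 0) (hb : b ≠ 0) (hdh : d • (g.1.1 * hh.1.map σ) = hh.1)
    (hR : ∀ v : ι → F₀, emb (R₀ v) = b * Q (hh.1 *ᵥ up emb v))
    {P : GL ι F₀} {s : F₀} (hs : s ≠ 0) (hP : ∀ v, R₀ (P.1 *ᵥ v) = s * Q₀ v) (hfix : Fixed Q) :
    ∃ k : PGO.GO Q, PGO.Θ Q g * fld hfix σ = PGO.Θ Q k * fld hfix σ * (PGO.Θ Q k)⁻¹ := by
  classical
  let k : GL ι F := hh * Matrix.GeneralLinearGroup.map emb P
  have hk : k ∈ PGO.GO Q := by
    have hes : emb s ≠ 0 := by simpa using hs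
    refine ⟨Units.mk0 (b⁻¹ * emb s) (mul_ne_zero (inv_ne_zero hb) hes), ?_⟩
    have key : Q.comp (Matrix.mulVecLin k.1) = (b⁻¹ * emb s) • Q := form_ext_up emb fun v => by
      show Q ((hh.1 * P.1.map emb) *ᵥ up emb v) = (b⁻¹ * emb s) * Q (up emb v)
      rw [← Matrix.mulVec_mulVec, ← up_mulVec, hcomp, mul_assoc, ← map_mul, ← hP, hR, ← mul_assoc,
        inv_mul_cancel₀ hb, one_mul]
    intro v
    rw [Units.val_mk0]
    exact congrArg (fun A : QuadraticForm F (ι → F) => A v) key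
  have hPσ : (P.1.map emb).map σ = P.1.map emb := by ext i j; exact (hι _).mpr ⟨P.1 i j, rfl⟩
  refine ⟨⟨k, hk⟩, ?_⟩
  rw [mul_assoc _ (fld hfix σ), ← map_inv, fld_Θ, ← mul_assoc, ← map_mul]
  refine congrArg (· * fld hfix σ) ?_
  have e : d • (g.1.1 * k.1.map σ) = k.1 := by
    show d • (g.1.1 * (hh.1 * P.1.map emb).map σ) = hh.1 * P.1.map emb
    rw [Matrix.map_mul, hPσ, ← Matrix.mul_assoc, ← Matrix.smul_mul, hdh]
  have e2 : (⟨k, hk⟩ * mapG hfix σ (⟨k, hk⟩ : PGO.GO Q)⁻¹ : PGO.GO Q) =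
      ⟨PGO.sc (Units.mk0 d hd), PGO.sc_mem Q _⟩ * g := by
    refine Subtype.ext (Units.ext ?_)
    show k.1 * ((k⁻¹).1.map σ) = (PGO.sc (Units.mk0 d hd)).1 * g.1.1
    conv_lhs => rw [← e]
    rw [Matrix.smul_mul, Matrix.mul_assoc, ← Matrix.map_mul, Units.mul_inv, Matrix.map_one _ (map_zero σ) (map_one σ),
      Matrix.mul_one, PGO.sc_val, Units.val_mk0, Matrix.smul_mul, Matrix.one_mul]
  rw [e2, map_mul, PGO.Θ_sc Q (g := ⟨PGO.sc (Units.mk0 d hd), PGO.sc_mem Q _⟩) rfl, one_mul]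

section Incl

variable (Q₀ : QuadraticForm F₀ (ι → F₀)) (hcomp : ∀ v, Q (up emb v) = emb (Q₀ v))

/-- Similitudes over the subfield. -/
noncomputable def incl : PGO.GO Q₀ →* PGO.GO Q :=
  ((Matrix.GeneralLinearGroup.map emb).comp (PGO.GO Q₀).subtype).codRestrict (PGO.GO Q) (fun x => by
    obtain ⟨c, hc⟩ := x.2
    refine ⟨Units.map emb.toMonoidHom c, fun v => ?_⟩
    have key : Q.comp (Matrix.mulVecLin (x.1.1.map emb)) = emb (c : F₀) • Q := form_ext_up emb fun w => by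
      show Q (x.1.1.map emb *ᵥ up emb w) = emb (c : F₀) * Q (up emb w)
      rw [← up_mulVec, hcomp, hcomp, hc, map_mul]
    exact congrArg (fun A : QuadraticForm F (ι → F) => A v) key)

theorem incl_val (x : PGO.GO Q₀) : (incl emb Q₀ hcomp x).1.1 = x.1.1.map emb := rfl

theorem incl_fixed (hfix : Fixed Q) (hι : ∀ y, σ y = y ↔ y ∈ emb.range) (x : PGO.GO Q₀) :
    mapG hfix σ (incl emb Q₀ hcomp x) = incl emb Q₀ hcomp x :=
  Subtype.ext (Units.ext (Matrix.ext fun i j => (hι _).mpr ⟨x.1.1 i j, rfl⟩))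

theorem exists_descend (hι : ∀ y, σ y = y ↔ y ∈ emb.range) [Nonempty ι]
    (hne : ∃ v, Q₀ v ≠ 0) {x : PGO.GO Q} {u : F} (h : x.1.1.map σ = u • x.1.1) :
    ∃ (v : Fˣ) (y : PGO.GO Q₀), (incl emb Q₀ hcomp y).1 = PGO.sc v * x.1 := by
  obtain ⟨b, P, hb, hP⟩ := FieldGen.exists_multiple σ emb hι x.1 h
  obtain ⟨c, hc⟩ := x.2
  obtain ⟨v₀, hv₀⟩ := hne
  have key : ∀ v : ι → F₀, emb (Q₀ (P.1 *ᵥ v)) = b * b * (c : F) * emb (Q₀ v) := fun v => by
    rw [← hcomp, ← hcomp, up_mulVec, hP, Matrix.smul_mulVec, QuadraticMap.map_smul, hc, smul_eq_mul]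
    ring
  obtain ⟨c₀, hc₀⟩ : ∃ c₀, c₀ = Q₀ (P.1 *ᵥ v₀) * (Q₀ v₀)⁻¹ := ⟨_, rfl⟩
  have hc₀' : emb c₀ = b * b * (c : F) := by
    rw [hc₀, map_mul, map_inv₀, key, mul_assoc, mul_inv_cancel₀ (by simpa using hv₀), mul_one]
  have hc0 : c₀ ≠ 0 := fun h0 => mul_ne_zero (mul_ne_zero hb hb) c.ne_zero (by rw [← hc₀', h0, map_zero])
  have hy : P ∈ PGO.GO Q₀ := ⟨Units.mk0 c₀ hc0, fun v => emb.injective (by
    rw [key, Units.val_mk0, map_mul, hc₀'])⟩
  refine ⟨Units.mk0 b hb, ⟨P, hy⟩, Units.ext ?_⟩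
  show P.1.map emb = (PGO.sc (Units.mk0 b hb)).1 * x.1.1
  rw [hP, PGO.sc_val, Units.val_mk0, Matrix.smul_mul, Matrix.one_mul]

theorem range_centralizer (hfix : Fixed Q) (hQ : (polarBilin Q).Nondegenerate) (hn : 7 ≤ Fintype.card ι)
    (hι : ∀ y, σ y = y ↔ y ∈ emb.range) (hne : ∃ v, Q₀ v ≠ 0) :
    ((PGO.Θ Q).comp (incl emb Q₀ hcomp)).range = (PGO.Θ Q).range ⊓ Subgroup.centralizer {fld hfix σ} := by
  haveI : Nonempty ι := Fintype.card_pos_iff.mp (by omega)
  apply le_antisymm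
  · rintro _ ⟨y, rfl⟩
    refine Subgroup.mem_inf.mpr ⟨⟨_, rfl⟩, ?_⟩
    rw [Subgroup.mem_centralizer_singleton_iff, MonoidHom.comp_apply, fld_Θ, incl_fixed emb Q₀ hcomp hfix hι]
  · intro a ha
    obtain ⟨⟨x, rfl⟩, hc⟩ := Subgroup.mem_inf.mp ha
    obtain ⟨u, hu⟩ := (commute_iff hfix hQ hn σ x).mp (Subgroup.mem_centralizer_singleton_iff.mp hc)
    obtain ⟨v, y, hy⟩ := exists_descend emb Q₀ hcomp hι hne hu
    refine ⟨y, ?_⟩
    have e : incl emb Q₀ hcomp y = ⟨PGO.sc v, PGO.sc_mem Q v⟩ * x := Subtype.ext hy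
    rw [MonoidHom.comp_apply, e, map_mul, PGO.Θ_sc Q (g := ⟨PGO.sc v, PGO.sc_mem Q v⟩) rfl, one_mul]

include hcomp in
theorem centralizer_equiv [Fintype F₀] (hfix : Fixed Q) (hQ : (polarBilin Q).Nondegenerate)
    (hQ₀ : (polarBilin Q₀).Nondegenerate) (hn : 7 ≤ Fintype.card ι) (hι : ∀ y, σ y = y ↔ y ∈ emb.range) :
    Nonempty (↥((PGO.Θ Q).range ⊓ Subgroup.centralizer {fld hfix σ}) ≃* ↥(PGO.Θ Q₀).range) := by
  have hne : ∃ v, Q₀ v ≠ 0 :=
    OmegaSimple.exists_nonzero_value Q₀ hQ₀ (by rw [Module.finrank_fintype_fun_eq_card]; omega)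
  have hk : ((PGO.Θ Q).comp (incl emb Q₀ hcomp)).ker = (PGO.Θ Q₀).ker := by
    ext y
    rw [MonoidHom.mem_ker, MonoidHom.mem_ker, MonoidHom.comp_apply, Θ_eq_one hQ hn, Θ_eq_one hQ₀ hn]
    constructor
    · rintro ⟨u, hu⟩
      haveI : Nonempty ι := Fintype.card_pos_iff.mp (by omega)
      obtain ⟨i₀⟩ := (inferInstance : Nonempty ι)
      have hu' : y.1.1.map emb = (u : F) • (1 : Matrix ι ι F) := by rw [← PGO.sc_val, ← hu]; rfl
      have hi : (u : F) = emb (y.1.1 i₀ i₀) := by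
        have := congrFun (congrFun hu' i₀) i₀
        simpa using this.symm
      refine ⟨Units.mk0 (y.1.1 i₀ i₀) (fun h0 => u.ne_zero (by rw [hi, h0, map_zero])),
        Units.ext (Matrix.map_injective emb.injective ?_)⟩
      show y.1.1.map emb = ((PGO.sc (ι := ι) (Units.mk0 (y.1.1 i₀ i₀) _)).1).map emb
      rw [hu', PGO.sc_val, Units.val_mk0, FieldGen.map_smul_hom, hi, Matrix.map_one _ (map_zero emb) (map_one emb)]
    · rintro ⟨u, hu⟩
      refine ⟨Units.map emb.toMonoidHom u, Units.ext ?_⟩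
      rw [incl_val, hu, PGO.sc_val, PGO.sc_val, FieldGen.map_smul_hom, Matrix.map_one _ (map_zero emb) (map_one emb)]
      rfl
  exact ⟨((MulEquiv.subgroupCongr (range_centralizer emb Q₀ hcomp hfix hQ hn hι hne)).symm.trans
    (QuotientGroup.quotientKerEquivRange _).symm).trans
    ((QuotientGroup.quotientMulEquivOfEq hk).trans (QuotientGroup.quotientKerEquivRange _))⟩

end Incl

end CfsgLib.OrthAut
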