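import Cfsg.Agent.Lib.OrthAut.Pair
import Cfsg.Agent.Lib.OrthAut.Field

/-!
Frames: forms over a subfield inside a semilinear automorphism; Lang's theorem and centralizers.
-/

set_option autoImplicit false
set_option linter.unusedSectionVars false
set_option linter.style.haveILetI false
set_option linter.unusedSimpArgs false
set_option maxHeartbeats 800000

namespace CfsgLib.OrthPair

open QuadraticMap Module CfsgLib.OrthAut
open scoped Matrix

variable {F : Type*} [Field F] [Fintype F] {ι : Type} [Fintype ι] [DecidableEq ι]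
variable {F₀ : Type*} [Field F₀] [Fintype F₀] (emb : F₀ →+* F)

/-- `h` carries a form over the subfield to a multiple of `Q`. -/
def IsFrame (Q : QuadraticForm F (ι → F)) (h : GL ι F) (b : F) (Q₀ : QuadraticForm F₀ (ι → F₀)) : Prop :=
  b ≠ 0 ∧ ∀ v, emb (Q₀ v) = b * Q (h.1 *ᵥ up emb v)

variable {Q : QuadraticForm F (ι → F)} {h : GL ι F} {b : F} {Q₀ : QuadraticForm F₀ (ι → F₀)} {σ : RingAut F}

/-- The semilinear map fixing a frame. -/
def fel (h : GL ι F) (σ : RingAut F) : SL F ι := ⟨h * σA F ι σ h⁻¹, σ⟩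

theorem fel_conj (h : GL ι F) (σ : RingAut F) :
    fel h σ = SemidirectProduct.inl h * SemidirectProduct.inr σ * (SemidirectProduct.inl h)⁻¹ := by
  refine SemidirectProduct.ext ?_ ?_ <;> simp [fel]

theorem orderOf_fel (h : GL ι F) (σ : RingAut F) : orderOf (fel h σ) = orderOf σ := by
  rw [fel_conj, ← MulAut.conj_apply, MulEquiv.orderOf_eq,
    orderOf_injective _ (SemidirectProduct.inr_injective (φ := σA F ι))]

/-- A form whose values on the standard basis and their polar values are fixed is fixed. -/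
theorem fixed_of_up (hι : ∀ y, σ y = y ↔ y ∈ emb.range) (B : QuadraticForm F (ι → F))
    (hB : ∀ v : ι → F₀, B (up emb v) ∈ emb.range) (u : ι → F) : B (σv σ u) = σ (B u) := by
  classical
  have h1 : ∀ i, σ (B (Pi.single i 1)) = B (Pi.single i 1) := fun i => (hι _).mpr (by
    rw [← up_single emb]; exact hB _)
  have hP : (FiniteForms.polarMat ⇑B).map σ = FiniteForms.polarMat ⇑B := by
    ext i j
    refine (hι _).mpr ?_
    show polar B (Pi.single i 1) (Pi.single j 1) ∈ emb.range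
    rw [← up_single emb, ← up_single emb j, QuadraticMap.polar, ← up_add]
    exact sub_mem (sub_mem (hB _) (hB _)) (hB _)
  have hpol : ∀ x y, polar B (σv σ x) (σv σ y) = σ (polar B x y) := fun x y => by
    rw [FiniteForms.polar_eq, FiniteForms.polar_eq]
    conv_lhs => rw [← hP, ← σv_mulVec]
    exact (RingHom.map_dotProduct σ.toRingHom x _).symm
  have hs : ∀ (c : F) i, B (σv σ (Pi.single i c)) = σ (B (Pi.single i c)) := fun c i => by
    have e : σv σ (Pi.single i c : ι → F) = σ c • (Pi.single i 1 : ι → F) := by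
      funext j; by_cases hj : j = i <;> simp [σv, hj]
    have e' : (Pi.single i c : ι → F) = c • (Pi.single i 1 : ι → F) := by
      funext j; by_cases hj : j = i <;> simp [hj]
    rw [e, e', QuadraticMap.map_smul, QuadraticMap.map_smul, smul_eq_mul, smul_eq_mul, map_mul, map_mul, h1]
  rw [← Finset.univ_sum_single u]
  generalize (Finset.univ : Finset ι) = s
  induction s using Finset.induction_on with
  | empty =>
    have e : σv σ (0 : ι → F) = 0 := funext fun i => map_zero σ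
    simp [e]
  | insert i t hi ih =>
    have e : ∀ x y : ι → F, σv σ (x + y) = σv σ x + σv σ y := fun x y => funext fun j => map_add σ _ _
    rw [Finset.sum_insert hi, e, QuadraticMap.map_add B, QuadraticMap.map_add B, map_add, map_add, hs, ih, hpol]

theorem frame_form (hfr : IsFrame emb Q h b Q₀) :
    ∃ B : QuadraticForm F (ι → F), (∀ x, B x = b * Q (h.1 *ᵥ x)) ∧ ∀ v, B (up emb v) = emb (Q₀ v) :=
  ⟨b • Q.comp (Matrix.mulVecLin h.1), fun x => rfl, fun v => (hfr.2 v).symm⟩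

theorem frame_nondeg (hQ : (polarBilin Q).Nondegenerate) (hfr : IsFrame emb Q h b Q₀) :
    (polarBilin Q₀).Nondegenerate := by
  obtain ⟨hb, hfr⟩ := hfr
  have hl : ∀ x, (∀ y, polar Q₀ x y = 0) → x = 0 := by
    intro x hx
    have hp : ∀ y, polar Q (h.1 *ᵥ up emb x) (h.1 *ᵥ up emb y) = 0 := fun y => by
      have := congrArg emb (hx y)
      simp only [QuadraticMap.polar, map_sub, hfr, up_add, map_zero, Matrix.mulVec_add] at this
      refine mul_left_cancel₀ hb ?_
      simp only [QuadraticMap.polar, mul_zero]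
      linear_combination this
    have hlin : (polarBilin Q (h.1 *ᵥ up emb x)).comp (Matrix.mulVecLin h.1) = 0 :=
      (Pi.basisFun F ι).ext fun j => by rw [Pi.basisFun_apply, ← up_single emb]; exact hp _
    have hx0 : h.1 *ᵥ up emb x = 0 := hQ.1 _ fun z => by
      have := LinearMap.congr_fun hlin ((h⁻¹).1 *ᵥ z)
      simpa [Matrix.mulVec_mulVec] using this
    funext i
    exact emb.injective ((congrFun (Matrix.mulVec_injective_of_isUnit h.isUnit
      (hx0.trans (Matrix.mulVec_zero _).symm)) i).trans (map_zero emb).symm)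
  exact ⟨hl, fun y hy => hl y fun x => (polar_comm Q₀ y x).trans (hy x)⟩

theorem fel_mem (hι : ∀ y, σ y = y ↔ y ∈ emb.range) (hfr : IsFrame emb Q h b Q₀) : fel h σ ∈ ΓO Q := by
  obtain ⟨B, hB, hBup⟩ := frame_form emb hfr
  have hb := hfr.1
  have hσb : σ b ≠ 0 := by simpa using hb
  refine ⟨Units.mk0 (σ b / b) (div_ne_zero hσb hb), fun w => ?_⟩
  have key := fixed_of_up emb hι B (fun v => ⟨Q₀ v, (hBup v).symm⟩) ((h⁻¹).1 *ᵥ w)
  rw [hB, hB, Matrix.mulVec_mulVec _ h.1, Units.mul_inv, Matrix.one_mulVec, map_mul] at key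
  show Q ((h * σA F ι σ h⁻¹).1 *ᵥ σv σ w) = _
  rw [Units.val_mul, ← Matrix.mulVec_mulVec, σA_val, ← σv_mulVec, Units.val_mk0]
  show Q _ = σ b / b * σ (Q w)
  rw [div_mul_eq_mul_div, eq_div_iff hb, mul_comm]
  exact key

theorem frame_isometry_map (hfr : IsFrame emb Q h b Q₀) {y : GL ι F₀} {c : F₀}
    (hc : ∀ v, Q₀ (y.1 *ᵥ v) = c * Q₀ v) (w : ι → F) :
    Q ((h * Matrix.GeneralLinearGroup.map emb y * h⁻¹).1 *ᵥ w) = emb c * Q w := by
  obtain ⟨B, hB, hBup⟩ := frame_form emb hfr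
  have key : B.comp (Matrix.mulVecLin (y.1.map emb)) = emb c • B := form_ext_up emb fun v => by
    show B (y.1.map emb *ᵥ up emb v) = emb c * B (up emb v)
    rw [← up_mulVec, hBup, hBup, hc, map_mul]
  have := congrArg (fun A : QuadraticForm F (ι → F) => A ((h⁻¹).1 *ᵥ w)) key
  change B (y.1.map emb *ᵥ ((h⁻¹).1 *ᵥ w)) = emb c * B ((h⁻¹).1 *ᵥ w) at this
  rw [hB, hB, Matrix.mulVec_mulVec _ h.1 (h⁻¹).1, Units.mul_inv, Matrix.one_mulVec] at this
  rw [Units.val_mul, Units.val_mul, ← Matrix.mulVec_mulVec, ← Matrix.mulVec_mulVec]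
  show Q (h.1 *ᵥ (y.1.map emb *ᵥ ((h⁻¹).1 *ᵥ w))) = _
  refine mul_left_cancel₀ hfr.1 ?_
  linear_combination this

/-- Similitudes of the frame's form. -/
noncomputable def inclH (hfr : IsFrame emb Q h b Q₀) : PGO.GO Q₀ →* PGO.GO Q :=
  ((MulAut.conj h).toMonoidHom.comp ((Matrix.GeneralLinearGroup.map emb).comp (PGO.GO Q₀).subtype)).codRestrict
    (PGO.GO Q) (fun x => by
      obtain ⟨c, hc⟩ := x.2
      exact ⟨Units.map emb.toMonoidHom c, frame_isometry_map emb hfr hc⟩)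

theorem inclH_val (hfr : IsFrame emb Q h b Q₀) (x : PGO.GO Q₀) :
    (inclH emb hfr x).1 = h * Matrix.GeneralLinearGroup.map emb x.1 * h⁻¹ := rfl

theorem inclH_sc (hfr : IsFrame emb Q h b Q₀) (c : F₀ˣ) :
    (inclH emb hfr ⟨PGO.sc c, PGO.sc_mem Q₀ c⟩).1 = PGO.sc (Units.map emb.toMonoidHom c) := by
  have e : Matrix.GeneralLinearGroup.map emb (PGO.sc (ι := ι) c) = PGO.sc (Units.map emb.toMonoidHom c) := by
    refine Units.ext ?_
    show (PGO.sc (ι := ι) c).1.map emb = _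
    rw [PGO.sc_val, PGO.sc_val, FieldGen.map_smul_hom, Matrix.map_one _ (map_zero emb) (map_one emb)]
    rfl
  rw [inclH_val, e, ← PGO.sc_comm, mul_inv_cancel_right]

theorem map_fixed (hι : ∀ y, σ y = y ↔ y ∈ emb.range) (x : GL ι F₀) :
    σA F ι σ (Matrix.GeneralLinearGroup.map emb x) = Matrix.GeneralLinearGroup.map emb x :=
  Units.ext (Matrix.ext fun i j => (hι _).mpr ⟨x.1 i j, rfl⟩)

theorem inclH_commute (hι : ∀ y, σ y = y ↔ y ∈ emb.range) (hfr : IsFrame emb Q h b Q₀) (x : PGO.GO Q₀) :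
    ofGO (inclH emb hfr x) * (⟨fel h σ, fel_mem emb hι hfr⟩ : ΓO Q) =
      (⟨fel h σ, fel_mem emb hι hfr⟩ : ΓO Q) * ofGO (inclH emb hfr x) := by
  refine Subtype.ext (SemidirectProduct.ext ?_ ?_)
  · simp only [Subgroup.coe_mul, SemidirectProduct.mul_left, ofGO_left, ofGO_right, map_one, MulAut.one_apply,
      inclH_val, fel, map_mul, map_inv, map_fixed emb hι]
    group
  · simp [ofGO_right]

/-- Lang's theorem: a semilinear similitude of the order of its field part comes from a frame. -/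
theorem exists_frame (hι : ∀ y, σ y = y ↔ y ∈ emb.range) (hQ : (polarBilin Q).Nondegenerate)
    (hn : 7 ≤ Fintype.card ι) (γ : ΓO Q) (hσ : γ.1.right = σ) (hγ : Ψ γ ^ orderOf σ = 1) :
    ∃ (c : Fˣ) (hh : GL ι F) (b : F) (R₀ : QuadraticForm F₀ (ι → F₀)),
      IsFrame emb Q hh b R₀ ∧ γ.1.left = PGO.sc c * (fel hh σ).left := by
  classical
  haveI : Nonempty ι := Fintype.card_pos_iff.mp (by omega)
  rw [← map_pow] at hγ
  obtain ⟨-, c, hc⟩ := (Ψ_eq_one hQ hn _).mp hγ
  obtain ⟨hh, d, hd, hdh⟩ := FieldGen.exists_descent σ γ.1.left (fun k => (γ.1 ^ k).left.1) (by simp)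
    (fun k => by
      show (γ.1 ^ (k + 1)).left.1 = _
      rw [pow_succ', SemidirectProduct.mul_left, Units.val_mul, σA_val, hσ])
    (c := (c : F)) (by
      rw [show (γ.1 ^ orderOf σ).left = PGO.sc c from hc, PGO.sc_val])
  obtain ⟨c', hc'⟩ := mem_ΓO.mp γ.2
  rw [hσ] at hc'
  have hkey : ∀ x : ι → F, σv σ x = x → Q (hh.1 *ᵥ x) = d * d * (c' : F) * σ (Q (hh.1 *ᵥ x)) := by
    intro x hx
    conv_lhs => rw [← hdh, Matrix.smul_mulVec, ← Matrix.mulVec_mulVec, ← hx, ← σv_mulVec, QuadraticMap.map_smul]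
    show (d * d) • Q (γ.1.left.1 *ᵥ fun i => σ ((hh.1 *ᵥ x) i)) = _
    rw [hc', smul_eq_mul]
    ring
  have hupfix : ∀ v : ι → F₀, σv σ (up emb v) = up emb v := fun v => funext fun i => (hι _).mpr ⟨v i, rfl⟩
  obtain ⟨A, hA⟩ : ∃ A : QuadraticForm F (ι → F), ∀ x, A x = Q (hh.1 *ᵥ x) :=
    ⟨Q.comp (Matrix.mulVecLin hh.1), fun x => rfl⟩
  obtain ⟨v₀, hv₀⟩ : ∃ v₀ : ι → F₀, A (up emb v₀) ≠ 0 := by
    by_contra hcon
    push Not at hcon
    have hA0 : A = 0 := form_ext_up emb fun v => by rw [hcon]; rfl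
    obtain ⟨a, ha⟩ := OmegaSimple.exists_nonzero_value Q hQ (by rw [Module.finrank_fintype_fun_eq_card]; omega)
    refine ha ?_
    have h1 := hA ((hh⁻¹).1 *ᵥ a)
    rw [hA0, Matrix.mulVec_mulVec, Units.mul_inv, Matrix.one_mulVec] at h1
    exact h1.symm
  obtain ⟨b, hb⟩ : ∃ b, b = (A (up emb v₀))⁻¹ := ⟨_, rfl⟩
  have hb0 : b ≠ 0 := hb ▸ inv_ne_zero hv₀
  have hrat : ∀ v : ι → F₀, ∃ r : F₀, emb r = b * A (up emb v) := fun v => (hι _).mp (by
    have k0 := hkey _ (hupfix v₀)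
    have k1 := hkey _ (hupfix v)
    rw [← hA] at k0 k1
    have hσ0 : σ (A (up emb v₀)) ≠ 0 := by simpa using hv₀
    have hdc : d * d * (c' : F) ≠ 0 := mul_ne_zero (mul_ne_zero hd hd) c'.ne_zero
    rw [hb, map_mul, map_inv₀]
    generalize σ (A (up emb v)) = sv at *
    generalize σ (A (up emb v₀)) = s0 at *
    rw [k1, k0]
    field_simp)
  choose r hr using hrat
  have inj := emb.injective
  let R₀ : QuadraticForm F₀ (ι → F₀) := QuadraticMap.ofPolar r
    (fun a x => inj (by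
      rw [smul_eq_mul, map_mul, map_mul, hr, hr, up_smul, QuadraticMap.map_smul, smul_eq_mul]; ring))
    (fun x x' y => inj (by
      simp only [QuadraticMap.polar, map_add, map_sub, hr, up_add]
      have h1 := QuadraticMap.polar_add_left A (up emb x) (up emb x') (up emb y)
      simp only [QuadraticMap.polar] at h1
      linear_combination b * h1))
    (fun a x y => inj (by
      simp only [QuadraticMap.polar, smul_eq_mul, map_mul, map_add, map_sub, hr, up_add, up_smul]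
      have h1 := QuadraticMap.polar_smul_left A (emb a) (up emb x) (up emb y)
      simp only [QuadraticMap.polar, smul_eq_mul] at h1
      linear_combination b * h1))
  refine ⟨(Units.mk0 d hd)⁻¹, hh, b, R₀, ⟨hb0, fun v => by rw [← hA]; exact hr v⟩, ?_⟩
  refine Units.ext ?_
  show γ.1.left.1 = (PGO.sc (Units.mk0 d hd)⁻¹).1 * (hh.1 * ((hh⁻¹).1.map σ))
  rw [← Matrix.mul_assoc]
  conv_rhs => rw [PGO.sc_val, Matrix.smul_mul, Matrix.one_mul, ← hdh, Matrix.smul_mul, Matrix.smul_mul,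
    smul_smul, Units.val_inv_eq_inv_val, Units.val_mk0, inv_mul_cancel₀ hd, one_smul]
  rw [Matrix.mul_assoc, ← Matrix.map_mul, Units.mul_inv, Matrix.map_one _ (map_zero σ) (map_one σ), Matrix.mul_one]

/-- Frames of similar forms are conjugate by a similitude. -/
theorem conj_frames (hι : ∀ y, σ y = y ↔ y ∈ emb.range) {hh : GL ι F} {b' : F} {R₀ : QuadraticForm F₀ (ι → F₀)}
    (hfr : IsFrame emb Q h b Q₀) (hfr' : IsFrame emb Q hh b' R₀) {P : GL ι F₀} {s : F₀} (hs : s ≠ 0)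
    (hP : ∀ v, R₀ (P.1 *ᵥ v) = s * Q₀ v) :
    ∃ k : PGO.GO Q, ofGO k * (⟨fel h σ, fel_mem emb hι hfr⟩ : ΓO Q) * (ofGO k)⁻¹ =
      ⟨fel hh σ, fel_mem emb hι hfr'⟩ := by
  obtain ⟨B, hB, hBup⟩ := frame_form emb hfr
  obtain ⟨B', hB', hBup'⟩ := frame_form emb hfr'
  let Pm : GL ι F := Matrix.GeneralLinearGroup.map emb P
  have key : B'.comp (Matrix.mulVecLin Pm.1) = emb s • B := form_ext_up emb fun v => by
    show B' (P.1.map emb *ᵥ up emb v) = emb s * B (up emb v)
    rw [← up_mulVec, hBup', hBup, hP, map_mul]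
  have hes : emb s ≠ 0 := by simpa using hs
  have hmem : hh * Pm * h⁻¹ ∈ PGO.GO Q := by
    refine ⟨Units.mk0 (emb s * b / b') (div_ne_zero (mul_ne_zero hes hfr.1) hfr'.1), fun w => ?_⟩
    have := congrArg (fun A : QuadraticForm F (ι → F) => A ((h⁻¹).1 *ᵥ w)) key
    change B' (Pm.1 *ᵥ ((h⁻¹).1 *ᵥ w)) = emb s * B ((h⁻¹).1 *ᵥ w) at this
    rw [hB', hB, Matrix.mulVec_mulVec _ h.1 (h⁻¹).1, Units.mul_inv, Matrix.one_mulVec] at this
    rw [Units.val_mul, Units.val_mul, ← Matrix.mulVec_mulVec, ← Matrix.mulVec_mulVec, Units.val_mk0,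
      div_mul_eq_mul_div, eq_div_iff hfr'.1]
    linear_combination this
  refine ⟨⟨_, hmem⟩, Subtype.ext (SemidirectProduct.ext ?_ ?_)⟩
  · simp only [Subgroup.coe_mul, Subgroup.coe_inv, SemidirectProduct.mul_left, SemidirectProduct.mul_right,
      SemidirectProduct.inv_left, ofGO_left, ofGO_right, map_one, MulAut.one_apply, one_mul, inv_one, fel, map_mul,
      map_inv, Pm, map_fixed emb hι]
    group
  · simp [ofGO_right, fel]

/-- The centralizer of a frame automorphism among the similitude automorphisms. -/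
theorem centralizer_range (hι : ∀ y, σ y = y ↔ y ∈ emb.range) (hQ : (polarBilin Q).Nondegenerate)
    (hn : 7 ≤ Fintype.card ι) (hfr : IsFrame emb Q h b Q₀) :
    ((PGO.Θ Q).comp (inclH emb hfr)).range =
      (PGO.Θ Q).range ⊓ Subgroup.centralizer {Ψ (⟨fel h σ, fel_mem emb hι hfr⟩ : ΓO Q)} := by
  classical
  haveI : Nonempty ι := Fintype.card_pos_iff.mp (by omega)
  apply le_antisymm
  · rintro _ ⟨y, rfl⟩
    refine Subgroup.mem_inf.mpr ⟨⟨_, rfl⟩, ?_⟩
    rw [Subgroup.mem_centralizer_singleton_iff, MonoidHom.comp_apply, ← Ψ_ofGO, ← map_mul, ← map_mul,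
      inclH_commute emb hι]
  · intro a ha
    obtain ⟨⟨x, rfl⟩, hc⟩ := Subgroup.mem_inf.mp ha
    rw [Subgroup.mem_centralizer_singleton_iff, ← Ψ_ofGO, ← map_mul, ← map_mul, ← mul_inv_eq_one, ← map_inv,
      ← map_mul] at hc
    obtain ⟨-, u, hu⟩ := (Ψ_eq_one hQ hn _).mp hc
    simp only [Subgroup.coe_mul, Subgroup.coe_inv, SemidirectProduct.mul_left, SemidirectProduct.mul_right,
      SemidirectProduct.inv_left, ofGO_left, ofGO_right, map_one, MulAut.one_apply, one_mul, mul_one, map_inv,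
      map_mul, fel, MulAut.apply_inv_self] at hu
    obtain ⟨z, hz⟩ : ∃ z, z = h⁻¹ * x.1 * h := ⟨_, rfl⟩
    have hσu : z = PGO.sc u * σA F ι σ z := by
      have e : h⁻¹ * (PGO.sc u * (h * σA F ι σ z)) = z := by
        rw [hz, ← hu]
        simp only [map_mul, map_inv]
        group
      rw [← mul_assoc (PGO.sc u), PGO.sc_comm, mul_assoc h, inv_mul_cancel_left] at e
      exact e.symm
    have hmap : z.1.map σ = ((u⁻¹ : Fˣ) : F) • z.1 := by
      conv_rhs => rw [hσu, Units.val_mul, PGO.sc_val, Matrix.smul_mul, Matrix.one_mul, smul_smul,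
        Units.inv_mul, one_smul]
      rfl
    obtain ⟨b', P, hb', hP⟩ := FieldGen.exists_multiple σ emb hι z hmap
    obtain ⟨c, hcx⟩ := x.2
    obtain ⟨v₀, hv₀⟩ : ∃ v₀, Q₀ v₀ ≠ 0 := by
      by_contra hcon
      push Not at hcon
      obtain ⟨a, ha⟩ := OmegaSimple.exists_nonzero_value Q hQ (by rw [Module.finrank_fintype_fun_eq_card]; omega)
      obtain ⟨B, hB, hBup⟩ := frame_form emb hfr
      have hB0 : B = 0 := form_ext_up emb fun v => by rw [hBup, hcon, map_zero]; rfl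
      have h1 := hB ((h⁻¹).1 *ᵥ a)
      rw [hB0, Matrix.mulVec_mulVec, Units.mul_inv, Matrix.one_mulVec] at h1
      exact mul_ne_zero hfr.1 ha h1.symm
    have key : ∀ v : ι → F₀, emb (Q₀ (P.1 *ᵥ v)) = b' * b' * (c : F) * emb (Q₀ v) := fun v => by
      rw [hfr.2, hfr.2, up_mulVec, hP, Matrix.smul_mulVec, Matrix.mulVec_smul, QuadraticMap.map_smul,
        smul_eq_mul, hz, Units.val_mul, Units.val_mul, ← Matrix.mulVec_mulVec, ← Matrix.mulVec_mulVec,
        Matrix.mulVec_mulVec _ h.1 (h⁻¹).1, Units.mul_inv, Matrix.one_mulVec, hcx]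
      ring
    obtain ⟨c₀, hc₀⟩ : ∃ c₀, c₀ = Q₀ (P.1 *ᵥ v₀) * (Q₀ v₀)⁻¹ := ⟨_, rfl⟩
    have hc₀' : emb c₀ = b' * b' * (c : F) := by
      rw [hc₀, map_mul, map_inv₀, key, mul_assoc, mul_inv_cancel₀ (by simpa using hv₀), mul_one]
    have hc0 : c₀ ≠ 0 := fun h0 => mul_ne_zero (mul_ne_zero hb' hb') c.ne_zero (by rw [← hc₀', h0, map_zero])
    have hy : P ∈ PGO.GO Q₀ := ⟨Units.mk0 c₀ hc0, fun v => emb.injective (by
      rw [key, Units.val_mk0, map_mul, hc₀'])⟩
    refine ⟨⟨P, hy⟩, ?_⟩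
    have e : inclH emb hfr ⟨P, hy⟩ = ⟨PGO.sc (Units.mk0 b' hb'), PGO.sc_mem Q _⟩ * x := by
      refine Subtype.ext ?_
      rw [inclH_val, Subgroup.coe_mul]
      show h * Matrix.GeneralLinearGroup.map emb P * h⁻¹ = PGO.sc (Units.mk0 b' hb') * x.1
      rw [show Matrix.GeneralLinearGroup.map emb P = PGO.sc (Units.mk0 b' hb') * z from Units.ext (by
        show P.1.map emb = _
        rw [hP, Units.val_mul, PGO.sc_val, Units.val_mk0, Matrix.smul_mul, Matrix.one_mul]), hz]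
      rw [← mul_assoc h, ← PGO.sc_comm]
      group
    rw [MonoidHom.comp_apply, e, map_mul, PGO.Θ_sc Q (g := ⟨PGO.sc _, PGO.sc_mem Q _⟩) rfl, one_mul]

theorem Θ_inclH_eq_one (hQ : (polarBilin Q).Nondegenerate) (hn : 7 ≤ Fintype.card ι)
    (hfr : IsFrame emb Q h b Q₀) (y : PGO.GO Q₀) :
    PGO.Θ Q (inclH emb hfr y) = 1 ↔ PGO.Θ Q₀ y = 1 := by
  rw [Θ_eq_one hQ hn, Θ_eq_one (frame_nondeg emb hQ hfr) hn, inclH_val]
  constructor
  · rintro ⟨u, hu⟩
    obtain ⟨i₀⟩ : Nonempty ι := Fintype.card_pos_iff.mp (by omega)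
    rw [mul_inv_eq_iff_eq_mul, PGO.sc_comm, mul_right_inj] at hu
    have hu' : y.1.1.map emb = (u : F) • (1 : Matrix ι ι F) := by rw [← PGO.sc_val, ← hu]; rfl
    have hi : (u : F) = emb (y.1.1 i₀ i₀) := by
      have := congrFun (congrFun hu' i₀) i₀
      simpa using this.symm
    refine ⟨Units.mk0 (y.1.1 i₀ i₀) (fun h0 => u.ne_zero (by rw [hi, h0, map_zero])),
      Units.ext (Matrix.map_injective emb.injective ?_)⟩
    show y.1.1.map emb = ((PGO.sc (ι := ι) (Units.mk0 (y.1.1 i₀ i₀) _)).1).map emb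
    rw [hu', PGO.sc_val, Units.val_mk0, FieldGen.map_smul_hom, hi, Matrix.map_one _ (map_zero emb) (map_one emb)]
  · rintro ⟨u, hu⟩
    refine ⟨Units.map emb.toMonoidHom u, ?_⟩
    rw [← inclH_sc emb hfr u, inclH_val, hu]

end CfsgLib.OrthPair
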