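import Cfsg.Agent.Lib.OrthAut.Frame
import Cfsg.Agent.Lib.OrthAut.Odd
import Cfsg.Agent.Lib.PGO.Proper

/-!
The inner-diagonal similitudes of an even-dimensional form, in every characteristic: the proper ones in odd
characteristic, scalars times `Ω` in characteristic two.
-/

set_option autoImplicit false
set_option linter.unusedSectionVars false
set_option linter.style.haveILetI false
set_option linter.unusedSimpArgs false
set_option maxHeartbeats 800000

namespace CfsgLib.OrthPair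

open QuadraticMap Module CfsgLib.OrthAut CfsgLib.SpinorNorm CfsgLib.SpinorMatrix CfsgLib.WittExtension
open CfsgLib.OmegaList (RP QP)
open scoped Matrix

variable {F : Type*} [Field F] [Fintype F] {ι : Type} [Fintype ι] [DecidableEq ι]

open Classical in
/-- The inner-diagonal similitudes. -/
noncomputable def Gd (Q : QuadraticForm F (ι → F)) : Subgroup (PGO.GO Q) :=
  if (2 : F) = 0 then PGO.Ns Q else PGO.propSub Q

variable {Q : QuadraticForm F (ι → F)}

theorem Gd_two (h2 : (2 : F) = 0) : Gd Q = PGO.Ns Q := by rw [Gd, if_pos h2]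

theorem Gd_odd (h2 : (2 : F) ≠ 0) : Gd Q = PGO.propSub Q := by rw [Gd, if_neg h2]

variable (hQ : (polarBilin Q).Nondegenerate) (hev : Even (Fintype.card ι)) (hn : 7 ≤ Fintype.card ι)

include hQ hn in
theorem hc_even : Subgroup.closure (Refl Q) = ⊤ := hc_of Q hQ (Or.inr (by omega))

include hQ hn in
theorem exists_aniso : ∃ v, Q v ≠ 0 :=
  OmegaSimple.exists_nonzero_value Q hQ (by rw [Module.finrank_fintype_fun_eq_card]; omega)

include hQ hn in
theorem mult_unique' {A : Matrix ι ι F} {c d : F} (hc : ∀ x, Q (A *ᵥ x) = c * Q x)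
    (hd : ∀ x, Q (A *ᵥ x) = d * Q x) : c = d := by
  obtain ⟨v, hv⟩ := exists_aniso hQ hn
  exact mul_right_cancel₀ hv ((hc v).symm.trans (hd v))

include hQ hn in
theorem mem_prop_iff' {g : PGO.GO Q} {c : Fˣ} (hc : ∀ x, Q (g.1.1 *ᵥ x) = (c : F) * Q x) :
    g ∈ PGO.propSub Q ↔ g.1.1.det = (c : F) ^ PGO.half ι := by
  refine ⟨?_, fun h => ⟨c, hc, h⟩⟩
  rintro ⟨d, hd, h⟩
  rw [h, mult_unique' hQ hn hd hc]

theorem det_refl_matrix {v : ι → F} (hv : Q v ≠ 0) : (Cfsg.reflectionMatrix (⇑Q) v).det = -1 := by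
  rw [← OmegaList.symm_refl_matrix Q hv]
  exact det_refl Q hv

theorem refl_iso {v : ι → F} (hv : Q v ≠ 0) {r : GL ι F} (hr : r.1 = Cfsg.reflectionMatrix (⇑Q) v) :
    r ∈ Cfsg.isometryGroup F ⇑Q := by
  rw [show r = ((isoEquiv Q).symm (SpinorNorm.refl Q hv)).1 from Units.ext (by rw [hr, OmegaList.symm_refl_matrix])]
  exact ((isoEquiv Q).symm (SpinorNorm.refl Q hv)).2

theorem refl_mul_self' {v : ι → F} (hv : Q v ≠ 0) {r : GL ι F} (hr : r.1 = Cfsg.reflectionMatrix (⇑Q) v) :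
    r * r = 1 := by
  rw [show r = ((isoEquiv Q).symm (SpinorNorm.refl Q hv)).1 from Units.ext (by rw [hr, OmegaList.symm_refl_matrix]),
    ← Subgroup.coe_mul, ← map_mul, SpinorNorm.refl_mul_self, map_one, OneMemClass.coe_one]

include hQ hev hn in
theorem refl_notMem_Gd {v : ι → F} (hv : Q v ≠ 0) {r : PGO.GO Q}
    (hr : r.1.1 = Cfsg.reflectionMatrix (⇑Q) v) : r ∉ Gd Q := by
  by_cases h2 : (2 : F) = 0
  · rw [Gd_two h2]
    rintro ⟨c, _, ⟨w, hw, rfl⟩, e⟩
    replace e : r.1 = PGO.sc c * w.1 := e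
    obtain ⟨vs, hvs, hvm, he, -⟩ := OmegaList.list_of_mem Q (hc_even hQ hn) hQ w hw
    obtain ⟨o, ho⟩ := OmegaList.exists_iso Q [v] (by simp [hv])
    have hro : r.1 = o.1 := Units.ext (by rw [hr, ho]; simp [RP])
    have h1 : Q (o.1.1 *ᵥ v) = Q v := o.2 v v
    have h3 : Q (w.1.1 *ᵥ v) = Q v := w.2 v v
    rw [← hro, e, Units.val_mul, ← Matrix.mulVec_mulVec, PGO.sc_mulVec, QuadraticMap.map_smul, h3, smul_eq_mul]
      at h1
    have hcc : (c : F) * c = 1 := mul_right_cancel₀ hv (h1.trans (one_mul _).symm)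
    have hc1 : (c : F) = 1 := by
      refine sub_eq_zero.mp (mul_self_eq_zero.mp ?_)
      linear_combination hcc + (1 - (c : F)) * h2
    rw [Units.val_eq_one.mp hc1, map_one, one_mul] at e
    have := ((OmegaList.omega_iff_list Q (hc_even hQ hn) hQ o [v] (by simp [hv]) ho).mp
      (by rwa [show o = w from Subtype.ext (hro.symm.trans e)])).1
    simp at this
  · rw [Gd_odd h2, mem_prop_iff' hQ hn (c := 1) fun x => by
      rw [Units.val_one, one_mul]; exact (refl_iso hv hr) x x, hr, det_refl_matrix hv, Units.val_one, one_pow]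
    exact fun h => h2 (by linear_combination -h)

include hQ hev hn in
theorem Gd_mul_refl {v : ι → F} (hv : Q v ≠ 0) {r : PGO.GO Q}
    (hr : r.1.1 = Cfsg.reflectionMatrix (⇑Q) v) (g : PGO.GO Q) (hg : g ∉ Gd Q) : g * r ∈ Gd Q := by
  obtain ⟨d, hd⟩ := g.2
  have hriso := refl_iso hv hr
  by_cases h2 : (2 : F) = 0
  · rw [Gd_two h2] at hg ⊢
    obtain ⟨t, ht⟩ := FiniteForms.sqrt_charTwo h2 (d : F)
    have ht0 : t ≠ 0 := fun h => d.ne_zero (by rw [ht, h, mul_zero])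
    obtain ⟨u, hu⟩ : ∃ u : Fˣ, (u : F) = t := ⟨Units.mk0 t ht0, rfl⟩
    obtain ⟨o, ho⟩ : ∃ o : Cfsg.isometryGroup F ⇑Q, o.1 = PGO.sc u⁻¹ * g.1 := by
      refine ⟨⟨_, fun x _ => ?_⟩, rfl⟩
      show Q ((PGO.sc u⁻¹ * g.1 : GL ι F).1 *ᵥ x) = Q x
      rw [Units.val_mul, ← Matrix.mulVec_mulVec, PGO.sc_mulVec, QuadraticMap.map_smul, hd, ht, ← hu, smul_eq_mul,
        Units.val_inv_eq_inv_val]
      field_simp
    have hgo : g.1 = PGO.sc u * o.1 := by rw [ho]; simp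
    obtain ⟨vs, hvs, hvm⟩ := OmegaList.exists_list Q (hc_even hQ hn) o
    have hsq : ∀ x : F, IsSquare x := fun x => by
      obtain ⟨s, hs⟩ := FiniteForms.sqrt_charTwo h2 x; exact ⟨s, hs⟩
    have hodd : Odd vs.length := by
      by_contra hc
      exact hg ⟨u, o.1, ⟨o, (OmegaList.omega_iff_list Q (hc_even hQ hn) hQ o vs hvs hvm).mpr
        ⟨Nat.not_odd_iff_even.mp hc, hsq _⟩, rfl⟩, hgo⟩
    refine ⟨u, (o * ⟨r.1, hriso⟩ : Cfsg.isometryGroup F ⇑Q).1, ⟨o * ⟨r.1, hriso⟩,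
      (OmegaList.omega_iff_list Q (hc_even hQ hn) hQ _
      (vs ++ [v]) (fun x hx => ?_) ?_).mpr ⟨?_, hsq _⟩, rfl⟩, ?_⟩
    · rcases List.mem_append.mp hx with hx | hx
      · exact hvs x hx
      · rw [List.mem_singleton.mp hx]; exact hv
    · show o.1.1 * r.1.1 = _
      rw [hvm, hr, OmegaList.RP_append]
      simp [RP]
    · rw [List.length_append, List.length_singleton]; exact hodd.add_one
    · show g.1 * r.1 = PGO.sc u * (o.1 * r.1)
      rw [hgo, mul_assoc]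
  · rw [Gd_odd h2, mem_prop_iff' hQ hn (c := d) hd] at hg
    have hgr : ∀ x, Q ((g * r).1.1 *ᵥ x) = (d : F) * Q x := fun x => by
      rw [Subgroup.coe_mul, Units.val_mul, ← Matrix.mulVec_mulVec, hd]
      exact congrArg _ (hriso x x)
    rw [Gd_odd h2, mem_prop_iff' hQ hn (c := d) hgr, Subgroup.coe_mul, Units.val_mul, Matrix.det_mul, hr,
      det_refl_matrix hv, mul_neg_one]
    have h := det_sq_eq hQ hd
    obtain ⟨k, hk⟩ := hev
    rw [show PGO.half ι = k by simp only [PGO.half]; omega] at hg ⊢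
    rw [hk, pow_add] at h
    rcases mul_self_eq_mul_self_iff.mp h with h' | h'
    · exact absurd h' hg
    · rw [h', neg_neg]

theorem exists_refl {v : ι → F} (hv : Q v ≠ 0) :
    ∃ r : PGO.GO Q, r.1.1 = Cfsg.reflectionMatrix (⇑Q) v :=
  ⟨⟨((isoEquiv Q).symm (SpinorNorm.refl Q hv)).1, PGO.iso_mem Q ((isoEquiv Q).symm (SpinorNorm.refl Q hv)).2⟩,
    OmegaList.symm_refl_matrix Q hv⟩

include hQ hev hn in
theorem Gd_index : (Gd Q).index = 2 := by
  obtain ⟨v, hv⟩ := exists_aniso hQ hn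
  obtain ⟨r, hr⟩ := exists_refl hv
  have hr' := refl_notMem_Gd hQ hev hn hv hr
  refine Subgroup.index_eq_two_iff.mpr ⟨r, fun g => ?_⟩
  by_cases hg : g ∈ Gd Q
  · exact Or.inr ⟨hg, fun h => hr' ((mul_mem_cancel_left hg).mp h)⟩
  · exact Or.inl ⟨Gd_mul_refl hQ hev hn hv hr g hg, hg⟩

include hQ hev hn in
theorem Ns_le_Gd : PGO.Ns Q ≤ Gd Q := by
  by_cases h2 : (2 : F) = 0
  · rw [Gd_two h2]
  · rw [Gd_odd h2]
    rintro g ⟨c, _, ⟨w, hw, rfl⟩, e⟩
    replace e : g.1 = PGO.sc c * w.1 := e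
    obtain ⟨vs, hvs, hvm, he, -⟩ := OmegaList.list_of_mem Q (hc_even hQ hn) hQ w hw
    refine ⟨c * c, fun x => ?_, ?_⟩
    · rw [e, Units.val_mul, ← Matrix.mulVec_mulVec, PGO.sc_mulVec, QuadraticMap.map_smul,
        show Q (w.1.1 *ᵥ x) = Q x from w.2 x x, smul_eq_mul, Units.val_mul]
    · obtain ⟨k, hk⟩ := hev
      rw [e, Units.val_mul, Matrix.det_mul, PGO.sc_val, Matrix.det_smul, Matrix.det_one, mul_one, hvm,
        PGO.Data.det_RP _ hvs, he.neg_one_pow, mul_one, Units.val_mul, hk, show PGO.half ι = k by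
          simp only [PGO.half]; omega, mul_pow, pow_add]

include hQ hev hn in
/-- A proper subgroup containing scalars times `Ω` is the inner-diagonal one, in characteristic two. -/
theorem eq_Gd_two (h2 : (2 : F) = 0) {M : Subgroup (PGO.GO Q)} (hN : PGO.Ns Q ≤ M) (hM : ∃ g, g ∉ M) :
    M = Gd Q := by
  have hle : Gd Q ≤ M := Gd_two (Q := Q) h2 ▸ hN
  refine le_antisymm (fun g hg => ?_) hle
  by_contra hgn
  obtain ⟨k, hk⟩ := hM
  have hkn : k ∉ Gd Q := fun h => hk (hle h)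
  have : g⁻¹ * k ∈ Gd Q :=
    (Subgroup.mul_mem_iff_of_index_two (Gd_index hQ hev hn)).mpr (iff_of_false (fun h => hgn (by simpa using inv_mem h)) hkn)
  exact hk (by simpa using mul_mem hg (hle this))

include hQ hev hn in
theorem Gd_conj (γ : ΓO Q) {x y : PGO.GO Q} (hy : y.1 = γ.1.left * σA F ι γ.1.right x.1 * γ.1.left⁻¹)
    (hx : x ∈ Gd Q) : y ∈ Gd Q := by
  by_cases h2 : (2 : F) = 0
  · rw [Gd_two h2] at hx ⊢
    obtain ⟨c, _, ⟨w, hw, rfl⟩, e⟩ := hx
    replace e : x.1 = PGO.sc c * w.1 := e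
    refine ⟨Units.map (γ.1.right : F →+* F).toMonoidHom c, (omS γ ⟨w, hw⟩).1.1,
      ⟨(omS γ ⟨w, hw⟩).1, (omS γ ⟨w, hw⟩).2, rfl⟩, ?_⟩
    have esc : σA F ι γ.1.right (PGO.sc c) = PGO.sc (Units.map (γ.1.right : F →+* F).toMonoidHom c) := by
      refine Units.ext ?_
      rw [σA_val, PGO.sc_val, PGO.sc_val]
      ext i j
      by_cases hij : i = j <;> simp [hij]
    rw [hy, e, map_mul, esc, omS_val, ← mul_assoc γ.1.left, ← PGO.sc_comm]
    group
  · obtain ⟨d, hd⟩ := x.2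
    rw [Gd_odd h2, mem_prop_iff' hQ hn (c := d) hd] at hx
    obtain ⟨c', hc'⟩ := mem_ΓO.mp γ.2
    have hy' : ∀ w, Q (y.1.1 *ᵥ w) = γ.1.right (d : F) * Q w := by
      intro w
      obtain ⟨u, hu⟩ : ∃ u, γ.1.left.1 *ᵥ σv γ.1.right u = w :=
        ⟨σv γ.1.right.symm ((γ.1.left⁻¹).1 *ᵥ w), by
          rw [show σv γ.1.right (σv γ.1.right.symm ((γ.1.left⁻¹).1 *ᵥ w)) = (γ.1.left⁻¹).1 *ᵥ w from
            funext fun i => γ.1.right.apply_symm_apply _, Matrix.mulVec_mulVec, Units.mul_inv, Matrix.one_mulVec]⟩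
      subst hu
      rw [hy, Units.val_mul, Units.val_mul, Matrix.mulVec_mulVec, Matrix.mul_assoc, Units.inv_mul, Matrix.mul_one,
        ← Matrix.mulVec_mulVec, σA_val, ← σv_mulVec]
      show Q (γ.1.left.1 *ᵥ fun i => γ.1.right ((x.1.1 *ᵥ u) i)) =
        γ.1.right (d : F) * Q (γ.1.left.1 *ᵥ fun i => γ.1.right (u i))
      rw [hc', hc', hd, map_mul]
      ring
    rw [Gd_odd h2, mem_prop_iff' hQ hn (c := Units.map (γ.1.right : F →+* F).toMonoidHom d) hy', hy, Units.val_mul,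
      Units.val_mul, Matrix.det_units_conj, σA_val]
    show (x.1.1.map γ.1.right.toRingHom).det = (γ.1.right (d : F)) ^ PGO.half ι
    exact ((RingHom.map_det γ.1.right.toRingHom x.1.1).symm.trans (congrArg γ.1.right hx)).trans (map_pow _ _ _)

include hQ hev hn in
theorem Gd_map_normal (hmax : (∀ W : Submodule F (ι → F), (∀ a ∈ W, Q a = 0) → 2 * finrank F W < Fintype.card ι) ∨
    10 ≤ Fintype.card ι) : ((Gd Q).map (PGO.Θ Q)).Normal := by
  refine ⟨?_⟩
  rintro _ ⟨x, hx, rfl⟩ β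
  obtain ⟨γ, rfl⟩ := Ψ_surjective hQ hn hmax β
  obtain ⟨y, hy, e⟩ := conj_ofGO γ x
  exact ⟨y, Gd_conj hQ hev hn γ hy hx, by rw [← Ψ_ofGO, ← Ψ_ofGO, ← e, map_mul, map_mul, map_inv]⟩

section Incl

variable {F₀ : Type*} [Field F₀] [Fintype F₀] {emb : F₀ →+* F} {h : GL ι F} {b : F}
  {Q₀ : QuadraticForm F₀ (ι → F₀)} (hfr : IsFrame emb Q h b Q₀)

include hfr in
theorem frame_value (v : ι → F₀) : Q (h.1 *ᵥ up emb v) = b⁻¹ * emb (Q₀ v) := by
  rw [hfr.2, inv_mul_cancel_left₀ hfr.1]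

include hfr in
theorem inclH_refl {v : ι → F₀} (hv : Q₀ v ≠ 0) {r₀ : PGO.GO Q₀}
    (hr : r₀.1.1 = Cfsg.reflectionMatrix (⇑Q₀) v) :
    (inclH emb hfr r₀).1.1 = Cfsg.reflectionMatrix (⇑Q) (h.1 *ᵥ up emb v) := by
  refine eq_of_mul_right (u := h) ?_
  refine Matrix.ext_of_mulVec_single fun i => ?_
  rw [inclH_val, Units.val_mul, Units.val_mul, ← up_single emb, ← Matrix.mulVec_mulVec, ← Matrix.mulVec_mulVec,
    ← Matrix.mulVec_mulVec, ← Matrix.mulVec_mulVec, Matrix.mulVec_mulVec _ (h⁻¹).1 h.1, Units.inv_mul,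
    Matrix.one_mulVec]
  show h.1 *ᵥ (r₀.1.1.map emb *ᵥ up emb (Pi.single i 1)) = _
  rw [hr, ← up_mulVec, PolarVec.reflection_mulVec, PolarVec.reflection_mulVec, up_add, up_smul, Matrix.mulVec_add,
    Matrix.mulVec_smul]
  congr 2
  have hpol : polar Q (h.1 *ᵥ up emb v) (h.1 *ᵥ up emb (Pi.single i 1)) = b⁻¹ * emb (polar Q₀ v (Pi.single i 1)) := by
    simp only [polar, ← Matrix.mulVec_add, ← up_add, frame_value hfr, map_sub]
    ring
  have hb := hfr.1
  have hv' : emb (Q₀ v) ≠ 0 := by simpa using hv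
  rw [hpol, frame_value hfr, map_neg, map_mul, map_inv₀]
  field_simp
where
  eq_of_mul_right {A B : Matrix ι ι F} {u : GL ι F} (h : A * u.1 = B * u.1) : A = B := by
    have := congrArg (fun M => M * (u⁻¹).1) h
    simpa [Matrix.mul_assoc] using this

include hQ hev hn hfr in
theorem inclH_mem_Gd (y : PGO.GO Q₀) : inclH emb hfr y ∈ Gd Q ↔ y ∈ Gd Q₀ := by
  have hQ₀ := frame_nondeg emb hQ hfr
  have hfw : ∀ y, y ∈ Gd Q₀ → inclH emb hfr y ∈ Gd Q := by
    intro y hy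
    by_cases h2 : (2 : F) = 0
    · have h20 : (2 : F₀) = 0 := emb.injective (by rw [map_ofNat, map_zero]; exact h2)
      rw [Gd_two h20] at hy
      rw [Gd_two h2]
      obtain ⟨c, _, ⟨w, hw, rfl⟩, e⟩ := hy
      replace e : y.1 = PGO.sc c * w.1 := e
      let φ : Cfsg.isometryGroup F₀ ⇑Q₀ →* Cfsg.isometryGroup F ⇑Q :=
        (((MulAut.conj h).toMonoidHom.comp (Matrix.GeneralLinearGroup.map emb)).comp
          (Cfsg.isometryGroup F₀ ⇑Q₀).subtype).codRestrict _ fun o x _ => by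
            show Q ((h * Matrix.GeneralLinearGroup.map emb o.1 * h⁻¹).1 *ᵥ x) = Q x
            rw [frame_isometry_map emb hfr (c := 1) (fun v => by rw [one_mul]; exact o.2 v v), map_one, one_mul]
      have hle : (commutator (Cfsg.isometryGroup F₀ ⇑Q₀)).map φ ≤ commutator (Cfsg.isometryGroup F ⇑Q) := by
        rw [_root_.commutator_def, Subgroup.map_commutator]
        exact Subgroup.commutator_mono le_top le_top
      refine ⟨Units.map emb.toMonoidHom c, (φ w).1, ⟨φ w, hle ⟨w, hw, rfl⟩, rfl⟩, ?_⟩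
      have e2 : y = ⟨PGO.sc c, PGO.sc_mem Q₀ c⟩ * ⟨w.1, PGO.iso_mem Q₀ w.2⟩ := Subtype.ext e
      rw [e2, map_mul, Subgroup.coe_mul, inclH_sc]
      rfl
    · have h20 : (2 : F₀) ≠ 0 := fun e => h2 (by rw [← map_ofNat emb 2, e, map_zero])
      obtain ⟨d, hd⟩ := y.2
      rw [Gd_odd h20, mem_prop_iff' hQ₀ hn (c := d) hd] at hy
      rw [Gd_odd h2, mem_prop_iff' hQ hn (c := Units.map emb.toMonoidHom d) (frame_isometry_map emb hfr hd),
        inclH_val, Units.val_mul, Units.val_mul, Matrix.det_units_conj]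
      show (y.1.1.map emb).det = emb (d : F₀) ^ PGO.half ι
      exact ((RingHom.map_det emb y.1.1).symm.trans (congrArg emb hy)).trans (map_pow _ _ _)
  refine ⟨fun hy => ?_, hfw y⟩
  by_contra hy0
  obtain ⟨v, hv⟩ := exists_aniso hQ₀ hn
  obtain ⟨r₀, hr₀⟩ := exists_refl hv
  have h1 := hfw _ (Gd_mul_refl hQ₀ hev hn hv hr₀ y hy0)
  rw [map_mul, mul_mem_cancel_left hy] at h1
  exact refl_notMem_Gd hQ hev hn (by rw [frame_value hfr]; exact mul_ne_zero (inv_ne_zero hfr.1) (by simpa using hv))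
    (inclH_refl hfr hv hr₀) h1

end Incl

end CfsgLib.OrthPair
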