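import Cfsg.Agent.Lib.OrthAut.PlusInn
import Cfsg.Agent.Lib.OrthAut.Equiv

/-!
The splitting of the class of an involutory graph-field automorphism of the orthogonal groups of plus type.
-/

set_option autoImplicit false
set_option linter.unusedSectionVars false
set_option linter.style.haveILetI false
set_option linter.unusedSimpArgs false
set_option maxHeartbeats 1600000

namespace CfsgLib.OrthPair

open QuadraticMap Module CfsgLib.OrthAut
open CfsgLib.OmegaList (RP QP)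
open scoped Matrix

variable {F : Type*} [Field F] {ι : Type} [Fintype ι] [DecidableEq ι]
  {F₁ : Type*} [Field F₁] {κ : Type} [Fintype κ] [DecidableEq κ]

/-- Products of reflections along a similitude between coordinate spaces. -/
theorem RP_transport (Q : QuadraticForm F (ι → F)) (R : QuadraticForm F₁ (κ → F₁)) (e : F₁ →+* F)
    (L : (κ → F₁) → (ι → F)) (hadd : ∀ x y, L (x + y) = L x + L y) (hsmul : ∀ c x, L (c • x) = e c • L x)
    {s : F} (hs : s ≠ 0) (hQ : ∀ x, Q (L x) = s * e (R x)) (vs : List (κ → F₁)) (hvs : ∀ v ∈ vs, R v ≠ 0)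
    (x : κ → F₁) : RP Q (vs.map L) *ᵥ L x = L (RP R vs *ᵥ x) := by
  induction vs generalizing x with
  | nil => simp [RP]
  | cons v t ih =>
    have e1 : RP Q ((v :: t).map L) = Cfsg.reflectionMatrix (⇑Q) (L v) * RP Q (t.map L) := by simp [RP]
    have e2 : RP R (v :: t) = Cfsg.reflectionMatrix (⇑R) v * RP R t := by simp [RP]
    rw [e1, e2, ← Matrix.mulVec_mulVec, ← Matrix.mulVec_mulVec, ih (fun w hw => hvs w (List.mem_cons_of_mem v hw))]
    obtain ⟨y, hy⟩ : ∃ y, y = RP R t *ᵥ x := ⟨_, rfl⟩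
    rw [← hy, PolarVec.reflection_mulVec, PolarVec.reflection_mulVec, hadd, hsmul]
    congr 2
    have hv : e (R v) ≠ 0 := by simpa using hvs v List.mem_cons_self
    have hp : polar Q (L v) (L y) = s * e (polar R v y) := by
      simp only [polar, ← hadd, hQ, map_sub]; ring
    rw [hp, hQ, map_neg, map_mul, map_inv₀]
    field_simp

theorem QP_transport (Q : QuadraticForm F (ι → F)) (R : QuadraticForm F₁ (κ → F₁)) (e : F₁ →+* F)
    (L : (κ → F₁) → (ι → F)) {s : F} (hQ : ∀ x, Q (L x) = s * e (R x)) (vs : List (κ → F₁)) :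
    QP Q (vs.map L) = s ^ vs.length * e (QP R vs) := by
  induction vs with
  | nil => simp [QP]
  | cons v t ih =>
    simp only [QP, List.map_cons, List.prod_cons, List.length_cons] at ih ⊢
    rw [hQ, ih, map_mul]
    ring

/-- Reflections in orthogonal vectors. -/
theorem RP_orth (Q : QuadraticForm F (ι → F)) : ∀ (vs : List (ι → F)), (∀ v ∈ vs, Q v ≠ 0) →
    vs.Pairwise (fun a b => polar (⇑Q) a b = 0) → ∀ x,
    RP Q vs *ᵥ x = x + (vs.map fun v => (-((Q v)⁻¹ * polar (⇑Q) v x)) • v).sum := by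
  intro vs
  induction vs with
  | nil => intro _ _ x; simp [RP]
  | cons v t ih =>
    intro hvs hp x
    rw [List.pairwise_cons] at hp
    have e1 : RP Q (v :: t) = Cfsg.reflectionMatrix (⇑Q) v * RP Q t := by simp [RP]
    rw [e1, ← Matrix.mulVec_mulVec, ih (fun w hw => hvs w (List.mem_cons_of_mem v hw)) hp.2 x,
      PolarVec.reflection_mulVec, List.map_cons, List.sum_cons]
    have h0 : polar (⇑Q) v ((t.map fun w => (-((Q w)⁻¹ * polar (⇑Q) w x)) • w).sum) = 0 := by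
      have : ∀ l : List (ι → F), (∀ w ∈ l, polar (⇑Q) v w = 0) →
          polar (⇑Q) v ((l.map fun w => (-((Q w)⁻¹ * polar (⇑Q) w x)) • w).sum) = 0 := by
        intro l hl
        induction l with
        | nil => simp
        | cons w l ihl =>
          rw [List.map_cons, List.sum_cons, polar_add_right, polar_smul_right, hl w List.mem_cons_self, smul_zero,
            zero_add]
          exact ihl fun u hu => hl u (List.mem_cons_of_mem w hu)
      exact this t hp.1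
    rw [polar_add_right, h0, add_zero]
    abel

end CfsgLib.OrthPair

namespace CfsgLib.OrthPlus

open QuadraticMap Module CfsgLib.OrthAut CfsgLib.OrthPair
open CfsgLib.OmegaList (RP QP)
open CfsgLib.Lagrangian (Qp Qp_apply Qp_nondeg)
open CfsgLib.StdQuadForms (Qm Qm_apply Qm_nondeg)
open scoped Matrix

universe u v

section Norm

variable {F : Type u} [Field F] [Fintype F] {F₀ : Type v} [Field F₀] [Fintype F₀] {emb : F₀ →+* F} {σ : RingAut F}
  (hι : ∀ y, σ y = y ↔ y ∈ emb.range) (h2 : orderOf σ = 2)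

include h2 in
theorem σσ (t : F) : σ (σ t) = t := by
  have h : σ * σ = 1 := by rw [← pow_two, ← h2, pow_orderOf_eq_one]
  exact congrFun (congrArg DFunLike.coe h) t

include hι h2 in
/-- Squares are detected by the norm. -/
theorem isSquare_norm (h20 : (2 : F) ≠ 0) {t : F} (ht : t ≠ 0) {N : F₀} (hN : emb N = t * σ t) :
    IsSquare t ↔ IsSquare N := by
  have fwd : ∀ (t : F) (N : F₀), emb N = t * σ t → IsSquare t → IsSquare N := by
    rintro t N hN ⟨s, rfl⟩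
    obtain ⟨w, hw⟩ := (hι (s * σ s)).mp (by rw [map_mul, σσ h2, mul_comm])
    refine ⟨w, emb.injective ?_⟩
    rw [hN, map_mul emb, hw, map_mul σ]
    ring
  refine ⟨fwd t N hN, fun hsq => ?_⟩
  have h20' : (2 : F₀) ≠ 0 := fun e => h20 (by rw [← map_ofNat emb 2, e, map_zero])
  obtain ⟨ν, hν⟩ := PGO.exists_nonsquare (F := F₀) h20'
  obtain ⟨e, he⟩ := OrthAut.isSquare_emb_two emb h20 (by rw [card_pow emb hι, h2]) (ν : F₀)
  have hnot : σ e ≠ e := fun h => by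
    obtain ⟨e₀, rfl⟩ := (hι e).mp h
    exact hν ⟨e₀, emb.injective (by rw [he, map_mul])⟩
  have hσe : σ e = -e := by
    have h1 : σ e * σ e = e * e := by rw [← map_mul, ← he, (hι _).mpr ⟨(ν : F₀), rfl⟩]
    exact (mul_self_eq_mul_self_iff.mp h1).resolve_left hnot
  have haniso : ∀ z₁ z₂ : F₀, z₁ ^ 2 + 0 * z₁ * z₂ + -(ν : F₀) * z₂ ^ 2 = 0 → z₁ = 0 ∧ z₂ = 0 := by
    intro z₁ z₂ hz
    by_cases hz2 : z₂ = 0
    · subst hz2; exact ⟨pow_eq_zero_iff two_ne_zero |>.mp (by linear_combination hz), rfl⟩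
    · exact absurd ⟨z₁ / z₂, by field_simp; linear_combination -hz⟩ hν
  obtain ⟨x, y, hxy⟩ := PGO.exists_norm haniso h20' ν.ne_zero
  obtain ⟨t₀, ht₀⟩ : ∃ t₀, t₀ = emb x + emb y * e := ⟨_, rfl⟩
  have hN₀ : emb (ν : F₀) = t₀ * σ t₀ := by
    rw [ht₀, map_add, map_mul, (hι _).mpr ⟨x, rfl⟩, (hι _).mpr ⟨y, rfl⟩, hσe]
    have h1 := congrArg emb hxy
    simp only [zero_div, map_add, map_mul, map_pow, map_sub, map_neg, map_zero] at h1
    linear_combination -(emb y) ^ 2 * he - h1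
  have ht₀0 : t₀ ≠ 0 := fun h0 => by
    rw [h0, zero_mul, map_eq_zero] at hN₀; exact ν.ne_zero hN₀
  have hns : ¬ IsSquare t₀ := fun h => hν (fwd _ _ hN₀ h)
  by_contra hnt
  have hN0 : N ≠ 0 := fun h0 => by
    rw [h0, map_zero, eq_comm, mul_eq_zero, map_eq_zero] at hN; exact hN.elim ht ht
  have h1 : IsSquare (t * t₀) := (FiniteForms.isSquare_mul_iff ht ht₀0).mpr (iff_of_false hnt hns)
  have h3 := fwd (t * t₀) (N * ν) (by rw [map_mul emb, hN, hN₀, map_mul σ]; ring) h1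
  exact hν (((FiniteForms.isSquare_mul_iff hN0 ν.ne_zero).mp h3).mp hsq)

end Norm

variable {F : Type u} [Field F] [Fintype F] {m : ℕ}
  {F₀ : Type v} [Field F₀] [Fintype F₀] {emb : F₀ →+* F} {σ : RingAut F}
  (hι : ∀ y, σ y = y ↔ y ∈ emb.range) (h2 : orderOf σ = 2)

include hι h2 in
/-- The involution of the model and the spinor norm of it. -/
theorem exists_model_list (h20 : (2 : F) ≠ 0) {n : ℕ} {c : F₀}
    (hc : ∀ z₁ z₂ : F₀, z₁ ^ 2 + 1 * z₁ * z₂ + c * z₂ ^ 2 = 0 → z₁ = 0 ∧ z₂ = 0) :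
    ∃ (δ : PGO.GO (Qm n 1 c)) (ν : F₀ˣ) (e : F) (vs : List ((Fin n ⊕ Fin n) ⊕ Fin 2 → F)),
      ¬ IsSquare (ν : F₀) ∧ (∀ x, Qm n 1 c (δ.1.1 *ᵥ x) = (ν : F₀) * Qm n 1 c x) ∧ e * e = emb (ν : F₀) ∧
      (∀ v ∈ vs, Qm n (emb 1) (emb c) v ≠ 0) ∧ vs.length = n + 1 ∧
      (∀ x, RP (Qm n (emb 1) (emb c)) vs *ᵥ x = e⁻¹ • ((δ.1.1.map emb) *ᵥ x)) ∧
      (IsSquare (QP (Qm n (emb 1) (emb c)) vs) ↔ Even n ∧ IsSquare (-1 : F₀)) := by
  classical
  have h20' : (2 : F₀) ≠ 0 := fun e => h20 (by rw [← map_ofNat emb 2, e, map_zero])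
  obtain ⟨ν, hν⟩ := PGO.exists_nonsquare (F := F₀) h20'
  obtain ⟨e, he⟩ := OrthAut.isSquare_emb_two emb h20 (by rw [card_pow emb hι, h2]) (ν : F₀)
  obtain ⟨u, v, huv⟩ := PGO.exists_norm hc h20' ν.ne_zero
  have hv : v ≠ 0 := fun h0 => hν ⟨u, by rw [h0] at huv; linear_combination -huv⟩
  have he0 : e ≠ 0 := fun h0 => ν.ne_zero ((map_eq_zero emb).mp (by rw [he, h0, mul_zero]))
  have hnot : σ e ≠ e := fun h => by
    obtain ⟨e₀, rfl⟩ := (hι e).mp h
    exact hν ⟨e₀, emb.injective (by rw [he, map_mul])⟩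
  have hσe : σ e = -e := by
    have h1 : σ e * σ e = e * e := by rw [← map_mul, ← he, (hι _).mpr ⟨(ν : F₀), rfl⟩]
    exact (mul_self_eq_mul_self_iff.mp h1).resolve_left hnot
  have hC : -(c - (1 / 2 : F₀) ^ 2) ≠ 0 ∧ ¬ IsSquare (-(c - (1 / 2 : F₀) ^ 2)) :=
    ⟨neg_ne_zero.mpr (PGO.c_ne hc h20'), PGO.c_spec hc h20'⟩
  obtain ⟨C, hCdef⟩ : ∃ C, C = c - (1 / 2 : F₀) ^ 2 := ⟨_, rfl⟩
  rw [← hCdef] at hC huv
  obtain ⟨δ, hδ⟩ : ∃ δ : PGO.GO (Qm n 1 c), δ.1 = PGO.dMinus (m := n) h20' ν (hCdef ▸ huv) :=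
    ⟨⟨_, ν, PGO.Qm_dMinus h20' ν (hCdef ▸ huv)⟩, rfl⟩
  -- the vectors
  let p : Fin n → ((Fin n ⊕ Fin n) ⊕ Fin 2 → F) := fun i =>
    Sum.elim (Sum.elim (Pi.single i e) (Pi.single i (-1))) 0
  let w : (Fin n ⊕ Fin n) ⊕ Fin 2 → F := Sum.elim 0 ![1 - (emb u - emb v / 2) / e, -(emb v) / e]
  let vs : List ((Fin n ⊕ Fin n) ⊕ Fin 2 → F) := w :: List.ofFn p
  obtain ⟨Q, hQdef⟩ : ∃ Q, Q = Qm n (emb 1) (emb c) := ⟨_, rfl⟩
  have hQp : ∀ i, Q (p i) = -e := fun i => by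
    simp [hQdef, Qm_apply, Cfsg.quadFormMinus, p, Pi.single_apply]
  have h2e : emb 1 / 2 = (1 / 2 : F) := by rw [map_one]
  have hC' : emb C = emb c - (1 / 2 : F) ^ 2 := by
    rw [hCdef, map_sub, map_pow, map_div₀, map_one, map_ofNat]
  have hν' : emb u ^ 2 + emb C * emb v ^ 2 = e * e := by
    rw [← he, ← huv, map_add, map_mul, map_pow, map_pow]
  have hQw : Q w = 2 * (e - emb u) / e := by
    simp [hQdef, Qm_apply, Cfsg.quadFormMinus, w]
    rw [hC'] at hν'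
    field_simp at hν' ⊢
    linear_combination hν'
  have hwd : e - emb u ≠ 0 := fun h0 => hnot (by rw [sub_eq_zero.mp h0]; exact (hι _).mpr ⟨u, rfl⟩)
  have hQw0 : Q w ≠ 0 := by rw [hQw]; exact div_ne_zero (mul_ne_zero h20 hwd) he0
  have hvs : ∀ x ∈ vs, Q x ≠ 0 := by
    intro x hx
    rcases List.mem_cons.mp hx with rfl | hx
    · exact hQw0
    · obtain ⟨i, rfl⟩ := List.mem_ofFn.mp hx
      rw [hQp]; exact neg_ne_zero.mpr he0
  have hpolp : ∀ i x, polar Q (p i) x = e * x (.inl (.inr i)) - x (.inl (.inl i)) := fun i x => by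
    simp [hQdef, polar, Qm_apply, Cfsg.quadFormMinus, p, Pi.single_apply, add_mul, mul_add,
      Finset.sum_add_distrib]
    ring
  have hpolw : ∀ x, polar Q w x = 2 * (w (.inr 0) * x (.inr 0)) + w (.inr 0) * x (.inr 1) +
      w (.inr 1) * x (.inr 0) + 2 * emb c * (w (.inr 1) * x (.inr 1)) := fun x => by
    simp [hQdef, polar, Qm_apply, Cfsg.quadFormMinus, w]
    ring
  have hpw : vs.Pairwise (fun a b => polar (⇑Q) a b = 0) := by
    refine List.pairwise_cons.mpr ⟨fun b hb => ?_, List.pairwise_ofFn.mpr fun i j hij => ?_⟩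
    · obtain ⟨i, rfl⟩ := List.mem_ofFn.mp hb
      rw [polar_comm, hpolp]
      simp [w]
    · rw [hpolp]
      simp [p, Pi.single_apply, hij.ne, hij.ne']
  have hmv : ∀ x, (δ.1.1.map emb) *ᵥ x = Sum.elim
      (Sum.elim (fun i => emb (ν : F₀) * x (.inl (.inr i))) (fun i => x (.inl (.inl i))))
      ![(emb u - emb v / 2) * x (.inr 0) + (emb u / 2 + emb C * emb v - 1 / 2 * (emb v / 2 - emb u)) * x (.inr 1),
        emb v * x (.inr 0) + (emb v / 2 - emb u) * x (.inr 1)] := by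
    intro x
    rw [hδ]
    show (Matrix.fromBlocks (PGO.dPlus (m := n) ν).1 0 0 (PGO.dBin 1 c u v)).map emb *ᵥ x = _
    rw [Matrix.fromBlocks_map, Matrix.fromBlocks_mulVec]
    funext s
    rcases s with (i | i) | i
    · simp [PGO.dPlus, Matrix.fromBlocks_map, Matrix.fromBlocks_mulVec, Matrix.mulVec, dotProduct, Matrix.one_apply,
        Fintype.sum_sum_type, Matrix.fromBlocks, apply_ite emb, ite_mul]
    · simp [PGO.dPlus, Matrix.fromBlocks_map, Matrix.fromBlocks_mulVec, Matrix.mulVec, dotProduct, Matrix.one_apply,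
        Fintype.sum_sum_type, Matrix.fromBlocks, apply_ite emb, ite_mul]
    · have hhalf : emb (2⁻¹ : F₀) = (2 : F)⁻¹ := by rw [map_inv₀, map_ofNat]
      fin_cases i <;>
        simp [PGO.dBin, Matrix.mulVec, dotProduct, Fin.sum_univ_two, Fintype.sum_sum_type, hC', hhalf, map_ofNat] <;> (try left) <;> ring
  have hact : ∀ x, RP Q vs *ᵥ x = e⁻¹ • ((δ.1.1.map emb) *ᵥ x) := by
    intro x
    rw [RP_orth Q vs hvs hpw x, hmv]
    show x + ((w :: List.ofFn p).map fun a => (-((Q a)⁻¹ * polar Q a x)) • a).sum = _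
    rw [List.map_cons, List.sum_cons, List.map_ofFn, List.sum_ofFn]
    funext s
    simp only [Pi.add_apply, Finset.sum_apply, Pi.smul_apply, smul_eq_mul, Function.comp_apply, hQp, hpolp]
    rcases s with (j | j) | j
    · have hw0 : w (.inl (.inl j)) = 0 := rfl
      rw [hw0, mul_zero, zero_add, Finset.sum_eq_single j (fun i _ hij => by simp [p, Pi.single_apply, hij.symm])
        (fun h => absurd (Finset.mem_univ j) h)]
      simp [p, he]
      field_simp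
      ring
    · have hw0 : w (.inl (.inr j)) = 0 := rfl
      rw [hw0, mul_zero, zero_add, Finset.sum_eq_single j (fun i _ hij => by simp [p, Pi.single_apply, hij.symm])
        (fun h => absurd (Finset.mem_univ j) h)]
      simp [p]
      field_simp
      ring
    · have hp0 : ∀ i, p i (.inr j) = 0 := fun i => rfl
      rw [Finset.sum_eq_zero (fun i _ => by rw [hp0, mul_zero]), add_zero, hQw, hpolw]
      have h4 : (4 : F) ≠ 0 := by
        rw [show (4 : F) = 2 * 2 by norm_num]; exact mul_ne_zero h20 h20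
      rw [hC'] at hν'
      fin_cases j
      · simp [w, hC']
        field_simp at hν' ⊢
        grind
      · simp [w, hC']
        field_simp at hν' ⊢
        grind
  refine ⟨δ, ν, e, vs, hν, fun x => by rw [hδ]; exact PGO.Qm_dMinus h20' ν (hCdef ▸ huv) x, he.symm,
    hQdef ▸ hvs, by simp [vs], hQdef ▸ hact, ?_⟩
  rw [← hQdef]
  have hQP : QP Q vs = Q w * (-e) ^ n := by
    simp only [QP, vs, List.map_cons, List.prod_cons, List.map_ofFn, List.prod_ofFn, Function.comp_apply, hQp,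
      Finset.prod_const, Finset.card_univ, Fintype.card_fin]
  have hne : -e ≠ 0 := neg_ne_zero.mpr he0
  have hm1 : IsSquare (-e) ↔ ¬ IsSquare (-1 : F₀) := by
    rw [isSquare_norm hι h2 h20 hne (N := -1 * (ν : F₀)) (by
        rw [map_mul, map_neg, map_one, map_neg, hσe, he]; ring),
      FiniteForms.isSquare_mul_iff (neg_ne_zero.mpr one_ne_zero) ν.ne_zero, iff_false_right hν]
  have hm2 : IsSquare (Q w) ↔ IsSquare (-1 : F₀) := by
    have hCν : IsSquare (-C * (ν : F₀)) := (FiniteForms.isSquare_mul_iff hC.1 ν.ne_zero).mpr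
      (iff_of_false hC.2 hν)
    obtain ⟨s, hs⟩ := hCν
    rw [isSquare_norm hι h2 h20 hQw0 (N := -1 * ((2 * v * s / (ν : F₀)) * (2 * v * s / (ν : F₀)))) (by
      rw [hQw, map_div₀ σ, map_mul σ, map_sub σ, hσe, map_ofNat, (hι _).mpr ⟨u, rfl⟩]
      have hs' := congrArg emb hs
      simp only [map_mul, map_neg] at hs'
      simp only [map_mul, map_neg, map_one, map_ofNat, map_div₀, he]
      rw [he] at hs'
      field_simp
      linear_combination (emb v ^ 2) * hs' + (e ^ 2) * hν')]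
    have hs0 : s ≠ 0 := fun h0 => by
      rw [h0, mul_zero, mul_eq_zero] at hs; exact hs.elim hC.1 ν.ne_zero
    have hw : (2 * v * s / (ν : F₀)) * (2 * v * s / (ν : F₀)) ≠ 0 :=
      mul_self_ne_zero.mpr (div_ne_zero (mul_ne_zero (mul_ne_zero h20' hv) hs0) ν.ne_zero)
    rw [FiniteForms.isSquare_mul_iff (neg_ne_zero.mpr one_ne_zero) hw, iff_true_right (IsSquare.mul_self _)]
  rw [hQP, FiniteForms.isSquare_mul_iff hQw0 (pow_ne_zero _ hne), hm2]
  rcases Nat.even_or_odd n with hn | hn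
  · simp [hn, hn.isSquare_pow]
  · obtain ⟨k, rfl⟩ := hn
    rw [pow_succ, FiniteForms.isSquare_mul_iff (pow_ne_zero _ hne) hne, iff_true_left ((even_two_mul k).isSquare_pow _),
      hm1]
    simp [Nat.not_even_iff_odd.mpr (odd_two_mul_add_one k)]

variable (hm : 5 ≤ m) {h : GL (Fin m ⊕ Fin m) F} {b : F} {R₀ : QuadraticForm F₀ (Fin m ⊕ Fin m → F₀)}
  (hfr : IsFrame emb (Qp m F) h b R₀)

include hι h2 hm hfr in
/-- Similitudes of square multiplier over the subfield are inner. -/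
theorem sq_mem_Ns (h20 : (2 : F) ≠ 0) {y : PGO.GO R₀} (hy : y ∈ Gd R₀) {t : F₀} (ht : t ≠ 0)
    (hyt : ∀ x, R₀ (y.1.1 *ᵥ x) = t * t * R₀ x) : inclH emb hfr y ∈ PGO.Ns (Qp m F) := by
  have hn := hn_plus hm
  have hev := hev_plus (m := m)
  have h20' : (2 : F₀) ≠ 0 := fun e => h20 (by rw [← map_ofNat emb 2, e, map_zero])
  have hR := frame_nondeg emb Qp_nondeg hfr
  obtain ⟨tu, rfl⟩ : ∃ tu : F₀ˣ, (tu : F₀) = t := ⟨Units.mk0 t ht, rfl⟩
  obtain ⟨o, ho⟩ : ∃ o : Cfsg.isometryGroup F₀ ⇑R₀, o.1 = PGO.sc tu⁻¹ * y.1 := by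
    refine ⟨⟨_, fun x _ => ?_⟩, rfl⟩
    show R₀ ((PGO.sc tu⁻¹ * y.1 : GL (Fin m ⊕ Fin m) F₀).1 *ᵥ x) = R₀ x
    rw [Units.val_mul, ← Matrix.mulVec_mulVec, PGO.sc_mulVec, QuadraticMap.map_smul, hyt, smul_eq_mul,
      Units.val_inv_eq_inv_val]
    field_simp
  have hyo : y.1 = PGO.sc tu * o.1 := by rw [ho]; simp
  obtain ⟨vs, hvs, hvm⟩ := OmegaList.exists_list R₀ (hc_even hR hn) o
  rw [Gd_odd h20', mem_prop_iff' hR hn (c := tu * tu) (fun x => by rw [Units.val_mul]; exact hyt x)] at hy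
  have hlen : Even vs.length := by
    rw [hyo, Units.val_mul, Matrix.det_mul, PGO.sc_val, Matrix.det_smul, Matrix.det_one, mul_one, hvm,
      PGO.Data.det_RP _ hvs, Units.val_mul, show PGO.half (Fin m ⊕ Fin m) = m by
        simp only [PGO.half, Fintype.card_sum, Fintype.card_fin]; omega,
      Fintype.card_sum, Fintype.card_fin, mul_pow, pow_add] at hy
    by_contra hc
    rw [(Nat.not_even_iff_odd.mp hc).neg_one_pow] at hy
    have : (2 : F₀) * ((tu : F₀) ^ m * (tu : F₀) ^ m) = 0 := by linear_combination -hy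
    exact mul_ne_zero h20' (mul_ne_zero (pow_ne_zero _ tu.ne_zero) (pow_ne_zero _ tu.ne_zero)) this
  let L : (Fin m ⊕ Fin m → F₀) → (Fin m ⊕ Fin m → F) := fun v => h.1 *ᵥ up emb v
  have hLv : ∀ v ∈ vs.map L, Qp m F v ≠ 0 := by
    intro v hv
    obtain ⟨w, hw, rfl⟩ := List.mem_map.mp hv
    rw [show Qp m F (L w) = _ from frame_value hfr w]
    exact mul_ne_zero (inv_ne_zero hfr.1) (by simpa using hvs w hw)
  obtain ⟨o', ho'⟩ := OmegaList.exists_iso (Qp m F) (vs.map L) hLv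
  refine ⟨Units.map emb.toMonoidHom tu, o'.1,
    ⟨o', (OmegaList.omega_iff_list (Qp m F) (hc_even Qp_nondeg hn) Qp_nondeg o' _ hLv ho').mpr ⟨?_, ?_⟩, rfl⟩, ?_⟩
  · rw [List.length_map]; exact hlen
  · rw [QP_transport (Qp m F) R₀ emb L (fun x => frame_value hfr x)]
    exact (hlen.isSquare_pow _).mul (OrthAut.isSquare_emb_two emb h20 (by rw [card_pow emb hι, h2]) _)
  · refine Units.ext (h.isUnit.mul_right_cancel (Matrix.ext_of_mulVec_single fun i => ?_))
    rw [inclH_val, Units.val_mul, Units.val_mul, Units.val_mul, Matrix.mul_assoc, Units.inv_mul, Matrix.mul_one,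
      Matrix.mul_assoc, ← up_single emb, ← Matrix.mulVec_mulVec, ← Matrix.mulVec_mulVec, ← Matrix.mulVec_mulVec,
      PGO.sc_mulVec]
    show h.1 *ᵥ (y.1.1.map emb *ᵥ up emb (Pi.single i 1)) =
      emb (tu : F₀) • (o'.1.1 *ᵥ L (Pi.single i 1))
    rw [← up_mulVec, hyo, Units.val_mul, ← Matrix.mulVec_mulVec, PGO.sc_mulVec, up_smul, Matrix.mulVec_smul, ho',
      hvm, RP_transport (Qp m F) R₀ emb L (fun x x' => by rw [← Matrix.mulVec_add, ← up_add])
        (fun c x => by rw [← Matrix.mulVec_smul, ← up_smul]) (inv_ne_zero hfr.1) (fun x => frame_value hfr x) vs hvs]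

include hι h2 hm hfr in
/-- A similitude of nonsquare multiplier, and when it is inner. -/
theorem exists_nonsquare_elem (h20 : (2 : F) ≠ 0) (hR : IsMinus R₀) :
    ∃ (d : PGO.GO R₀) (ν : F₀ˣ), d ∈ Gd R₀ ∧ ¬ IsSquare (ν : F₀) ∧ (∀ x, R₀ (d.1.1 *ᵥ x) = (ν : F₀) * R₀ x) ∧
      (inclH emb hfr d ∈ PGO.Ns (Qp m F) ↔ Odd m ∧ IsSquare (-1 : F₀)) := by
  classical
  obtain ⟨n, rfl⟩ : ∃ n, m = n + 1 := ⟨m - 1, by omega⟩
  have hn := hn_plus hm
  have hev := hev_plus (m := n + 1)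
  have hR₀ := frame_nondeg emb Qp_nondeg hfr
  obtain ⟨c, hc, g, hg⟩ := hR
  change (Fin (n + 1) ⊕ Fin (n + 1) → F₀) ≃ₗ[F₀] ((Fin n ⊕ Fin n) ⊕ Fin 2 → F₀) at g
  obtain ⟨δ, ν, e, vs, hν, hδ, he, hvs, hlen, hact, hsq⟩ := exists_model_list hι h2 h20 (n := n) hc
  have he0 : e ≠ 0 := fun h0 => ν.ne_zero ((map_eq_zero emb).mp (by rw [← he, h0, mul_zero]))
  have hF2 : ringChar F ≠ 2 := fun e => h20 (by haveI := ringChar.of_eq e; exact CharTwo.two_eq_zero)
  have hodd : Odd (Fintype.card F) := Nat.odd_iff.mpr (FiniteField.odd_card_of_char_ne_two hF2)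
  -- coordinates over the large field
  let M := (LinearMap.toMatrix' g.toLinearMap).map emb
  let M' := (LinearMap.toMatrix' g.symm.toLinearMap).map emb
  let L : ((Fin n ⊕ Fin n) ⊕ Fin 2 → F) → (Fin (n + 1) ⊕ Fin (n + 1) → F) := fun x => h.1 *ᵥ (M' *ᵥ x)
  have hMM : M' * M = 1 := by
    rw [← Matrix.map_mul, ← LinearMap.toMatrix'_comp, g.symm_comp, LinearMap.toMatrix'_id,
      Matrix.map_one _ (map_zero emb) (map_one emb)]
  have hM'up : ∀ x, M' *ᵥ up emb x = up emb (g.symm x) := fun x => funext fun i => by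
    have := RingHom.map_mulVec emb (LinearMap.toMatrix' g.symm.toLinearMap) x i
    rw [LinearMap.toMatrix'_mulVec] at this
    exact this.symm
  obtain ⟨B, hB, hBup⟩ := frame_form emb hfr
  have hLQ : ∀ x, Qp (n + 1) F (L x) = b⁻¹ * RingHom.id F (Qm n (emb 1) (emb c) x) := by
    have key : B.comp M'.mulVecLin = Qm n (emb 1) (emb c) := form_ext_up emb fun v => by
      rw [QuadraticMap.comp_apply, Matrix.mulVecLin_apply, hM'up, hBup, hg, LinearEquiv.apply_symm_apply]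
      simp [Qm_apply, Cfsg.quadFormMinus, up, map_sum]
    intro x
    rw [← key, QuadraticMap.comp_apply, Matrix.mulVecLin_apply, hB, RingHom.id_apply, inv_mul_cancel_left₀ hfr.1]
  have hLadd : ∀ x y, L (x + y) = L x + L y := fun x y => by simp only [L, Matrix.mulVec_add]
  have hLsmul : ∀ (a : F) x, L (a • x) = RingHom.id F a • L x := fun a x => by
    simp only [L, Matrix.mulVec_smul, RingHom.id_apply]
  obtain ⟨d₀, hd₀⟩ : ∃ d₀ : PGO.GO R₀, d₀ = (goCongr (R := R₀) (S := Qm n 1 c) hg).symm δ := ⟨_, rfl⟩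
  have hd₀v : glCongr g d₀.1 = δ.1 := by
    rw [← goCongr_val hg, hd₀, MulEquiv.apply_symm_apply]
  have hd₀m : ∀ x, R₀ (d₀.1.1 *ᵥ x) = (ν : F₀) * R₀ x := (glCongr_mult hg).mp (by rw [hd₀v]; exact hδ)
  -- the action in the large coordinates
  have hLd : ∀ x, (inclH emb hfr d₀).1.1 *ᵥ L x = L ((δ.1.1.map emb) *ᵥ x) := by
    intro x
    have hmat : (d₀.1.1.map emb) * M' = M' * (δ.1.1.map emb) := by
      rw [← Matrix.map_mul, ← Matrix.map_mul]
      congr 1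
      refine Matrix.ext_of_mulVec_single fun i => ?_
      rw [← Matrix.mulVec_mulVec, ← Matrix.mulVec_mulVec, LinearMap.toMatrix'_mulVec, LinearMap.toMatrix'_mulVec,
        ← hd₀v, glCongr_apply]
      simp
    rw [inclH_val, Units.val_mul, Units.val_mul]
    show (h.1 * d₀.1.1.map emb * (h⁻¹).1) *ᵥ (h.1 *ᵥ (M' *ᵥ x)) = _
    rw [Matrix.mulVec_mulVec, Matrix.mul_assoc, Units.inv_mul, Matrix.mul_one, ← Matrix.mulVec_mulVec]
    show h.1 *ᵥ (d₀.1.1.map emb *ᵥ (M' *ᵥ x)) = _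
    rw [Matrix.mulVec_mulVec _ (d₀.1.1.map emb) M', hmat, ← Matrix.mulVec_mulVec]
  have hext : ∀ {A A' : Matrix (Fin (n + 1) ⊕ Fin (n + 1)) (Fin (n + 1) ⊕ Fin (n + 1)) F},
      (∀ x, A *ᵥ L x = A' *ᵥ L x) → A = A' := fun {A A'} hA => Matrix.ext_of_mulVec_single fun i => by
    have := hA (M *ᵥ ((h⁻¹).1 *ᵥ Pi.single i 1))
    simp only [L] at this
    rw [Matrix.mulVec_mulVec _ M' M, hMM, Matrix.one_mulVec, Matrix.mulVec_mulVec _ h.1 (h⁻¹).1, Units.mul_inv,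
      Matrix.one_mulVec] at this
    exact this
  have hvsL : ∀ x ∈ vs.map L, Qp (n + 1) F x ≠ 0 := by
    intro x hx
    obtain ⟨y, hy, rfl⟩ := List.mem_map.mp hx
    rw [hLQ]; exact mul_ne_zero (inv_ne_zero hfr.1) (hvs y hy)
  have hrp : (inclH emb hfr d₀).1.1 = e • RP (Qp (n + 1) F) (vs.map L) := hext fun x => by
    rw [hLd, Matrix.smul_mulVec,
      RP_transport (Qp (n + 1) F) (Qm n (emb 1) (emb c)) (RingHom.id F) L hLadd hLsmul (inv_ne_zero hfr.1) hLQ vs hvs,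
      hact, hLsmul, smul_smul, RingHom.id_apply, mul_inv_cancel₀ he0, one_smul]
  have hQPL : IsSquare (QP (Qp (n + 1) F) (vs.map L)) ↔
      (IsSquare ((b⁻¹) ^ (n + 1)) ↔ (Even n ∧ IsSquare (-1 : F₀))) := by
    rw [QP_transport (Qp (n + 1) F) (Qm n (emb 1) (emb c)) (RingHom.id F) L hLQ, hlen, RingHom.id_apply,
      FiniteForms.isSquare_mul_iff (pow_ne_zero _ (inv_ne_zero hfr.1)) (OmegaList.QP_ne_zero _ hvs), hsq]
  obtain ⟨eu, rfl⟩ : ∃ eu : Fˣ, (eu : F) = e := ⟨Units.mk0 e he0, rfl⟩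
  -- correct the parity
  obtain ⟨d, l, hl, hdm, hdl, hlev, hlq⟩ : ∃ (d : PGO.GO R₀) (l : List (Fin (n + 1) ⊕ Fin (n + 1) → F)),
      (∀ x ∈ l, Qp (n + 1) F x ≠ 0) ∧ (∀ x, R₀ (d.1.1 *ᵥ x) = (ν : F₀) * R₀ x) ∧
      (inclH emb hfr d).1.1 = (eu : F) • RP (Qp (n + 1) F) l ∧ Even l.length ∧
      (IsSquare (QP (Qp (n + 1) F) l) ↔ Even n ∧ IsSquare (-1 : F₀)) := by
    by_cases hpar : Even (n + 1)
    · exact ⟨d₀, vs.map L, hvsL, hd₀m, hrp, by rwa [List.length_map, hlen],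
        by rw [hQPL, iff_true_left (hpar.isSquare_pow _)]⟩
    · obtain ⟨v, hv⟩ := exists_aniso hR₀ hn
      obtain ⟨r₀, hr₀⟩ := exists_refl hv
      have hv' : Qp (n + 1) F (h.1 *ᵥ up emb v) ≠ 0 := by
        rw [frame_value hfr]; exact mul_ne_zero (inv_ne_zero hfr.1) (by simpa using hv)
      refine ⟨d₀ * r₀, vs.map L ++ [h.1 *ᵥ up emb v], fun x hx => ?_, fun x => ?_, ?_, ?_, ?_⟩
      · rcases List.mem_append.mp hx with hx | hx
        · exact hvsL x hx
        · rw [List.mem_singleton.mp hx]; exact hv'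
      · rw [Subgroup.coe_mul, Units.val_mul, ← Matrix.mulVec_mulVec, hd₀m]
        exact congrArg _ (refl_iso hv hr₀ x x)
      · rw [map_mul, Subgroup.coe_mul, Units.val_mul, hrp, inclH_refl hfr hv hr₀, OmegaList.RP_append,
          Matrix.smul_mul]
        simp [RP]
      · rw [List.length_append, List.length_map, hlen, List.length_singleton]
        exact (Nat.not_even_iff_odd.mp hpar).add_one
      · rw [OmegaList.QP_append, show QP (Qp (n + 1) F) [h.1 *ᵥ up emb v] = b⁻¹ * emb (R₀ v) by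
            simp [QP, frame_value hfr], ← mul_assoc,
          QP_transport (Qp (n + 1) F) (Qm n (emb 1) (emb c)) (RingHom.id F) L hLQ, hlen, RingHom.id_apply,
          mul_comm ((b⁻¹) ^ (n + 1)), mul_assoc _ _ b⁻¹, ← pow_succ, mul_assoc]
        have he2 : emb (R₀ v) ≠ 0 := by simpa using hv
        have hb : (b⁻¹) ^ (n + 1 + 1) ≠ 0 := pow_ne_zero _ (inv_ne_zero hfr.1)
        rw [FiniteForms.isSquare_mul_iff (OmegaList.QP_ne_zero _ hvs) (mul_ne_zero hb he2),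
          iff_true_right ((((Nat.not_even_iff_odd.mp hpar).add_one).isSquare_pow _).mul
            (OrthAut.isSquare_emb_two emb h20 (by rw [card_pow emb hι, h2]) _)), hsq]
  obtain ⟨o, ho⟩ := OmegaList.exists_iso (Qp (n + 1) F) l hl
  have hio : inclH emb hfr d = ⟨PGO.sc eu, PGO.sc_mem _ eu⟩ * PGO.Data.toGO o := Subtype.ext (Units.ext (by
    rw [hdl, Subgroup.coe_mul, Units.val_mul, PGO.sc_val, Matrix.smul_mul, Matrix.one_mul]
    show _ = (eu : F) • o.1.1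
    rw [ho]))
  have hscN : (⟨PGO.sc eu, PGO.sc_mem _ eu⟩ : PGO.GO (Qp (n + 1) F)) ∈ PGO.Ns (Qp (n + 1) F) :=
    ⟨eu, 1, one_mem _, (mul_one _).symm⟩
  refine ⟨d, ν, (inclH_mem_Gd Qp_nondeg hev hn hfr d).mp ?_, hν, hdm, ?_⟩
  · rw [hio, mul_mem_cancel_left (Ns_le_Gd Qp_nondeg hev hn hscN), Gd_odd h20,
      mem_prop_iff' Qp_nondeg hn (c := 1) (fun x => by rw [Units.val_one, one_mul]; exact o.2 x x)]
    show o.1.1.det = _
    rw [ho, PGO.Data.det_RP _ hl, hlev.neg_one_pow, Units.val_one, one_pow]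
  · have hmem : PGO.Data.toGO o ∈ PGO.Ns (Qp (n + 1) F) ↔ o ∈ Cfsg.Omega F ⇑(Qp (n + 1) F) := by
      refine ⟨fun hN => (PGO.plusData hodd (by omega)).iso_Ns ((PGO.negMem_plus hodd (by omega)).mpr ?_) hN,
        fun hO => ⟨1, o.1, ⟨o, hO, rfl⟩, by rw [map_one, one_mul]; rfl⟩⟩
      rintro ⟨-, h4⟩
      have hc2 := card_pow emb hι
      rw [h2] at hc2
      rw [hc2, Nat.pow_mod] at h4
      rcases (show Fintype.card F₀ % 4 = 0 ∨ Fintype.card F₀ % 4 = 1 ∨ Fintype.card F₀ % 4 = 2 ∨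
        Fintype.card F₀ % 4 = 3 by omega) with h' | h' | h' | h' <;> rw [h'] at h4 <;> omega
    rw [hio, mul_mem_cancel_left hscN, hmem,
      OmegaList.omega_iff_list (Qp (n + 1) F) (hc_even Qp_nondeg hn) Qp_nondeg o l hl ho, hlq, and_iff_right hlev,
      Nat.odd_add_one, Nat.not_odd_iff_even]

include hι h2 hm hfr in
/-- The number of classes. -/
theorem splitCount_graph_field (hR : IsMinus R₀) :
    ((2 : F) = 0 → Cfsg.splitClassCount ((Gd (Qp m F)).map (PGO.Θ (Qp m F))) (Cfsg.Inn (Cfsg.POmega F ⇑(Qp m F)))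
      (Ψ (⟨fel h σ, fel_mem emb hι hfr⟩ : ΓO (Qp m F))) = 1) ∧
    (((2 : F) ≠ 0 ∧ Odd m ∧ IsSquare (-1 : F₀)) →
      Cfsg.splitClassCount ((Gd (Qp m F)).map (PGO.Θ (Qp m F))) (Cfsg.Inn (Cfsg.POmega F ⇑(Qp m F)))
      (Ψ (⟨fel h σ, fel_mem emb hι hfr⟩ : ΓO (Qp m F))) = 4) ∧
    (((2 : F) ≠ 0 ∧ ¬ (Odd m ∧ IsSquare (-1 : F₀))) →
      Cfsg.splitClassCount ((Gd (Qp m F)).map (PGO.Θ (Qp m F))) (Cfsg.Inn (Cfsg.POmega F ⇑(Qp m F)))
      (Ψ (⟨fel h σ, fel_mem emb hι hfr⟩ : ΓO (Qp m F))) = 2) := by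
  classical
  have hn := hn_plus hm
  have hev := hev_plus (m := m)
  have hker : (PGO.Θ (Qp m F)).ker ≤ PGO.Ns (Qp m F) := OrthMinus.ker_le Qp_nondeg hn
  have hIH := inn_le_Gd (Q := Qp m F) Qp_nondeg hev hn
  rw [PSLn.splitClassCount_eq _ _ hIH, Gd_centralizer hι hfr Qp_nondeg hev hn]
  obtain ⟨I, hI⟩ : ∃ I, I = Cfsg.Inn (Cfsg.POmega F ⇑(Qp m F)) := ⟨_, rfl⟩
  obtain ⟨H, hH⟩ : ∃ H, H = (Gd (Qp m F)).map (PGO.Θ (Qp m F)) := ⟨_, rfl⟩
  obtain ⟨K, hK⟩ : ∃ K, K = (Gd R₀).map ((PGO.Θ (Qp m F)).comp (inclH emb hfr)) := ⟨_, rfl⟩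
  rw [← hI, ← hH, ← hK]
  rw [← hI, ← hH] at hIH
  have hmemI : ∀ g, PGO.Θ (Qp m F) g ∈ I ↔ g ∈ PGO.Ns (Qp m F) := by
    intro g
    rw [hI, PGO.inn_eq]
    refine ⟨fun ⟨k, hk, e⟩ => ?_, fun hg => ⟨g, hg, rfl⟩⟩
    have h1 : k⁻¹ * g ∈ PGO.Ns (Qp m F) := hker (by rw [MonoidHom.mem_ker, map_mul, map_inv, e, inv_mul_cancel])
    simpa using mul_mem hk h1
  have hKH : K ≤ H := by
    rw [hK, hH, ← Subgroup.map_map]
    refine Subgroup.map_mono ?_
    rintro _ ⟨y, hy, rfl⟩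
    exact (inclH_mem_Gd Qp_nondeg hev hn hfr y).mpr hy
  refine ⟨fun h20 => ?_, ?_⟩
  · have hHI : H ≤ I := by
      rw [hH, Gd_two h20]
      rintro _ ⟨g, hg, rfl⟩
      exact (hmemI g).mpr hg
    exact Subgroup.relIndex_eq_one.mpr (hHI.trans le_sup_left)
  suffices key : (2 : F) ≠ 0 → (Odd m ∧ IsSquare (-1 : F₀) → (I ⊔ K).relIndex H = 4) ∧
      (¬ (Odd m ∧ IsSquare (-1 : F₀)) → (I ⊔ K).relIndex H = 2) from
    ⟨fun h => (key h.1).1 h.2, fun h => (key h.1).2 h.2⟩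
  intro h20
  have h20' : (2 : F₀) ≠ 0 := fun e => h20 (by rw [← map_ofNat emb 2, e, map_zero])
  have hodd : Odd (Fintype.card F) := Nat.odd_iff.mpr (FiniteField.odd_card_of_char_ne_two fun e => h20 (by
    haveI := ringChar.of_eq e; exact CharTwo.two_eq_zero))
  have hc4 : Fintype.card F % 4 = 1 := by
    have hc2 := card_pow emb hι
    rw [h2] at hc2
    have h1 := Nat.odd_iff.mp hodd
    rw [hc2, Nat.pow_mod] at h1 ⊢
    rcases (show Fintype.card F₀ % 4 = 0 ∨ Fintype.card F₀ % 4 = 1 ∨ Fintype.card F₀ % 4 = 2 ∨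
      Fintype.card F₀ % 4 = 3 by omega) with h' | h' | h' | h' <;>
        rw [show Fintype.card F₀ % 2 = (Fintype.card F₀ % 4) % 2 by omega, h'] at h1 <;> rw [h'] <;> omega
  have hIHidx : I.relIndex H = 4 := by
    have hqp : Cfsg.quadFormPlus m F = ⇑(Qp m F) := funext fun v => (Qp_apply v).symm
    obtain ⟨-, h14, hev4⟩ := PGO.plus_inndiag (F := F) (m := m) hodd (by omega)
    suffices gen : ∀ f : (Fin m ⊕ Fin m → F) → F, f = ⇑(Qp m F) →
        (Cfsg.Inn (Cfsg.POmega F f)).relIndex (Subgroup.closure {β : MulAut (Cfsg.POmega F f) |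
          ∃ g : GL (Fin m ⊕ Fin m) F, g ∈ Cfsg.Geo.quadSimilarityGroup (F := F) f ∧
            Cfsg.PreservesSingularClasses (Cfsg.quadFormPlus m F) g.1 ∧
            Cfsg.IsInducedBySemilinearPOmega f g (RingEquiv.refl F) β}) = 4 → I.relIndex H = 4 by
      refine gen _ hqp ?_
      show (Cfsg.Inn (Cfsg.POmega F (Cfsg.quadFormPlus m F))).relIndex (Cfsg.inndiagPOmegaPlus m F) = 4
      rw [Subgroup.relIndex]
      rcases Nat.even_or_odd m with hm2 | hm2
      · obtain ⟨φ, hφ, hk⟩ := hev4 hm2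
        rw [← hk, Subgroup.index_ker, MonoidHom.range_eq_top.mpr hφ, Subgroup.card_top,
          Nat.card_congr Multiplicative.toAdd, Nat.card_prod, Nat.card_zmod]
      · obtain ⟨φ, hφ, hk⟩ := h14 ⟨hm2, hc4⟩
        rw [← hk, Subgroup.index_ker, MonoidHom.range_eq_top.mpr hφ, Subgroup.card_top,
          Nat.card_congr Multiplicative.toAdd, Nat.card_zmod]
    intro f hf
    subst hf
    rw [inndiag_eq hm, ← hI, ← hH]
    exact id
  obtain ⟨d, ν, hd, hν, hdm, hiff⟩ := exists_nonsquare_elem hι h2 hm hfr h20 hR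
  obtain ⟨a, ha⟩ : ∃ a, a = PGO.Θ (Qp m F) (inclH emb hfr d) := ⟨_, rfl⟩
  have haK : a ∈ K := by rw [ha, hK]; exact ⟨d, hd, rfl⟩
  have haI : a ∈ I ↔ Odd m ∧ IsSquare (-1 : F₀) := by rw [ha, hmemI, hiff]
  have ha2 : a * a ∈ I := by
    rw [ha, ← map_mul, ← map_mul, hmemI]
    exact sq_mem_Ns hι h2 hm hfr h20 (mul_mem hd hd) ν.ne_zero fun x => by
      rw [Subgroup.coe_mul, Units.val_mul, ← Matrix.mulVec_mulVec, hdm, hdm, mul_assoc]
  have hKa : ∀ z ∈ K, z ∈ I ∨ z * a ∈ I := by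
    rw [hK]
    rintro _ ⟨y, hy, rfl⟩
    obtain ⟨c, hc⟩ := y.2
    rw [MonoidHom.comp_apply, ha, ← map_mul, ← map_mul, hmemI, hmemI]
    by_cases hsq : IsSquare (c : F₀)
    · obtain ⟨t, ht⟩ := hsq
      exact Or.inl (sq_mem_Ns hι h2 hm hfr h20 hy (t := t) (fun h0 => c.ne_zero (by rw [ht, h0, mul_zero]))
        fun x => by rw [← ht]; exact hc x)
    · obtain ⟨t, ht⟩ := (FiniteForms.isSquare_mul_iff c.ne_zero ν.ne_zero).mpr (iff_of_false hsq hν)
      exact Or.inr (sq_mem_Ns hι h2 hm hfr h20 (mul_mem hy hd) (t := t)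
        (fun h0 => mul_ne_zero c.ne_zero ν.ne_zero (by rw [ht, h0, mul_zero]))
        fun x => by rw [Subgroup.coe_mul, Units.val_mul, ← Matrix.mulVec_mulVec, hc, hdm, ← ht, mul_assoc])
  haveI hIN : I.Normal := by rw [hI]; infer_instance
  constructor
  · intro hcond
    have hKI : K ≤ I := fun z hz => (hKa z hz).elim id fun h => (mul_mem_cancel_right (haI.mpr hcond)).mp h
    rw [sup_eq_left.mpr hKI, hIHidx]
  · intro hcond
    have haI' : a ∉ I := fun h => hcond (haI.mp h)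
    have hidx : I.relIndex (I ⊔ K) = 2 := by
      rw [Subgroup.relIndex, Subgroup.index_eq_two_iff]
      refine ⟨⟨a, Subgroup.mem_sup_right haK⟩, fun z => ?_⟩
      obtain ⟨i, hi, k, hk, hz⟩ := Subgroup.mem_sup_of_normal_left.mp z.2
      rw [Subgroup.mem_subgroupOf, Subgroup.mem_subgroupOf, Subgroup.coe_mul, ← hz]
      show Xor (i * k * a ∈ I) (i * k ∈ I)
      rw [mul_assoc, mul_mem_cancel_left hi, mul_mem_cancel_left hi]
      rcases hKa k hk with h | h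
      · exact Or.inr ⟨h, fun h' => haI' ((mul_mem_cancel_left h).mp h')⟩
      · exact Or.inl ⟨h, fun h' => haI' ((mul_mem_cancel_left h').mp h)⟩
    have hmul := Subgroup.relIndex_mul_relIndex I (I ⊔ K) H le_sup_left (sup_le hIH hKH)
    rw [hidx, hIHidx] at hmul
    omega

end CfsgLib.OrthPlus
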