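import Cfsg.Agent.Lib.OrthAut.Point

/-!
Every automorphism of a simple orthogonal group is conjugation by a semilinear similitude.
-/

set_option autoImplicit false
set_option linter.unusedSectionVars false
set_option linter.style.haveILetI false
set_option linter.unusedSimpArgs false

namespace CfsgLib.OrthAut

open QuadraticMap CfsgLib.WittExtension Module CfsgLib.Eichler CfsgLib.OmegaSimple

variable {F V : Type*} [Field F] [Finite F] [AddCommGroup V] [Module F V] [FiniteDimensional F V]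
variable {Q : QuadraticForm F V}

theorem map_A_conj (e : Sing Q) (g : Om Q) :
    (A Q e).map (MulAut.conj (pr Q g)).toMonoidHom = A Q (e.map g.1) := by
  refine le_antisymm ?_ fun y hy => ?_
  · rintro - ⟨z, hz, rfl⟩
    exact conj_mem_A g hz
  · have h := conj_mem_A g⁻¹ hy
    rw [A_congr (e' := e) (by rw [Sing.map_p, Sing.map_p]; exact inv_smul_smul g.1 e.p)] at h
    exact ⟨_, h, by simp [mul_assoc]⟩

/-- A point map for an automorphism. -/
structure PointMap (φ : MulAut (POm Q)) where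
  b : Sing Q → Sing Q
  hb : ∀ e, (A Q e).map φ.toMonoidHom = A Q (b e)

section

variable (hQ : (polarBilin Q).Nondegenerate) (hn : 7 ≤ finrank F V) {φ : MulAut (POm Q)}
include hQ hn

theorem b_congr (M : PointMap φ) {x y : Sing Q} (h : x.p = y.p) : (M.b x).p = (M.b y).p :=
  A_inj hQ hn (by rw [← M.hb, ← M.hb, A_congr h])

theorem b_perp (M : PointMap φ) (x y : Sing Q) :
    polar Q x.1 y.1 = 0 ↔ polar Q (M.b x).1 (M.b y).1 = 0 := by
  have key : ∀ x y : Sing Q, polar Q x.1 y.1 = 0 ↔ A Q x ⊔ A Q y ≠ ⊤ := fun x y =>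
    ⟨fun h => orth_ne_top hQ hn h, fun h => by_contra fun hne => h (gen hQ hn hne le_sup_left le_sup_right)⟩
  rw [key, key, ← M.hb, ← M.hb, ← Subgroup.map_sup]
  have htop := Subgroup.map_top_of_surjective φ.toMonoidHom φ.surjective
  exact not_iff_not.mpr ⟨fun h => by rw [h, htop],
    fun h => Subgroup.map_injective (f := φ.toMonoidHom) φ.injective (h.trans htop.symm)⟩

theorem b_equiv (M : PointMap φ) (x : Sing Q) {g k : Om Q} (h : φ (pr Q g) = pr Q k) :
    (M.b (x.map g.1)).p = ((M.b x).map k.1).p := by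
  refine A_inj hQ hn ?_
  rw [← M.hb, ← map_A_conj, ← map_A_conj, ← M.hb, Subgroup.map_map, Subgroup.map_map]
  congr 1
  refine MonoidHom.ext fun y => ?_
  show φ (pr Q g * y * (pr Q g)⁻¹) = pr Q k * φ y * (pr Q k)⁻¹
  rw [map_mul, map_mul, map_inv, h]

theorem exists_param (e : Sing Q) {f : V} (hf : Q f = 0) (hef : polar Q e.1 f = 1) {y : POm Q}
    (hy : y ∈ A Q e) : ∃ (u : perp Q e.1 f) (g : Om Q), IsEich Q e.1 u.1 g.1 ∧ pr Q g = y := by
  obtain ⟨g, hgr, rfl⟩ := hy
  obtain ⟨w, hw, hg⟩ := mem_rad.mp hgr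
  refine ⟨⟨w - polar Q f w • e.1, (mem_perp Q).mpr ⟨?_, ?_⟩⟩, g, ?_, rfl⟩
  · simp [sub_eq_add_neg, polar_add_right, polar_neg_right, polar_smul_right, hw, ReflectionGen.pol_self, e.2.2]
  · simp [sub_eq_add_neg, polar_add_right, polar_neg_right, polar_smul_right, polar_comm Q f e.1, hef]
  · have := eich_shift Q e.2.2 hw (-polar Q f w) hg
    rwa [neg_smul, ← sub_eq_add_neg] at this

theorem param_unique (e : Sing Q) {f : V} (hef : polar Q e.1 f = 1) {u u' : perp Q e.1 f} {g g' : Om Q}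
    (hg : IsEich Q e.1 u.1 g.1) (hg' : IsEich Q e.1 u'.1 g'.1) (h : pr Q g = pr Q g') : u = u' := by
  have hgg := pr_eq_of_fix hQ hn e.2.1 (eich_self e.2.2 ((mem_perp Q).mp u.2).1 hg)
    (eich_self e.2.2 ((mem_perp Q).mp u'.2).1 hg') h
  subst hgg
  obtain ⟨t, ht⟩ := eich_inj hQ hn e.2.1 e.2.2 hg hg'
  have := congrArg (polar Q f) ht
  rw [((mem_perp Q).mp u'.2).2, polar_add_right, ((mem_perp Q).mp u.2).2, polar_smul_right,
    polar_comm Q f e.1, hef, zero_add, smul_eq_mul, mul_one] at this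
  exact Subtype.ext (by rw [ht, ← this, zero_smul, add_zero])

theorem eich_f (e : Sing Q) {f : V} (hef : polar Q e.1 f = 1) (u : perp Q e.1 f) {g : quadIso Q}
    (hg : IsEich Q e.1 u.1 g) : g.1 f = f + u.1 + (-Q u.1) • e.1 := by
  rw [hg f, hef, one_smul, polar_comm Q u.1 f, ((mem_perp Q).mp u.2).2, neg_zero, zero_sub, mul_one]
  abel

theorem q_dec {e f : V} (he : Q e = 0) (hf : Q f = 0) (hef : polar Q e f = 1) (α β : F)
    (u : perp Q e f) : Q (α • e + β • f + u.1) = α * β + Q u.1 := by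
  obtain ⟨h1, h2⟩ := (mem_perp Q).mp u.2
  rw [QuadraticMap.map_add Q, QuadraticMap.map_add Q, QuadraticMap.map_smul, QuadraticMap.map_smul, he, hf]
  simp [polar_add_left, polar_smul_left, polar_smul_right, hef, h1, h2]
  ring

variable [Finite V]

/-- **Main theorem.** -/
theorem exists_similitude
    (hmax : (∀ W : Submodule F V, (∀ a ∈ W, Q a = 0) → 2 * finrank F W < finrank F V) ∨ 10 ≤ finrank F V)
    (φ : MulAut (POm Q)) :
    ∃ (T : V → V) (σ : F ≃+* F) (m : F), m ≠ 0 ∧ (∀ x y, T (x + y) = T x + T y) ∧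
      (∀ (c : F) x, T (c • x) = σ c • T x) ∧ Function.Bijective T ∧ (∀ x, Q (T x) = m * σ (Q x)) ∧
      ∀ g k : Om Q, φ (pr Q g) = pr Q k → ∃ c : F, ∀ x, k.1.1 (T x) = c • T (g.1.1 x) := by
  classical
  choose bf hbf using map_A_eq hQ hn hmax φ
  let M : PointMap φ := ⟨bf, hbf⟩
  obtain ⟨e₀, he₀0, he₀⟩ := FiniteForms.exists_singular Q (by omega)
  let e : Sing Q := ⟨e₀, he₀0, he₀⟩
  obtain ⟨f, hef⟩ := exists_opp hQ hn e
  obtain ⟨e', he'⟩ : ∃ e', e' = M.b e := ⟨_, rfl⟩
  have hne : polar Q e'.1 (M.b f).1 ≠ 0 := fun h => by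
    rw [he', ← b_perp hQ hn M, hef] at h; exact one_ne_zero h
  let f' : Sing Q := ⟨(polar Q e'.1 (M.b f).1)⁻¹ • (M.b f).1, smul_ne_zero (inv_ne_zero hne) (M.b f).2.1,
    by rw [QuadraticMap.map_smul, (M.b f).2.2, smul_zero]⟩
  have hef' : polar Q e'.1 f'.1 = 1 := by
    show polar Q e'.1 (_ • (M.b f).1) = 1
    rw [polar_smul_right, smul_eq_mul, inv_mul_cancel₀ hne]
  have hf'p : f'.p = (M.b f).p := Sing.p_eq_iff.mpr ⟨_, rfl⟩
  let U := perp Q e.1 f.1
  let U' := perp Q e'.1 f'.1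
  have hel : ∀ u : U, ∃ g : Om Q, g ∈ rad Q e ∧ IsEich Q e.1 u.1 g.1 := fun u =>
    exists_el hQ hn e ((mem_perp Q).mp u.2).1
  choose el helr hel using hel
  have himg : ∀ u : U, φ (pr Q (el u)) ∈ A Q e' := fun u => by
    rw [he', ← M.hb]; exact ⟨_, ⟨el u, helr u, rfl⟩, rfl⟩
  choose a el' hel' hpr using fun u => exists_param hQ hn e' f'.2.2 hef' (himg u)
  have aadd : ∀ u v, a (u + v) = a u + a v := fun u v => by
    have h1 : IsEich Q e'.1 (a u + a v).1 (el' u * el' v).1 :=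
      eich_add Q e'.2.2 ((mem_perp Q).mp (a u).2).1 ((mem_perp Q).mp (a v).2).1 (hel' u) (hel' v)
    refine param_unique hQ hn e' hef' (hel' _) h1 ?_
    have h2 : el (u + v) = el u * el v := Subtype.ext (eich_unique Q (hel _)
      (eich_add Q e.2.2 ((mem_perp Q).mp u.2).1 ((mem_perp Q).mp v.2).1 (hel u) (hel v)))
    rw [hpr, h2, map_mul, map_mul, map_mul, hpr, hpr]
  have ainj : Function.Injective a := fun u v h => by
    refine param_unique hQ hn e hef (hel u) (hel v) (φ.injective ?_)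
    rw [← hpr u, ← hpr v]
    congr 1
    exact Subtype.ext (eich_unique Q (hel' u) (h ▸ hel' v))
  have asurj : Function.Surjective a := fun u' => by
    obtain ⟨g', hg'r, hg'⟩ := exists_el hQ hn e' ((mem_perp Q).mp u'.2).1
    have hm : pr Q g' ∈ (A Q e).map φ.toMonoidHom := by rw [M.hb, ← he']; exact ⟨g', hg'r, rfl⟩
    obtain ⟨y, hy, hyg⟩ := hm
    obtain ⟨u, g, hg, rfl⟩ := exists_param hQ hn e f.2.2 hef hy
    refine ⟨u, param_unique hQ hn e' hef' (hel' u) hg' ?_⟩
    rw [hpr, ← hyg]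
    exact congrArg (fun z => φ (pr Q z)) (Subtype.ext (eich_unique Q (hel u) hg))
  let Ae : U ≃+ U' := AddEquiv.ofBijective (AddMonoidHom.mk' a aadd) ⟨ainj, asurj⟩
  -- points off `e`
  have hX : ∀ u, (M.b (f.map (el u).1)).p = (f'.map (el' u).1).p := fun u => by
    rw [b_equiv hQ hn M f (hpr u).symm, Sing.map_p, Sing.map_p, hf'p]
  have hXv : ∀ u, (f.map (el u).1).1 = f.1 + u.1 + (-Q u.1) • e.1 := fun u => eich_f hQ hn e hef u (hel u)
  have hX'v : ∀ u, (f'.map (el' u).1).1 = f'.1 + (a u).1 + (-Q (a u).1) • e'.1 := fun u =>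
    eich_f hQ hn e' hef' _ (hel' u)
  have hperpP : ∀ {x x' y y' : Sing Q}, x.p = x'.p → y.p = y'.p →
      (polar Q x.1 y.1 = 0 ↔ polar Q x'.1 y'.1 = 0) := by
    intro x x' y y' hx hy
    obtain ⟨c, hc⟩ := Sing.p_eq_iff.mp hx
    obtain ⟨d, hd⟩ := Sing.p_eq_iff.mp hy
    have hc0 : c ≠ 0 := fun h => x.2.1 (by rw [hc, h, zero_smul])
    have hd0 : d ≠ 0 := fun h => y.2.1 (by rw [hd, h, zero_smul])
    rw [hc, hd, polar_smul_left, polar_smul_right, smul_eq_mul, smul_eq_mul]
    simp [hc0, hd0]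
  have hzero : ∀ u : U, Q u.1 = 0 ↔ Q (a u).1 = 0 := fun u => by
    have h := b_perp hQ hn M (f.map (el u).1) f
    rw [hperpP (hX u) hf'p.symm, hXv, hX'v] at h
    simpa [polar_add_left, polar_smul_left, ReflectionGen.pol_self, f.2.2, f'.2.2, hef, hef',
      polar_comm Q u.1 f.1, ((mem_perp Q).mp u.2).2, polar_comm Q (a u).1 f'.1, ((mem_perp Q).mp (a u).2).2] using h
  have hU := perp_finrank Q e.2.2 f.2.2 hef
  have hU' := perp_finrank Q e'.2.2 f'.2.2 hef'
  obtain ⟨σ, m, hm0, hσ, hm⟩ := similitude_of_singular (Q.comp U.subtype) (Q.comp U'.subtype)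
    (perp_nondeg Q hQ e.2.2 f.2.2 hef) (perp_nondeg Q hQ e'.2.2 f'.2.2 hef')
    (show 5 ≤ finrank F (perp Q e.1 f.1) by omega) (show 5 ≤ finrank F (perp Q e'.1 f'.1) by omega) Ae hzero
  have hσ' : ∀ (c : F) u, a (c • u) = σ c • a u := hσ
  have hm' : ∀ u, Q (a u).1 = m * σ (Q u.1) := hm
  -- the similitude
  let pu : V → U := fun x => ⟨_, proj_mem Q e.2.2 f.2.2 hef x⟩
  let T : V → V := fun x =>
    (σ (polar Q f.1 x) * m) • e'.1 + σ (polar Q e.1 x) • f'.1 + (a (pu x)).1
  have Tadd : ∀ x y, T (x + y) = T x + T y := fun x y => by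
    have h1 : pu (x + y) = pu x + pu y := Subtype.ext (by
      simp only [pu, Submodule.coe_add, polar_add_right, add_smul]; abel)
    simp only [T, h1, aadd, Submodule.coe_add, polar_add_right, map_add, add_mul, add_smul]
    abel
  have Tsmul : ∀ (c : F) x, T (c • x) = σ c • T x := fun c x => by
    have h1 : pu (c • x) = c • pu x := Subtype.ext (by
      simp only [pu, Submodule.coe_smul, polar_smul_right, smul_eq_mul, smul_sub, smul_smul])
    simp only [T, h1, hσ', Submodule.coe_smul, polar_smul_right, smul_eq_mul, map_mul, smul_add, smul_smul,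
      mul_assoc]
  have hdec : ∀ x, x = polar Q f.1 x • e.1 + polar Q e.1 x • f.1 + (pu x).1 := fun x => by
    simp only [pu]; abel
  have TQ : ∀ x, Q (T x) = m * σ (Q x) := fun x => by
    conv_rhs => rw [hdec x, q_dec hQ hn e.2.2 f.2.2 hef]
    simp only [T, q_dec hQ hn e'.2.2 f'.2.2 hef', hm', map_add, map_mul]
    ring
  have Tpolar : ∀ x y, polar Q (T x) (T y) = m * σ (polar Q x y) := fun x y => by
    simp only [polar, ← Tadd, TQ, map_sub]; ring
  have Tinj : Function.Injective T := fun x y hxy => by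
    refine sub_eq_zero.mp (hQ.1 _ fun z => ?_)
    have h1 := Tpolar x z
    rw [hxy, Tpolar] at h1
    show polar Q (x - y) z = 0
    rw [sub_eq_add_neg, polar_add_left, polar_neg_left, σ.injective (mul_left_cancel₀ hm0 h1), add_neg_cancel]
  have Tbij : Function.Bijective T := Finite.injective_iff_bijective.mp Tinj
  have T0 : T 0 = 0 := by have := Tsmul 0 0; rwa [zero_smul, map_zero, zero_smul] at this
  let TS : Sing Q → Sing Q := fun x => ⟨T x.1, fun h => x.2.1 (Tinj (h.trans T0.symm)),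
    by rw [TQ, x.2.2, map_zero, mul_zero]⟩
  have TS_congr : ∀ {x y : Sing Q}, x.p = y.p → (TS x).p = (TS y).p := fun {x y} h => by
    obtain ⟨c, hc⟩ := Sing.p_eq_iff.mp h
    exact Sing.p_eq_iff.mpr ⟨σ c, show T x.1 = σ c • T y.1 by rw [hc, Tsmul]⟩
  have hTe : T e.1 = m • e'.1 := by
    have h1 : pu e.1 = 0 := Subtype.ext (by simp [pu, ReflectionGen.pol_self, e.2.2, polar_comm Q f.1 e.1, hef])
    have ha0 : a 0 = 0 := (map_zero Ae :)
    simp [T, h1, ha0, ReflectionGen.pol_self, e.2.2, polar_comm Q f.1 e.1, hef]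
  have hoff : ∀ u : U, (M.b (f.map (el u).1)).p = (TS (f.map (el u).1)).p := fun u => by
    refine (hX u).trans (Sing.p_eq_iff.mpr ⟨1, ?_⟩)
    rw [one_smul, hX'v]
    show _ = T (f.map (el u).1).1
    rw [hXv]
    obtain ⟨h1, h2⟩ := (mem_perp Q).mp u.2
    have c1 : polar Q f.1 (f.1 + u.1 + (-Q u.1) • e.1) = -Q u.1 := by
      simp [polar_add_right, ReflectionGen.pol_self, f.2.2, h2, polar_comm Q f.1 e.1, hef]
    have c2 : polar Q e.1 (f.1 + u.1 + (-Q u.1) • e.1) = 1 := by
      simp [polar_add_right, ReflectionGen.pol_self, e.2.2, h1, hef]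
    have c3 : pu (f.1 + u.1 + (-Q u.1) • e.1) = u := Subtype.ext (by
      simp only [pu, c1, c2, one_smul]; abel)
    simp only [T, c1, c2, c3, map_one, one_smul, map_neg, hm']
    module
  have key : ∀ x : Sing Q, (M.b x).p = (TS x).p := by
    intro x
    by_cases hex : polar Q e.1 x.1 = 0
    · obtain ⟨z, hz⟩ := Tbij.2 (M.b x).1
      have hz0 : z ≠ 0 := fun h => (M.b x).2.1 (by rw [← hz, h, T0])
      have hzQ : Q z = 0 := by
        have := TQ z
        rw [hz, (M.b x).2.2, zero_eq_mul] at this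
        simpa using this.resolve_left hm0
      let z' : Sing Q := ⟨z, hz0, hzQ⟩
      have hTz : (TS z').p = (M.b x).p := Sing.p_eq_iff.mpr ⟨1, by rw [one_smul]; exact hz⟩
      have hze : polar Q e.1 z = 0 := by
        have h1 := (b_perp hQ hn M e x).mp hex
        rw [← hz, ← he'] at h1
        have h2 := Tpolar e.1 z
        rw [hTe, polar_smul_left, h1, smul_zero, zero_eq_mul] at h2
        simpa using h2.resolve_left hm0
      have hiff : ∀ u : U, polar Q f.1 x.1 + polar Q u.1 (pu x.1).1 = 0 ↔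
          polar Q f.1 z + polar Q u.1 (pu z).1 = 0 := fun u => by
        have hval : ∀ y : V, polar Q e.1 y = 0 → polar Q (f.1 + u.1 + (-Q u.1) • e.1) y =
            polar Q f.1 y + polar Q u.1 (pu y).1 := fun y hy => by
          obtain ⟨h1, h2⟩ := (mem_perp Q).mp u.2
          simp [pu, polar_add_left, polar_smul_left, hy, sub_eq_add_neg, polar_add_right, polar_smul_right,
            polar_neg_right, polar_comm Q u.1 e.1, h1]
        rw [← hval _ hex, ← hval _ hze, ← hXv, b_perp hQ hn M, hperpP (hoff u) hTz.symm]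
        show polar Q (T (f.map (el u).1).1) (T z) = 0 ↔ _
        rw [Tpolar, mul_eq_zero, or_iff_right hm0, EmbeddingLike.map_eq_zero_iff]
      obtain ⟨r, hr⟩ : ∃ r, r = pu x.1 := ⟨_, rfl⟩
      obtain ⟨r', hr'⟩ : ∃ r', r' = pu z := ⟨_, rfl⟩
      obtain ⟨α, hα⟩ : ∃ α, α = polar Q f.1 x.1 := ⟨_, rfl⟩
      obtain ⟨γ, hγ⟩ : ∃ γ, γ = polar Q f.1 z := ⟨_, rfl⟩
      simp only [← hr, ← hr', ← hα, ← hγ] at hiff
      have dx : x.1 = α • e.1 + r.1 := by
        conv_lhs => rw [hdec x.1, hex, zero_smul, add_zero, ← hr, ← hα]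
      have dz : z = γ • e.1 + r'.1 := by
        conv_lhs => rw [hdec z, hze, zero_smul, add_zero, ← hr', ← hγ]
      by_cases h0 : r = 0
      · have hxe : x.p = e.p := Sing.p_eq_iff.mpr ⟨α, by rw [dx, h0]; simp⟩
        refine ((b_congr hQ hn M hxe).trans ?_).trans (TS_congr hxe).symm
        refine (Sing.p_eq_iff.mpr ⟨m, ?_⟩).symm
        show T e.1 = m • (M.b e).1
        rw [hTe, he']
      · obtain ⟨a₁, ha₁⟩ : ∃ a₁ : U, polar Q a₁.1 r.1 = 1 := by
          obtain ⟨y, hy⟩ : ∃ y : U, polar Q y.1 r.1 ≠ 0 := by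
            by_contra hcon
            push Not at hcon
            exact h0 ((perp_nondeg Q hQ e.2.2 f.2.2 hef).2 r fun y => by
              show polar (Q.comp U.subtype) y r = 0
              exact hcon y)
          exact ⟨(polar Q y.1 r.1)⁻¹ • y, by
            rw [Submodule.coe_smul, polar_smul_left, smul_eq_mul, inv_mul_cancel₀ hy]⟩
        have e2 : γ + polar Q ((-α) • a₁.1) r'.1 = 0 := (hiff ((-α) • a₁)).mp (by
          rw [Submodule.coe_smul, polar_smul_left, ha₁, smul_eq_mul, mul_one, add_neg_cancel])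
        obtain ⟨c, hc⟩ : ∃ c, c = polar Q a₁.1 r'.1 := ⟨_, rfl⟩
        rw [polar_smul_left, ← hc, smul_eq_mul] at e2
        have hrc : r' = c • r := by
          refine sub_eq_zero.mp ((perp_nondeg Q hQ e.2.2 f.2.2 hef).2 _ fun y => ?_)
          show polar (Q.comp U.subtype) y (r' - c • r) = 0
          show polar Q y.1 (r'.1 - c • r.1) = 0
          have e1 := (hiff ((-α - polar Q y.1 r.1) • a₁ + y)).mp (by
            rw [Submodule.coe_add, Submodule.coe_smul, polar_add_left, polar_smul_left, ha₁, smul_eq_mul]; ring)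
          rw [Submodule.coe_add, Submodule.coe_smul, polar_add_left, polar_smul_left, ← hc, smul_eq_mul] at e1
          rw [sub_eq_add_neg, polar_add_right, polar_neg_right, polar_smul_right, smul_eq_mul]
          linear_combination e1 - e2
        have hzc : z = c • x.1 := by
          rw [dz, hrc, dx, Submodule.coe_smul, show γ = c * α by linear_combination e2]
          module
        exact hTz.symm.trans (TS_congr (y := x) (Sing.p_eq_iff.mpr ⟨c, hzc⟩))
    · obtain ⟨y, hy⟩ : ∃ y, y = (polar Q e.1 x.1)⁻¹ • x.1 := ⟨_, rfl⟩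
      have hy1 : polar Q e.1 y = 1 := by rw [hy, polar_smul_right, smul_eq_mul, inv_mul_cancel₀ hex]
      have hyQ : Q y = 0 := by rw [hy, QuadraticMap.map_smul, x.2.2, smul_zero]
      have hyX : y = f.1 + (pu y).1 + (-Q (pu y).1) • e.1 := by
        have h1 := hdec y
        have h2 := q_dec hQ hn e.2.2 f.2.2 hef (polar Q f.1 y) (polar Q e.1 y) (pu y)
        rw [← h1, hyQ, hy1, mul_one] at h2
        rw [hy1, one_smul, show polar Q f.1 y = -Q (pu y).1 by linear_combination -h2] at h1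
        conv_lhs => rw [h1]
        abel
      have hxp : x.p = (f.map (el (pu y)).1).p := Sing.p_eq_iff.mpr ⟨polar Q e.1 x.1, by
        rw [hXv, ← hyX, hy, smul_inv_smul₀ hex]⟩
      exact ((b_congr hQ hn M hxp).trans (hoff _)).trans (TS_congr hxp).symm
  refine ⟨T, σ, m, hm0, Tadd, Tsmul, Tbij, TQ, fun g k hgk => ?_⟩
  let Te : V ≃+ V := AddEquiv.ofBijective (AddMonoidHom.mk' T Tadd) Tbij
  have hTsymm : ∀ (c : F) x, Te.symm (σ c • x) = c • Te.symm x := fun c x => by
    apply Te.injective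
    rw [Te.apply_symm_apply]
    show σ c • x = T (c • Te.symm x)
    rw [Tsmul]
    exact congrArg _ (Te.apply_symm_apply x).symm
  let L₀ : V →ₗ[F] V :=
    { toFun := fun x => g.1.1.symm (Te.symm (k.1.1 (T x)))
      map_add' := fun x y => by rw [Tadd, map_add, map_add, map_add]
      map_smul' := fun c x => by rw [Tsmul, map_smul, hTsymm, map_smul]; rfl }
  have hL₀ : Function.Bijective L₀ :=
    g.1.1.symm.bijective.comp (Te.symm.bijective.comp (k.1.1.bijective.comp Tbij))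
  have hTL : ∀ x, T (g.1.1 (L₀ x)) = k.1.1 (T x) := fun x => by
    show T (g.1.1 (g.1.1.symm (Te.symm (k.1.1 (T x))))) = _
    rw [LinearEquiv.apply_symm_apply]
    exact Te.apply_symm_apply _
  let L : quadIso Q := ⟨LinearEquiv.ofBijective L₀ hL₀, fun x => by
    show Q (L₀ x) = Q x
    have h := congrArg Q (hTL x)
    rw [TQ, g.1.2, k.1.2, TQ] at h
    exact σ.injective (mul_left_cancel₀ hm0 h)⟩
  obtain ⟨c, hc⟩ := OmegaSimple.scalar_of_fix Q hQ (by omega) L fun x => by
    obtain ⟨v, hv0, hv, rfl⟩ := pt_surj x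
    let v' : Sing Q := ⟨v, hv0, hv⟩
    show L • v'.p = v'.p
    rw [← Sing.map_p]
    have h1 : ((TS v').map k.1).p = (TS (v'.map g.1)).p := by
      rw [Sing.map_p, ← key, ← Sing.map_p, ← b_equiv hQ hn M v' hgk, key]
    obtain ⟨d, hd⟩ := Sing.p_eq_iff.mp h1
    change k.1.1 (T v) = d • T (g.1.1 v) at hd
    refine Sing.p_eq_iff.mpr ⟨σ.symm d, ?_⟩
    show L₀ v = σ.symm d • v
    refine g.1.1.injective (Tinj ?_)
    rw [hTL, hd, map_smul, Tsmul, σ.apply_symm_apply]
  refine ⟨σ c, fun x => ?_⟩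
  rw [← hTL x, show L₀ x = c • x from hc x, map_smul, Tsmul]

end

end CfsgLib.OrthAut
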