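import Cfsg.Agent.Lib.OrthAut.Pair
import Cfsg.Agent.Lib.StdQuadForms

/-!
A semisimilarity of the minus form lifting the Frobenius automorphism; its `f`th power is a reflection.
-/

set_option autoImplicit false
set_option linter.unusedSectionVars false
set_option linter.style.haveILetI false
set_option linter.unusedSimpArgs false

namespace CfsgLib.OrthMinus

open QuadraticMap Module CfsgLib.OrthAut CfsgLib.OrthPair CfsgLib.StdQuadForms Polynomial
open scoped Matrix

universe u v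

section Root

variable {F : Type u} [Field F] [Fintype F] {a b : F}
  (hab : ∀ z₁ z₂ : F, z₁ ^ 2 + a * z₁ * z₂ + b * z₂ ^ 2 = 0 → z₁ = 0 ∧ z₂ = 0)

include hab in
theorem no_root (t : F) : t * t - a * t + b ≠ 0 := fun h =>
  one_ne_zero (hab (-t) 1 (by linear_combination h)).2

variable (a b) in
/-- The polynomial of the anisotropic pair. -/
noncomputable def binPoly : F[X] := X ^ 2 + C (-a) * X + C b

theorem binPoly_degree : (binPoly a b).natDegree = 2 := by rw [binPoly]; compute_degree!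

include hab in
theorem binPoly_irr : Irreducible (binPoly a b) := by
  have hd := binPoly_degree (a := a) (b := b)
  rw [Polynomial.irreducible_iff_roots_eq_zero_of_degree_le_three (by omega) (by omega)]
  refine Multiset.eq_zero_of_forall_notMem fun t ht => no_root hab t ?_
  rw [Polynomial.mem_roots'] at ht
  have := ht.2
  simp [binPoly, Polynomial.IsRoot] at this
  linear_combination this

include hab in
theorem exists_root (K : Type v) [Field K] [Algebra F K] (hK : finrank F K = 2) :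
    ∃ ρ : K, ρ * ρ - algebraMap F K a * ρ + algebraMap F K b = 0 := by
  haveI := Fact.mk (binPoly_irr hab)
  haveI : Module.Finite F K := Module.finite_of_finrank_eq_succ hK
  haveI : Finite K := Module.finite_of_finite F
  have hd : finrank F (AdjoinRoot (binPoly a b)) = 2 := by
    rw [(AdjoinRoot.powerBasis (binPoly_irr hab).ne_zero).finrank, AdjoinRoot.powerBasis_dim, binPoly_degree]
  obtain ⟨e⟩ := FiniteField.nonempty_algHom_of_finrank_dvd (F := F) (K := AdjoinRoot (binPoly a b)) (L := K)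
    (by rw [hd, hK])
  refine ⟨e (AdjoinRoot.root _), ?_⟩
  have h : Polynomial.aeval (e (AdjoinRoot.root (binPoly a b))) (binPoly a b) = 0 := by
    rw [Polynomial.aeval_algHom_apply, AdjoinRoot.aeval_eq, AdjoinRoot.mk_self, map_zero]
  generalize e (AdjoinRoot.root (binPoly a b)) = r at h ⊢
  simp [binPoly] at h
  linear_combination h

variable {K : Type v} [Field K] [Algebra F K] {ρ : K}
  (hρ : ρ * ρ - algebraMap F K a * ρ + algebraMap F K b = 0)

local notation "φ" => algebraMap F K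

include hab hρ in
theorem root_notMem (t : F) : ρ ≠ φ t := by
  rintro rfl
  refine no_root hab t ((map_eq_zero φ).mp ?_)
  simp only [map_add, map_sub, map_mul]
  exact hρ

include hab hρ in
theorem coord_zero {x y : F} (h : φ x + φ y * ρ = 0) : x = 0 ∧ y = 0 := by
  by_cases hy : y = 0
  · subst hy
    exact ⟨(map_eq_zero φ).mp (by simpa using h), rfl⟩
  · refine absurd ?_ (root_notMem hab hρ (-x / y))
    rw [map_div₀, map_neg, eq_div_iff (by simpa using hy)]
    linear_combination h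

include hab hρ in
theorem coord_inj {x y x' y' : F} (h : φ x + φ y * ρ = φ x' + φ y' * ρ) : x = x' ∧ y = y' := by
  obtain ⟨h1, h2⟩ := coord_zero hab hρ (x := x - x') (y := y - y') (by
    simp only [map_sub]; linear_combination h)
  exact ⟨sub_eq_zero.mp h1, sub_eq_zero.mp h2⟩

include hab hρ in
theorem coord_surj (hK : finrank F K = 2) (z : K) : ∃ x y : F, φ x + φ y * ρ = z := by
  haveI : Module.Finite F K := Module.finite_of_finrank_eq_succ hK
  haveI : Finite K := Module.finite_of_finite F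
  haveI := Fintype.ofFinite K
  have hinj : Function.Injective fun w : F × F => φ w.1 + φ w.2 * ρ := fun w w' h =>
    Prod.ext (coord_inj hab hρ h).1 (coord_inj hab hρ h).2
  have hcard : Fintype.card (F × F) = Fintype.card K := by
    rw [Fintype.card_prod, Module.card_eq_pow_finrank (K := F) (V := K), hK, pow_two]
  obtain ⟨w, hw⟩ := ((Fintype.bijective_iff_injective_and_card _).mpr ⟨hinj, hcard⟩).surjective z
  exact ⟨w.1, w.2, hw⟩

theorem pow_card_map (t : F) : (φ t) ^ Fintype.card F = φ t := by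
  rw [← map_pow, FiniteField.pow_card]

include hab hρ in
theorem root_pow_card : ρ ^ Fintype.card F = φ a - ρ := by
  classical
  obtain ⟨p, hp⟩ := CharP.exists F
  obtain ⟨n, hpp, hq⟩ := FiniteField.card F p
  haveI := Fact.mk hpp
  haveI : CharP K p := (Algebra.charP_iff F K p).mp hp
  have hne : ρ ^ Fintype.card F ≠ ρ := fun h => by
    have hP : (X ^ Fintype.card F - X : K[X]) ≠ 0 := FiniteField.X_pow_card_sub_X_ne_zero K Fintype.one_lt_card
    let S : Finset K := insert ρ (Finset.univ.image fun t : F => φ t)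
    have hS : S.card = Fintype.card F + 1 := by
      rw [Finset.card_insert_of_notMem (by
        intro hm
        obtain ⟨t, -, ht⟩ := Finset.mem_image.mp hm
        exact root_notMem hab hρ t ht.symm), Finset.card_image_of_injective _ (φ).injective, Finset.card_univ]
    have hle : S.card ≤ (X ^ Fintype.card F - X : K[X]).natDegree :=
      Polynomial.card_le_degree_of_subset_roots fun x hx => by
        rw [Polynomial.mem_roots hP]
        rcases Finset.mem_insert.mp hx with rfl | hx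
        · simp [h]
        · obtain ⟨t, -, rfl⟩ := Finset.mem_image.mp hx
          simp [pow_card_map]
    rw [hS, FiniteField.X_pow_card_sub_X_natDegree_eq K Fintype.one_lt_card] at hle
    omega
  have hroot : ρ ^ Fintype.card F * ρ ^ Fintype.card F - φ a * ρ ^ Fintype.card F + φ b = 0 := by
    have h := congrArg (fun z : K => z ^ Fintype.card F) hρ
    simp only [hq, add_pow_char_pow, sub_pow_char_pow, zero_pow (pow_ne_zero _ hpp.ne_zero), mul_pow] at h
    rw [← hq, pow_card_map a, pow_card_map b] at h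
    exact h
  have h0 : (ρ ^ Fintype.card F - ρ) * (ρ ^ Fintype.card F + ρ - φ a) = 0 := by linear_combination hroot - hρ
  rcases mul_eq_zero.mp h0 with h | h
  · exact absurd (sub_eq_zero.mp h) hne
  · linear_combination h

include hab hρ in
theorem norm_eq (z₀ z₁ : F) :
    (φ z₀ + φ z₁ * ρ) ^ (Fintype.card F + 1) = φ (z₀ ^ 2 + a * z₀ * z₁ + b * z₁ ^ 2) := by
  obtain ⟨p, hp⟩ := CharP.exists F
  obtain ⟨n, hpp, hq⟩ := FiniteField.card F p
  haveI := Fact.mk hpp
  haveI : CharP K p := (Algebra.charP_iff F K p).mp hp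
  have hr := root_pow_card hab hρ
  have h0 := pow_card_map (K := K) z₀
  have h1 := pow_card_map (K := K) z₁
  rw [hq] at hr h0 h1
  rw [pow_succ, hq, add_pow_char_pow, mul_pow, hr, h0, h1]
  simp only [map_add, map_mul, map_pow]
  linear_combination (-(φ z₁) ^ 2) * hρ

end Root

section Form

variable {F : Type u} [Field F] [Fintype F] {m : ℕ} {a b : F}

/-- The vector of the reflection. -/
def w₀ (a : F) : (Fin m ⊕ Fin m) ⊕ Fin 2 → F := Sum.elim 0 ![-a, 2]

theorem Qm_w₀ : Qm m a b (w₀ a) = 4 * b - a * a := by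
  simp [Qm_apply, Cfsg.quadFormMinus, w₀]; ring

theorem polar_w₀ (x : (Fin m ⊕ Fin m) ⊕ Fin 2 → F) :
    polar (Qm m a b) (w₀ a) x = (4 * b - a * a) * x (Sum.inr 1) := by
  simp only [polar, Qm_apply, Cfsg.quadFormMinus, w₀, Pi.add_apply, Sum.elim_inl, Sum.elim_inr, Pi.zero_apply,
    zero_add, zero_mul, Finset.sum_const_zero, Matrix.cons_val_zero, Matrix.cons_val_one]
  ring

theorem disc_ne (hab : ∀ z₁ z₂ : F, z₁ ^ 2 + a * z₁ * z₂ + b * z₂ ^ 2 = 0 → z₁ = 0 ∧ z₂ = 0) :
    4 * b - a * a ≠ 0 := by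
  intro h
  by_cases h2 : (2 : F) = 0
  · have ha : a = 0 := mul_self_eq_zero.mp (by linear_combination -h + 2 * b * h2)
    obtain ⟨t, ht⟩ := FiniteForms.sqrt_charTwo h2 b
    refine no_root hab t ?_
    rw [ha, ← neg_neg (t * t), ht]
    linear_combination t * t * h2
  · refine one_ne_zero (hab (-(a / 2)) 1 ?_).2
    field_simp
    linear_combination h

/-- A semilinear map acting on vectors. -/
def act (γ : SL F ((Fin m ⊕ Fin m) ⊕ Fin 2)) (x : (Fin m ⊕ Fin m) ⊕ Fin 2 → F) :
    (Fin m ⊕ Fin m) ⊕ Fin 2 → F := γ.left.1 *ᵥ σv γ.right x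

theorem σv_one (x : (Fin m ⊕ Fin m) ⊕ Fin 2 → F) : σv (1 : RingAut F) x = x := rfl

theorem act_mul (γ δ : SL F ((Fin m ⊕ Fin m) ⊕ Fin 2)) (x : (Fin m ⊕ Fin m) ⊕ Fin 2 → F) :
    act (γ * δ) x = act γ (act δ x) := by
  simp only [act, SemidirectProduct.mul_left, SemidirectProduct.mul_right, Units.val_mul, σv_mulVec,
    Matrix.mulVec_mulVec, σA_val]
  rfl

theorem orderOf_frob {p f : ℕ} [Fact p.Prime] [CharP F p] (hf : 1 ≤ f) (hF : Fintype.card F = p ^ f)
    (σ : RingAut F) (hσ : ∀ x, σ x = x ^ p) :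
    orderOf σ = f ∧ ∀ (k : ℕ) (x : F), (σ ^ k) x = x ^ p ^ k := by
  have hpow : ∀ (k : ℕ) (x : F), (σ ^ k) x = x ^ p ^ k := by
    intro k
    induction k with
    | zero => intro x; simp
    | succ k ih =>
      intro x
      rw [pow_succ', RingAut.mul_apply, ih, hσ, ← pow_mul, pow_succ]
  refine ⟨?_, hpow⟩
  rw [orderOf_eq_iff (by omega)]
  refine ⟨RingEquiv.ext fun x => ?_, fun k hk hk0 h => ?_⟩
  · rw [hpow, ← hF, FiniteField.pow_card]; rfl
  · classical
    have hp1 := (Fact.out : p.Prime).one_lt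
    have hP := FiniteField.X_pow_card_sub_X_ne_zero F (Nat.one_lt_pow (n := k) (by omega) hp1)
    have hle : (Finset.univ : Finset F).card ≤ (X ^ p ^ k - X : F[X]).natDegree :=
      Polynomial.card_le_degree_of_subset_roots fun x _ => by
        rw [Polynomial.mem_roots hP]
        simp [← hpow, h]
    rw [Finset.card_univ, hF, FiniteField.X_pow_card_sub_X_natDegree_eq F (Nat.one_lt_pow (by omega) hp1)] at hle
    exact absurd hle (not_le.mpr (Nat.pow_lt_pow_right hp1 hk))

/-- A lift of the Frobenius automorphism whose `f`th power is a reflection. -/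
theorem exists_frob {p f : ℕ} [Fact p.Prime] (hf : 1 ≤ f) (hF : Fintype.card F = p ^ f)
    (hab : ∀ z₁ z₂ : F, z₁ ^ 2 + a * z₁ * z₂ + b * z₂ ^ 2 = 0 → z₁ = 0 ∧ z₂ = 0) :
    ∃ (γ : ΓO (Qm m a b)) (r : PGO.GO (Qm m a b)), orderOf γ.1.right = f ∧
      r.1.1 = Cfsg.reflectionMatrix (⇑(Qm m a b)) (w₀ a) ∧ γ ^ f = ofGO r := by
  classical
  haveI : CharP F p := charP_of_card_eq_prime_pow hF
  haveI := Fact.mk (binPoly_irr hab)
  let K := AdjoinRoot (binPoly a b)
  have hK : finrank F K = 2 := by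
    rw [(AdjoinRoot.powerBasis (binPoly_irr hab).ne_zero).finrank, AdjoinRoot.powerBasis_dim, binPoly_degree]
  obtain ⟨ρ, hρ⟩ := exists_root hab K hK
  haveI : CharP K p := (Algebra.charP_iff F K p).mp ‹_›
  let φ := algebraMap F K
  obtain ⟨u, v, huv⟩ := coord_surj hab hρ hK (ρ ^ p)
  have hv : v ≠ 0 := by
    intro hv0
    rw [hv0, map_zero, zero_mul, add_zero] at huv
    have h := congrArg (fun z : K => z ^ p ^ (f - 1)) huv
    simp only [← pow_mul, ← pow_succ', Nat.sub_add_cancel hf, ← hF, root_pow_card hab hρ, ← map_pow] at h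
    exact root_notMem hab hρ (a - u ^ p ^ (f - 1)) (by rw [map_sub]; linear_combination h)
  let g₂ : Matrix (Fin 2) (Fin 2) F := !![1, u; 0, v]
  let M : Matrix ((Fin m ⊕ Fin m) ⊕ Fin 2) ((Fin m ⊕ Fin m) ⊕ Fin 2) F := Matrix.fromBlocks 1 0 0 g₂
  have hdet : M.det ≠ 0 := by
    simp [M, g₂, Matrix.det_fromBlocks_zero₂₁, Matrix.det_fin_two, hv]
  obtain ⟨σ, hσ⟩ : ∃ σ : RingAut F, ∀ x, σ x = x ^ p :=
    ⟨frobeniusEquiv F p, fun x => frobeniusEquiv_apply F p x⟩
  obtain ⟨hord, hpow⟩ := orderOf_frob hf hF σ hσ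
  let γ₀ : SL F ((Fin m ⊕ Fin m) ⊕ Fin 2) := ⟨Matrix.GeneralLinearGroup.mkOfDetNeZero M hdet, σ⟩
  have hl : ∀ x i, act γ₀ x (Sum.inl i) = x (Sum.inl i) ^ p := fun x i => by
    show (M *ᵥ σv σ x) (Sum.inl i) = _
    simp [M, Matrix.fromBlocks_mulVec, σv, hσ]
  have hb : ∀ x, φ (act γ₀ x (Sum.inr 0)) + φ (act γ₀ x (Sum.inr 1)) * ρ =
      (φ (x (Sum.inr 0)) + φ (x (Sum.inr 1)) * ρ) ^ p := fun x => by
    show φ ((M *ᵥ σv σ x) (Sum.inr 0)) + φ ((M *ᵥ σv σ x) (Sum.inr 1)) * ρ = _
    rw [add_pow_char, mul_pow, ← huv]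
    simp [M, g₂, Matrix.fromBlocks_mulVec, σv, hσ, Matrix.mulVec, dotProduct, Fin.sum_univ_two, φ]
    ring
  have hmem : γ₀ ∈ ΓO (Qm m a b) := by
    refine ⟨1, fun x => (φ).injective ?_⟩
    rw [Units.val_one, one_mul, hσ, map_pow, Qm_apply, Qm_apply]
    show φ (Cfsg.quadFormMinus m F a b (act γ₀ x)) = _
    have e := norm_eq hab hρ (act γ₀ x (Sum.inr 0)) (act γ₀ x (Sum.inr 1))
    rw [hb, ← pow_mul, mul_comm p, pow_mul, norm_eq hab hρ] at e
    simp only [Cfsg.quadFormMinus, map_add, map_sum, hl, map_mul, map_pow, φ] at e ⊢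
    rw [add_pow_char, sum_pow_char]
    simp only [mul_pow]
    linear_combination -e
  have hiter : ∀ (k : ℕ) x, (∀ i, act (γ₀ ^ k) x (Sum.inl i) = x (Sum.inl i) ^ p ^ k) ∧
      φ (act (γ₀ ^ k) x (Sum.inr 0)) + φ (act (γ₀ ^ k) x (Sum.inr 1)) * ρ =
        (φ (x (Sum.inr 0)) + φ (x (Sum.inr 1)) * ρ) ^ p ^ k := by
    intro k
    induction k with
    | zero =>
      intro x
      have e : act (1 : SL F ((Fin m ⊕ Fin m) ⊕ Fin 2)) x = x := by simp [act, σv_one]
      simp [e]
    | succ k ih =>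
      intro x
      rw [pow_succ', act_mul]
      refine ⟨fun i => ?_, ?_⟩
      · rw [hl, (ih x).1, ← pow_mul, pow_succ]
      · rw [hb, (ih x).2, ← pow_mul, pow_succ]
  obtain ⟨r, hr⟩ := exists_ofGO (γ := (⟨γ₀, hmem⟩ : ΓO (Qm m a b)) ^ f) (by
    rw [SubmonoidClass.coe_pow, show (γ₀ ^ f).right = σ ^ f from map_pow SemidirectProduct.rightHom γ₀ f, ← hord,
      pow_orderOf_eq_one])
  refine ⟨⟨γ₀, hmem⟩, r, hord, Matrix.ext_of_mulVec_single fun j => ?_, hr⟩
  obtain ⟨x, hx⟩ : ∃ x, x = (Pi.single j 1 : (Fin m ⊕ Fin m) ⊕ Fin 2 → F) := ⟨_, rfl⟩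
  rw [← hx]
  have e : r.1.1 *ᵥ x = act (γ₀ ^ f) x := by
    rw [← SubmonoidClass.coe_pow (⟨γ₀, hmem⟩ : ΓO (Qm m a b)), hr]
    simp [act, σv_one, ofGO_left, ofGO_right]
  obtain ⟨h1, h2⟩ := hiter f x
  rw [e, PolarVec.reflection_mulVec, polar_w₀, Qm_w₀, ← mul_assoc, inv_mul_cancel₀ (disc_ne hab), one_mul]
  rw [← hF] at h1 h2
  rw [add_pow_card_eq hab hρ] at h2
  obtain ⟨e0, e1⟩ := coord_inj hab hρ (x' := x (Sum.inr 0) + a * x (Sum.inr 1)) (y' := -x (Sum.inr 1)) (by
    rw [h2]; simp only [map_add, map_mul, map_neg, φ]; ring)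
  funext i
  rcases i with i | i
  · rw [h1, FiniteField.pow_card]; simp [w₀]
  · fin_cases i
    · show _ = (x + (-x (Sum.inr 1)) • (w₀ a : (Fin m ⊕ Fin m) ⊕ Fin 2 → F)) (Sum.inr 0)
      simp only [Fin.zero_eta, e0]
      simp [w₀]; ring
    · show _ = (x + (-x (Sum.inr 1)) • (w₀ a : (Fin m ⊕ Fin m) ⊕ Fin 2 → F)) (Sum.inr 1)
      simp only [Fin.mk_one, e1]
      simp [w₀]; ring
where
  add_pow_card_eq {a b : F} {K : Type u} [Field K] [Algebra F K] {ρ : K}
      (hab : ∀ z₁ z₂ : F, z₁ ^ 2 + a * z₁ * z₂ + b * z₂ ^ 2 = 0 → z₁ = 0 ∧ z₂ = 0)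
      (hρ : ρ * ρ - algebraMap F K a * ρ + algebraMap F K b = 0) {x y : F} :
      (algebraMap F K x + algebraMap F K y * ρ) ^ Fintype.card F =
        algebraMap F K x + algebraMap F K y * (algebraMap F K a - ρ) := by
    obtain ⟨p, hp⟩ := CharP.exists F
    obtain ⟨n, hpp, hq⟩ := FiniteField.card F p
    haveI := Fact.mk hpp
    haveI : CharP K p := (Algebra.charP_iff F K p).mp hp
    have hr := root_pow_card hab hρ
    have h0 := pow_card_map (K := K) x
    have h1 := pow_card_map (K := K) y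
    rw [hq] at hr h0 h1 ⊢
    rw [add_pow_char_pow, mul_pow, hr, h0, h1]

end Form

end CfsgLib.OrthMinus
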