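import Cfsg.Agent.Lib.OrthAut.Transport
import Cfsg.Agent.Lib.StdQuadForms
import Cfsg.Agent.Lib.PGO.Proper

/-!
The Witt index of the minus form and the automorphism theorem for it.
-/

set_option autoImplicit false
set_option linter.style.haveILetI false

namespace CfsgLib.OrthAut

open QuadraticMap Module
open CfsgLib.StdQuadForms

variable {F : Type*} [Field F] [Fintype F]

theorem minus_singular_le {m : ℕ} {a b : F}
    (hab : ∀ z₁ z₂ : F, z₁ ^ 2 + a * z₁ * z₂ + b * z₂ ^ 2 = 0 → z₁ = 0 ∧ z₂ = 0)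
    (W : Submodule F ((Fin m ⊕ Fin m) ⊕ Fin 2 → F)) (hW : ∀ w ∈ W, Qm m a b w = 0) : finrank F W ≤ m := by
  classical
  let py : ((Fin m ⊕ Fin m) ⊕ Fin 2 → F) →ₗ[F] (Fin m → F) := LinearMap.funLeft F F (fun i => Sum.inl (Sum.inr i))
  let px : ((Fin m ⊕ Fin m) ⊕ Fin 2 → F) →ₗ[F] (Fin m → F) := LinearMap.funLeft F F (fun i => Sum.inl (Sum.inl i))
  obtain ⟨K, hK⟩ : ∃ K, K = W ⊓ LinearMap.ker py := ⟨_, rfl⟩
  have hKmem : ∀ k, k ∈ K → k ∈ W ∧ py k = 0 := fun k hk => by rw [hK] at hk; exact ⟨hk.1, hk.2⟩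
  have hz : ∀ k ∈ K, ∀ j : Fin 2, k (Sum.inr j) = 0 := fun k hk => by
    have h := hW k (hKmem k hk).1
    have hy : ∀ i, k (Sum.inl (Sum.inr i)) = 0 := fun i => congrFun (hKmem k hk).2 i
    rw [Qm_apply] at h
    simp [Cfsg.quadFormMinus, hy] at h
    obtain ⟨h0, h1⟩ := hab _ _ h
    exact Fin.forall_fin_two.mpr ⟨h0, h1⟩
  have hinj : Function.Injective (px.domRestrict K) := by
    refine (injective_iff_map_eq_zero _).mpr fun k hk => Subtype.ext (funext fun s => ?_)
    have hk2 := hKmem _ k.2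
    rcases s with (i | i) | j
    · exact congrFun hk i
    · exact congrFun hk2.2 i
    · exact hz k.1 k.2 j
  -- a totally singular subspace of the hyperbolic part
  let Φ : K.map px × W.map py →ₗ[F] (Fin m ⊕ Fin m → F) :=
    { toFun := fun z => Sum.elim z.1.1 z.2.1
      map_add' := fun z z' => funext fun s => by rcases s with i | i <;> rfl
      map_smul' := fun c z => funext fun s => by rcases s with i | i <;> rfl }
  have hΦ : Function.Injective Φ := fun z z' h => Prod.ext
    (Subtype.ext (funext fun i => congrFun h (Sum.inl i))) (Subtype.ext (funext fun i => congrFun h (Sum.inr i)))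
  have hsing : ∀ v ∈ LinearMap.range Φ, Lagrangian.Qp m F v = 0 := by
    rintro - ⟨⟨⟨-, ⟨k, hk, rfl⟩⟩, ⟨-, ⟨w, hw, rfl⟩⟩⟩, rfl⟩
    rw [Lagrangian.Qp_apply]
    have hkW : k ∈ W := (hKmem k hk).1
    have hy : ∀ i, k (Sum.inl (Sum.inr i)) = 0 := fun i =>
      congrFun (hKmem k hk).2 i
    have e := hW _ (add_mem hkW hw)
    have e2 := hW _ hw
    rw [Qm_apply] at e e2
    simp [Cfsg.quadFormMinus, hy, hz k hk, add_mul, Finset.sum_add_distrib] at e e2
    show Cfsg.quadFormPlus m F _ = 0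
    simp [Cfsg.quadFormPlus, Φ, px, py, LinearMap.funLeft_apply]
    linear_combination e - e2
  have h1 := PGO.singular_le (Q := Lagrangian.Qp m F) Lagrangian.Qp_nondeg (LinearMap.range Φ) hsing
  rw [LinearMap.finrank_range_of_inj hΦ, Module.finrank_prod, Fintype.card_sum, Fintype.card_fin] at h1
  have h2 : finrank F (K.map px) = finrank F K := by
    rw [← LinearMap.range_domRestrict, LinearMap.finrank_range_of_inj hinj]
  have h3 := LinearMap.finrank_range_add_finrank_ker (py.domRestrict W)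
  rw [LinearMap.range_domRestrict] at h3
  have h4 : finrank F (LinearMap.ker (py.domRestrict W)) = finrank F K := by
    rw [hK]
    rw [LinearMap.ker_domRestrict]
    rw [← Submodule.map_comap_subtype, Submodule.finrank_map_subtype_eq]
  omega

/-- The automorphism theorem for the minus form. -/
theorem gamma_minus {m : ℕ} (hm : 3 ≤ m) (a b : F)
    (hab : ∀ z₁ z₂ : F, z₁ ^ 2 + a * z₁ * z₂ + b * z₂ ^ 2 = 0 → z₁ = 0 ∧ z₂ = 0) :
    Cfsg.gammaPOmega F (Cfsg.quadFormMinus m F a b) = ⊤ := by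
  have hc : Fintype.card ((Fin m ⊕ Fin m) ⊕ Fin 2) = 2 * m + 2 := by simp; omega
  refine gamma_top (Qm m a b) (fun v => (Qm_apply m a b v).symm) (Qm_nondeg m hab) (by rw [hc]; omega)
    (Or.inl fun W hW => ?_)
  have := minus_singular_le hab W hW
  omega

end CfsgLib.OrthAut
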