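import Cfsg.Agent.Lib.OrthAut.MinusFrob
import Cfsg.Agent.Lib.OrthAut.WittIndex
import Cfsg.Agent.Lib.PGO.Inndiag
import Cfsg.Agent.Lib.Chev.Aut.FieldCyclic

/-!
The outer automorphism groups of the orthogonal groups of minus type.
-/

set_option autoImplicit false
set_option linter.unusedSectionVars false
set_option linter.style.haveILetI false
set_option linter.unusedSimpArgs false
set_option maxHeartbeats 1600000

namespace CfsgLib.OrthMinus

open QuadraticMap Module CfsgLib.OrthAut CfsgLib.OrthPair CfsgLib.StdQuadForms CfsgLib.SpinorNorm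
  CfsgLib.SpinorMatrix CfsgLib.WittExtension
open CfsgLib.OmegaList (RP QP)
open scoped Matrix

section General

variable {F : Type*} [Field F] [Fintype F] {ι : Type} [Fintype ι] [DecidableEq ι] {Q : QuadraticForm F (ι → F)}
  (hQ : (polarBilin Q).Nondegenerate) (hn : 7 ≤ Fintype.card ι)

include hQ hn in
theorem ker_le : (PGO.Θ Q).ker ≤ PGO.Ns Q := fun g hg => by
  obtain ⟨c, hc⟩ := (Θ_eq_one hQ hn g).mp hg
  exact ⟨c, 1, one_mem _, by rw [hc, mul_one]⟩

include hQ hn in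
/-- The similitudes modulo inner ones inside the outer automorphism group. -/
theorem exists_outer
    (hmax : (∀ W : Submodule F (ι → F), (∀ a ∈ W, Q a = 0) → 2 * finrank F W < Fintype.card ι) ∨
      10 ≤ Fintype.card ι) :
    ∃ (π : Cfsg.Out (Cfsg.POmega F ⇑Q) →* RingAut F) (j : PGO.GO Q ⧸ PGO.Ns Q →* Cfsg.Out (Cfsg.POmega F ⇑Q)),
      Function.Injective j ∧ j.range = π.ker ∧ (∀ γ : ΓO Q, π (QuotientGroup.mk (Ψ γ)) = γ.1.right) ∧
        ∀ g : PGO.GO Q, j (QuotientGroup.mk g) = QuotientGroup.mk (Ψ (ofGO g)) := by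
  obtain ⟨π, hk, hπ⟩ := OrthPair.exists_fieldPart hQ hn hmax
  have hle : Cfsg.Inn (Cfsg.POmega F ⇑Q) ≤ π.ker := by
    rw [hk, PGO.inn_eq]; exact Subgroup.map_le_range _ _
  let π' : Cfsg.Out (Cfsg.POmega F ⇑Q) →* RingAut F := QuotientGroup.lift _ π hle
  have hN : PGO.Ns Q ≤ (Cfsg.Inn (Cfsg.POmega F ⇑Q)).comap (PGO.Θ Q) := fun g hg => by
    rw [PGO.inn_eq]; exact ⟨g, hg, rfl⟩
  let j : PGO.GO Q ⧸ PGO.Ns Q →* Cfsg.Out (Cfsg.POmega F ⇑Q) := QuotientGroup.map _ _ (PGO.Θ Q) hN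
  refine ⟨π', j, (injective_iff_map_eq_one j).mpr fun a ha => ?_, ?_, hπ, fun g => ?_⟩
  · induction a using QuotientGroup.induction_on with
    | _ g =>
      rw [show j (QuotientGroup.mk g) = QuotientGroup.mk (PGO.Θ Q g) from rfl, QuotientGroup.eq_one_iff, PGO.inn_eq]
        at ha
      obtain ⟨k, hk, e⟩ := ha
      rw [QuotientGroup.eq_one_iff]
      have h1 : k⁻¹ * g ∈ PGO.Ns Q := ker_le hQ hn (by rw [MonoidHom.mem_ker, map_mul, map_inv, e, inv_mul_cancel])
      simpa using mul_mem hk h1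
  · ext x
    induction x using QuotientGroup.induction_on with
    | _ β =>
      rw [MonoidHom.mem_ker, show π' (QuotientGroup.mk β) = π β from rfl, ← MonoidHom.mem_ker, hk]
      constructor
      · rintro ⟨a, ha⟩
        induction a using QuotientGroup.induction_on with
        | _ g =>
          rw [show j (QuotientGroup.mk g) = QuotientGroup.mk (PGO.Θ Q g) from rfl, QuotientGroup.eq] at ha
          have h1 := (Subgroup.map_le_range (PGO.Θ Q) _) ((PGO.inn_eq Q) ▸ ha)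
          simpa using mul_mem (⟨g, rfl⟩ : PGO.Θ Q g ∈ (PGO.Θ Q).range) h1
      · rintro ⟨g, rfl⟩
        exact ⟨QuotientGroup.mk g, rfl⟩
  · rw [Ψ_ofGO]; rfl

/-- Similitudes with square multiplier. -/
def Msq (Q : QuadraticForm F (ι → F)) (g : PGO.GO Q) : Prop :=
  ∃ t : F, t ≠ 0 ∧ ∀ v, Q (g.1.1 *ᵥ v) = t * t * Q v

include hQ hn in
theorem mult_conj {γ : ΓO Q} {x y : PGO.GO Q}
    (hy : y.1 = γ.1.left * σA F ι γ.1.right x.1 * γ.1.left⁻¹) {c : F} (hc : ∀ v, Q (x.1.1 *ᵥ v) = c * Q v) :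
    ∀ w, Q (y.1.1 *ᵥ w) = γ.1.right c * Q w := by
  obtain ⟨d, hd⟩ := mem_ΓO.mp γ.2
  intro w
  obtain ⟨u, hu⟩ : ∃ u, γ.1.left.1 *ᵥ σv γ.1.right u = w :=
    ⟨σv γ.1.right.symm ((γ.1.left⁻¹).1 *ᵥ w), by
      rw [show σv γ.1.right (σv γ.1.right.symm ((γ.1.left⁻¹).1 *ᵥ w)) = (γ.1.left⁻¹).1 *ᵥ w from
        funext fun i => γ.1.right.apply_symm_apply _, Matrix.mulVec_mulVec, Units.mul_inv, Matrix.one_mulVec]⟩
  subst hu
  rw [hy, Units.val_mul, Units.val_mul, Matrix.mulVec_mulVec, Matrix.mul_assoc, Units.inv_mul, Matrix.mul_one,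
    ← Matrix.mulVec_mulVec, σA_val, ← σv_mulVec]
  show Q (γ.1.left.1 *ᵥ fun i => γ.1.right ((x.1.1 *ᵥ u) i)) =
    γ.1.right c * Q (γ.1.left.1 *ᵥ fun i => γ.1.right (u i))
  rw [hd, hd, hc, map_mul]
  ring

theorem det_conj {γ : ΓO Q} {x y : PGO.GO Q}
    (hy : y.1 = γ.1.left * σA F ι γ.1.right x.1 * γ.1.left⁻¹) : y.1.1.det = γ.1.right x.1.1.det := by
  rw [hy, Units.val_mul, Units.val_mul, Matrix.det_units_conj, σA_val]
  exact (RingHom.map_det γ.1.right.toRingHom x.1.1).symm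

end General

section DihedralAut

theorem dihedral_aut_pow (φ : MulAut (DihedralGroup 4)) : φ ^ 4 = 1 := by
  have h4 : ∀ d : DihedralGroup 4, d * d ≠ 1 → d = .r 1 ∨ d = .r 3 := by decide
  have hr : φ (.r 1) = .r 1 ∨ φ (.r 1) = .r 3 := h4 _ (by
    rw [← map_mul, Ne, EmbeddingLike.map_eq_one_iff]; decide)
  have hri : ∀ i : ZMod 4, φ (.r i) = φ (.r 1) ^ i.val := fun i => by
    rw [← map_pow, DihedralGroup.r_one_pow, ZMod.natCast_zmod_val]
  have h3 : ∀ i : ZMod 4, (DihedralGroup.r 3 : DihedralGroup 4) ^ i.val = .r (-i) := by decide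
  have hsum : ∀ k i : ZMod 4, k + (k + (k + (k + i))) = i ∧ k - (k - (k - (k - i))) = i := by decide
  rcases hr with e | e
  · have hR : ∀ i, φ (.r i) = .r i := fun i => by rw [hri, e, DihedralGroup.r_one_pow, ZMod.natCast_zmod_val]
    obtain ⟨k, hk⟩ : ∃ k, φ (.sr 0) = .sr k := by
      cases h : φ (.sr 0) with
      | sr k => exact ⟨k, rfl⟩
      | r k => exact absurd (φ.injective (h.trans (hR k).symm)) (by simp)
    have hS : ∀ i, φ (.sr i) = .sr (k + i) := fun i => by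
      have h0 : (DihedralGroup.sr i : DihedralGroup 4) = .sr 0 * .r i := by simp
      rw [h0, map_mul, hk, hR, DihedralGroup.sr_mul_r]
    refine MulEquiv.ext fun d => ?_
    show φ (φ (φ (φ d))) = d
    cases d with
    | r i => simp only [hR]
    | sr i => simp only [hS, (hsum k i).1]
  · have hR : ∀ i, φ (.r i) = .r (-i) := fun i => by rw [hri, e, h3]
    obtain ⟨k, hk⟩ : ∃ k, φ (.sr 0) = .sr k := by
      cases h : φ (.sr 0) with
      | sr k => exact ⟨k, rfl⟩
      | r k => exact absurd (φ.injective (h.trans (by rw [hR, neg_neg] : _ = φ (.r (-k))))) (by simp)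
    have hS : ∀ i, φ (.sr i) = .sr (k - i) := fun i => by
      have h0 : (DihedralGroup.sr i : DihedralGroup 4) = .sr 0 * .r i := by simp
      rw [h0, map_mul, hk, hR, DihedralGroup.sr_mul_r, sub_eq_add_neg]
    refine MulEquiv.ext fun d => ?_
    show φ (φ (φ (φ d))) = d
    cases d with
    | r i => simp only [hR, neg_neg]
    | sr i => simp only [hS, (hsum k i).2]

end DihedralAut

section Minus

universe u

variable {F : Type u} [Field F] [Fintype F] {m : ℕ} {a b : F}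
  (hm : 3 ≤ m) (hab : ∀ z₁ z₂ : F, z₁ ^ 2 + a * z₁ * z₂ + b * z₂ ^ 2 = 0 → z₁ = 0 ∧ z₂ = 0)

include hm in
theorem hn_minus : 7 ≤ Fintype.card ((Fin m ⊕ Fin m) ⊕ Fin 2) := by simp; omega

include hm hab in
theorem hmax_minus : (∀ W : Submodule F ((Fin m ⊕ Fin m) ⊕ Fin 2 → F), (∀ x ∈ W, Qm m a b x = 0) →
    2 * finrank F W < Fintype.card ((Fin m ⊕ Fin m) ⊕ Fin 2)) ∨ 10 ≤ Fintype.card ((Fin m ⊕ Fin m) ⊕ Fin 2) :=
  Or.inl fun W hW => by
    have := minus_singular_le hab W hW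
    simp; omega

include hm hab in
theorem hc_minus : Subgroup.closure (Refl (Qm m a b)) = ⊤ :=
  hc_of _ (Qm_nondeg m hab) (Or.inr (by simp; omega))

include hab in
theorem w₀_ne : Qm m a b (w₀ a) ≠ 0 := by rw [Qm_w₀]; exact disc_ne hab

include hm hab in
theorem refl_notMem_Ns {r : PGO.GO (Qm m a b)} {v : (Fin m ⊕ Fin m) ⊕ Fin 2 → F} (hv : Qm m a b v ≠ 0)
    (hr : r.1.1 = Cfsg.reflectionMatrix (⇑(Qm m a b)) v) : r ∉ PGO.Ns (Qm m a b) := by
  rintro ⟨c, _, ⟨w, hw, rfl⟩, e⟩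
  replace e : r.1 = PGO.sc c * w.1 := e
  obtain ⟨vs, hvs, hvm, he, -⟩ := OmegaList.list_of_mem _ (hc_minus hm hab) (Qm_nondeg m hab) w hw
  obtain ⟨o, ho⟩ := OmegaList.exists_iso (Qm m a b) [v] (by simp [hv])
  have hro : r.1 = o.1 := Units.ext (by rw [hr, ho]; simp [RP])
  have hoo : o ∉ Cfsg.Omega F ⇑(Qm m a b) := fun h => by
    have := ((OmegaList.omega_iff_list _ (hc_minus hm hab) (Qm_nondeg m hab) o [v] (by simp [hv]) ho).mp h).1
    simp at this
  have hcc : (c : F) * c = 1 := by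
    have h1 : Qm m a b (o.1.1 *ᵥ v) = Qm m a b v := o.2 v v
    have h3 : Qm m a b (w.1.1 *ᵥ v) = Qm m a b v := w.2 v v
    rw [← hro, e, Units.val_mul, ← Matrix.mulVec_mulVec, PGO.sc_mulVec, QuadraticMap.map_smul, h3, smul_eq_mul]
      at h1
    exact mul_right_cancel₀ hv (h1.trans (one_mul _).symm)
  by_cases h2 : (2 : F) = 0
  · have hc1 : (c : F) = 1 := by
      refine sub_eq_zero.mp (mul_self_eq_zero.mp ?_)
      linear_combination hcc + (1 - (c : F)) * h2
    rw [Units.val_eq_one.mp hc1, map_one, one_mul] at e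
    exact hoo (by rwa [show o = w from Subtype.ext (hro.symm.trans e)])
  · have hdet := congrArg (fun g : GL ((Fin m ⊕ Fin m) ⊕ Fin 2) F => g.1.det) e
    simp only [Units.val_mul, Matrix.det_mul, PGO.sc_val, Matrix.det_smul, Matrix.det_one, mul_one, hvm,
      PGO.Data.det_RP _ hvs, he.neg_one_pow] at hdet
    rw [hro, ho, PGO.Data.det_RP _ (by simp [hv]), List.length_singleton, pow_one,
      show Fintype.card ((Fin m ⊕ Fin m) ⊕ Fin 2) = 2 * (m + 1) by simp; omega, pow_mul, pow_two, hcc, one_pow]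
      at hdet
    exact h2 (by linear_combination -hdet)

include hm hab in
theorem refl_sq {r : PGO.GO (Qm m a b)} {v : (Fin m ⊕ Fin m) ⊕ Fin 2 → F} (hv : Qm m a b v ≠ 0)
    (hr : r.1.1 = Cfsg.reflectionMatrix (⇑(Qm m a b)) v) : r * r = 1 := by
  have e : r.1 = ((isoEquiv (Qm m a b)).symm (SpinorNorm.refl (Qm m a b) hv)).1 :=
    Units.ext (by rw [hr, OmegaList.symm_refl_matrix])
  refine Subtype.ext ?_
  show r.1 * r.1 = 1
  rw [e, ← Subgroup.coe_mul, ← map_mul, SpinorNorm.refl_mul_self, map_one, OneMemClass.coe_one]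

include hm hab in
theorem Ns_index_even (h2 : (2 : F) = 0) : (PGO.Ns (Qm m a b)).index = 2 := by
  have hc := hc_minus hm hab
  have hQ := Qm_nondeg m hab
  obtain ⟨o₀, ho₀⟩ := OmegaList.exists_iso (Qm m a b) [w₀ a] (by simp [w₀_ne hab])
  have hr : (PGO.Data.toGO o₀).1.1 = Cfsg.reflectionMatrix (⇑(Qm m a b)) (w₀ a) := by
    show o₀.1.1 = _
    rw [ho₀]; simp [RP]
  have hrN := refl_notMem_Ns hm hab (w₀_ne hab) hr
  have hcases : ∀ g, g ∈ PGO.Ns (Qm m a b) ∨ g * PGO.Data.toGO o₀ ∈ PGO.Ns (Qm m a b) := by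
    intro g
    obtain ⟨d, hd⟩ := g.2
    obtain ⟨t, ht⟩ := FiniteForms.sqrt_charTwo h2 (d : F)
    have ht0 : t ≠ 0 := fun h => d.ne_zero (by rw [ht, h, mul_zero])
    obtain ⟨u, hu⟩ : ∃ u : Fˣ, (u : F) = t := ⟨Units.mk0 t ht0, rfl⟩
    have ho : (PGO.sc u⁻¹ * g.1 : GL ((Fin m ⊕ Fin m) ⊕ Fin 2) F) ∈ Cfsg.isometryGroup F ⇑(Qm m a b) := fun v _ => by
      show Qm m a b ((PGO.sc u⁻¹ * g.1 : GL _ F).1 *ᵥ v) = Qm m a b v
      rw [Units.val_mul, ← Matrix.mulVec_mulVec, PGO.sc_mulVec, QuadraticMap.map_smul, hd, ht, ← hu, smul_eq_mul,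
        Units.val_inv_eq_inv_val]
      field_simp
    obtain ⟨o, ho1⟩ : ∃ o : Cfsg.isometryGroup F ⇑(Qm m a b), o.1 = PGO.sc u⁻¹ * g.1 := ⟨⟨_, ho⟩, rfl⟩
    have hg : g.1 = PGO.sc u * o.1 := by rw [ho1]; simp
    obtain ⟨vs, hvs, hvm⟩ := OmegaList.exists_list _ hc o
    have hsq : ∀ x : F, IsSquare x := fun x => by
      obtain ⟨s, hs⟩ := FiniteForms.sqrt_charTwo h2 x; exact ⟨s, hs⟩
    rcases Nat.even_or_odd vs.length with he | he
    · exact Or.inl ⟨u, o.1, ⟨o, (OmegaList.omega_iff_list _ hc hQ o vs hvs hvm).mpr ⟨he, hsq _⟩, rfl⟩, hg⟩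
    · refine Or.inr ⟨u, (o * o₀).1, ⟨o * o₀, (OmegaList.omega_iff_list _ hc hQ _ (vs ++ [w₀ a])
        (fun v hv => ?_) ?_).mpr ⟨?_, hsq _⟩, rfl⟩, ?_⟩
      · rcases List.mem_append.mp hv with hv | hv
        · exact hvs v hv
        · rw [List.mem_singleton.mp hv]; exact w₀_ne hab
      · show o.1.1 * o₀.1.1 = _
        rw [hvm, ho₀, OmegaList.RP_append]
      · rw [List.length_append, List.length_singleton]; exact he.add_one
      · show g.1 * o₀.1 = PGO.sc u * (o.1 * o₀.1)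
        rw [hg, mul_assoc]
  refine Subgroup.index_eq_two_iff.mpr ⟨PGO.Data.toGO o₀, fun g => ?_⟩
  rcases hcases g with h | h
  · exact Or.inr ⟨h, fun h' => hrN (by simpa using mul_mem (inv_mem h) h')⟩
  · refine Or.inl ⟨h, fun h' => hrN ?_⟩
    simpa using mul_mem (inv_mem h') h

include hm hab in
/-- The lift of Frobenius inside the outer automorphism group. -/
theorem exists_outer_frob {p f : ℕ} [Fact p.Prime] (hf : 1 ≤ f) (hF : Fintype.card F = p ^ f) :
    ∃ (π : Cfsg.Out (Cfsg.POmega F ⇑(Qm m a b)) →* RingAut F)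
      (j : PGO.GO (Qm m a b) ⧸ PGO.Ns (Qm m a b) →* Cfsg.Out (Cfsg.POmega F ⇑(Qm m a b))) (γ : ΓO (Qm m a b))
      (r : PGO.GO (Qm m a b)),
      Function.Injective j ∧ j.range = π.ker ∧ Function.Surjective π ∧ Nat.card (RingAut F) = f ∧
        orderOf (π (QuotientGroup.mk (Ψ γ))) = f ∧
        r.1.1 = Cfsg.reflectionMatrix (⇑(Qm m a b)) (w₀ a) ∧
        (QuotientGroup.mk (Ψ γ) : Cfsg.Out (Cfsg.POmega F ⇑(Qm m a b))) ^ f = j (QuotientGroup.mk r) ∧
        ∀ x : PGO.GO (Qm m a b), ∃ y : PGO.GO (Qm m a b),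
          y.1 = γ.1.left * σA F _ γ.1.right x.1 * γ.1.left⁻¹ ∧
            (QuotientGroup.mk (Ψ γ) : Cfsg.Out (Cfsg.POmega F ⇑(Qm m a b))) * j (QuotientGroup.mk x) *
              (QuotientGroup.mk (Ψ γ))⁻¹ = j (QuotientGroup.mk y) := by
  obtain ⟨π, j, hj, hrange, hπ, hjg⟩ := exists_outer (Qm_nondeg m hab) (hn_minus hm) (hmax_minus hm hab)
  obtain ⟨γ, r, hord, hr, hpow⟩ := exists_frob (m := m) hf hF hab
  have hF' : Nat.card F = p ^ f := by rw [Nat.card_eq_fintype_card, hF]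
  haveI : CharP F p := charP_of_card_eq_prime_pow hF
  obtain ⟨-, hcard⟩ := Chev.ringAut_cyclic_card p hF'
  haveI : Finite (RingAut F) := Finite.of_injective (fun σ => (σ : F → F)) DFunLike.coe_injective
  have hz : Subgroup.zpowers γ.1.right = ⊤ :=
    Subgroup.eq_top_of_card_eq _ (by rw [Nat.card_zpowers, hord, hcard])
  refine ⟨π, j, γ, r, hj, hrange, fun σ => ?_, hcard, by rw [hπ]; exact hord, hr, ?_, fun x => ?_⟩
  · obtain ⟨k, hk⟩ : σ ∈ Subgroup.zpowers γ.1.right := by rw [hz]; trivial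
    exact ⟨QuotientGroup.mk (Ψ γ) ^ k, by rw [map_zpow, hπ]; exact hk⟩
  · rw [← QuotientGroup.mk_pow, ← map_pow, hpow, hjg]
  · obtain ⟨y, hy, e⟩ := conj_ofGO γ x
    exact ⟨y, hy, by rw [hjg, hjg, ← e, map_mul, map_mul, map_inv]; rfl⟩

include hm hab in
theorem out_even {f : ℕ} (hf : 1 ≤ f) (hF : Fintype.card F = 2 ^ f) :
    IsCyclic (Cfsg.Out (Cfsg.POmega F ⇑(Qm m a b))) ∧ Nat.card (Cfsg.Out (Cfsg.POmega F ⇑(Qm m a b))) = 2 * f := by
  haveI : Fact (Nat.Prime 2) := ⟨Nat.prime_two⟩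
  haveI : CharP F 2 := charP_of_card_eq_prime_pow hF
  obtain ⟨π, j, γ, r, hj, hrange, hsurj, hcard, hord, hr, hpow, -⟩ := exists_outer_frob hm hab hf hF
  have hidx := Ns_index_even hm hab (CharTwo.two_eq_zero (R := F))
  obtain ⟨O, hO⟩ : ∃ O, O = Nat.card (Cfsg.Out (Cfsg.POmega F ⇑(Qm m a b))) := ⟨_, rfl⟩
  have hcO : O = 2 * f := by
    rw [hO, ← π.ker.card_mul_index, Subgroup.index_ker, MonoidHom.range_eq_top.mpr hsurj, Subgroup.card_top, hcard,
      ← hrange, ← Nat.card_congr (MonoidHom.ofInjective hj).toEquiv]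
    rw [show Nat.card (PGO.GO (Qm m a b) ⧸ PGO.Ns (Qm m a b)) = 2 from hidx]
  haveI : Finite (Cfsg.Out (Cfsg.POmega F ⇑(Qm m a b))) :=
    Nat.finite_of_card_ne_zero (by rw [← hO, hcO]; omega)
  obtain ⟨s, hs⟩ : ∃ s : Cfsg.Out (Cfsg.POmega F ⇑(Qm m a b)), s = QuotientGroup.mk (Ψ γ) := ⟨_, rfl⟩
  rw [← hs] at hord hpow
  have hne : s ^ f ≠ 1 := by
    rw [hpow]
    exact fun h => refl_notMem_Ns hm hab (w₀_ne hab) hr ((QuotientGroup.eq_one_iff r).mp (hj (h.trans (map_one j).symm)))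
  have hs2 : s ^ (2 * f) = 1 := by
    rw [mul_comm, pow_mul, hpow, pow_two, ← map_mul, ← QuotientGroup.mk_mul, refl_sq hm hab (w₀_ne hab) hr,
      QuotientGroup.mk_one, map_one]
  obtain ⟨k, hk⟩ : f ∣ orderOf s := hord ▸ orderOf_map_dvd π s
  have hk2 : k ∣ 2 := by
    have := orderOf_dvd_of_pow_eq_one hs2
    rw [hk, mul_comm 2 f] at this
    exact Nat.dvd_of_mul_dvd_mul_left (by omega) this
  have hso : orderOf s = 2 * f := by
    rcases (Nat.dvd_prime Nat.prime_two).mp hk2 with rfl | rfl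
    · exact absurd (by rw [← pow_orderOf_eq_one s, hk, mul_one]) hne
    · rw [hk, mul_comm]
  refine ⟨isCyclic_of_orderOf_eq_card s (by rw [hso, ← hcO, hO]), by rw [← hO, hcO]⟩

/-- The product of two commuting cyclic subgroups meeting trivially. -/
theorem prod_equiv {G A B : Type*} [Group G] [Finite G] [Group A] [Group B] (i : A →* G) (k : B →* G)
    (hc : ∀ x y, Commute (i x) (k y)) (hi : Function.Injective i) (hk : Function.Injective k)
    (hd : ∀ x y, i x = k y → x = 1) (hcard : Nat.card G = Nat.card A * Nat.card B) : Nonempty (G ≃* A × B) := by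
  haveI : Finite A := Finite.of_injective i hi
  haveI : Finite B := Finite.of_injective k hk
  let Φ : A × B →* G := i.noncommCoprod k hc
  have hΦ : Function.Injective Φ := (injective_iff_map_eq_one Φ).mpr fun ⟨x, y⟩ h => by
    replace h : i x * k y = 1 := h
    have h1 : i x = k y⁻¹ := by rw [map_inv]; exact eq_inv_of_mul_eq_one_left h
    have hx := hd x y⁻¹ h1
    rw [hx, map_one, one_mul] at h
    exact Prod.ext hx (hk (h.trans (map_one k).symm))
  haveI := Fintype.ofFinite G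
  haveI := Fintype.ofFinite (A × B)
  exact ⟨(MulEquiv.ofBijective Φ ((Fintype.bijective_iff_injective_and_card _).mpr
    ⟨hΦ, by rw [← Nat.card_eq_fintype_card, ← Nat.card_eq_fintype_card, Nat.card_prod, hcard]⟩)).symm⟩

include hm hab in
theorem out_odd_minus {p f : ℕ} [Fact p.Prime] (hp : p ≠ 2) (hf : 1 ≤ f) (hF : Fintype.card F = p ^ f) :
    if p ^ f % 4 = 3 ∧ Even m then
      Nonempty (Cfsg.Out (Cfsg.POmega F ⇑(Qm m a b)) ≃* DihedralGroup 4 × Multiplicative (ZMod f))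
    else Nonempty (Cfsg.Out (Cfsg.POmega F ⇑(Qm m a b)) ≃* Multiplicative (ZMod 2 × ZMod (2 * f))) := by
  have hodd : Odd (Fintype.card F) := by
    rw [hF]; exact ((Fact.out : p.Prime).odd_of_ne_two hp).pow
  let D := PGO.minusData hodd hm hab
  have hneg := PGO.negMem_minus hodd hm hab
  rw [hF] at hneg
  obtain ⟨π, j, γ, r, hj, hrange, hsurj, hcard, hord, hr, hpow, hconj⟩ := exists_outer_frob hm hab hf hF
  obtain ⟨s, hs⟩ : ∃ s : Cfsg.Out (Cfsg.POmega F ⇑(Qm m a b)), s = QuotientGroup.mk (Ψ γ) := ⟨_, rfl⟩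
  simp only [← hs] at hord hpow hconj
  have hcO : Nat.card (Cfsg.Out (Cfsg.POmega F ⇑(Qm m a b))) =
      Nat.card (PGO.GO (Qm m a b) ⧸ PGO.Ns (Qm m a b)) * f := by
    rw [← π.ker.card_mul_index, Subgroup.index_ker, MonoidHom.range_eq_top.mpr hsurj, Subgroup.card_top, hcard,
      ← hrange, ← Nat.card_congr (MonoidHom.ofInjective hj).toEquiv]
  haveI : Finite (Cfsg.Out (Cfsg.POmega F ⇑(Qm m a b))) := Nat.finite_of_card_ne_zero (by
    rw [hcO]; exact Nat.mul_ne_zero Nat.card_pos.ne' (by omega))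
  have hπj : ∀ x, π (j x) = 1 := fun x => MonoidHom.mem_ker.mp (hrange ▸ ⟨x, rfl⟩)
  split_ifs with hc
  · obtain ⟨e⟩ := D.dihedral_iso (hneg.mpr ⟨hc.2, hc.1⟩)
    have hfodd : Odd f := by
      rw [Nat.odd_iff]
      by_contra hcon
      obtain ⟨k, hk⟩ : ∃ k, f = 2 * k := ⟨f / 2, by omega⟩
      have h1 := hc.1
      rw [hk, mul_comm, pow_mul, pow_two, Nat.mul_mod] at h1
      obtain ⟨l, hl⟩ := ((Fact.out : p.Prime).odd_of_ne_two hp).pow (n := k)
      have : p ^ k % 4 = 1 ∨ p ^ k % 4 = 3 := by omega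
      rcases this with h' | h' <;> rw [h'] at h1 <;> omega
    have hfc : Nat.Coprime 8 f := (Nat.coprime_two_left.mpr hfodd).pow_left 3
    have hsf : (s ^ 8) ^ f = 1 := by
      rw [← pow_mul, mul_comm, pow_mul, hpow, ← map_pow]
      have h8 : Nat.card (PGO.GO (Qm m a b) ⧸ PGO.Ns (Qm m a b)) = 8 := by
        rw [← Nat.card_congr e.toEquiv, DihedralGroup.nat_card]
      rw [← h8, pow_card_eq_one', map_one]
    have hπ8 : orderOf (π (s ^ 8)) = f := by
      rw [map_pow, Nat.Coprime.orderOf_pow (by rw [hord]; exact hfc.symm), hord]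
    have hos : orderOf (s ^ 8) = f :=
      Nat.dvd_antisymm (orderOf_dvd_of_pow_eq_one hsf) (hπ8 ▸ orderOf_map_dvd π (s ^ 8))
    let i : DihedralGroup 4 →* Cfsg.Out (Cfsg.POmega F ⇑(Qm m a b)) := j.comp e.toMonoidHom
    have hi : Function.Injective i := hj.comp e.injective
    have hrngi : i.range = π.ker := by
      rw [← hrange]
      ext x
      constructor
      · rintro ⟨y, rfl⟩; exact ⟨e y, rfl⟩
      · rintro ⟨y, rfl⟩; exact ⟨e.symm y, by simp [i]⟩
    haveI : i.range.Normal := by rw [hrngi]; infer_instance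
    let Φ : Cfsg.Out (Cfsg.POmega F ⇑(Qm m a b)) →* MulAut (DihedralGroup 4) :=
      ((MulAut.congr (MonoidHom.ofInjective hi).symm).toMonoidHom).comp MulAut.conjNormal
    have hΦ : ∀ g d, i (Φ g d) = g * i d * g⁻¹ := fun g d => by
      show i ((MonoidHom.ofInjective hi).symm (MulAut.conjNormal g ((MonoidHom.ofInjective hi) d))) = _
      rw [MonoidHom.apply_ofInjective_symm hi, MulAut.conjNormal_apply, MonoidHom.ofInjective_apply hi]
    have h1 : Φ (s ^ 8) = 1 := by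
      rw [← orderOf_eq_one_iff]
      refine Nat.eq_one_of_dvd_coprimes (Nat.Coprime.pow_left 2 (Nat.coprime_two_left.mpr hfodd))
        (orderOf_dvd_of_pow_eq_one (dihedral_aut_pow _)) ?_
      exact (orderOf_map_dvd Φ _).trans hos.dvd
    have hcomm : ∀ d y, Commute (i d) ((Subgroup.zpowers (s ^ 8)).subtype y) := by
      rintro d ⟨y, hy⟩
      obtain ⟨k, rfl⟩ := hy
      refine Commute.zpow_right ?_ k
      have := hΦ (s ^ 8) d
      rw [h1, MulAut.one_apply] at this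
      exact (eq_mul_inv_iff_mul_eq.mp this)
    obtain ⟨ψ⟩ := prod_equiv i (Subgroup.zpowers (s ^ 8)).subtype hcomm hi (Subgroup.subtype_injective _)
      (fun d y hdy => by
        obtain ⟨k, hk⟩ := y.2
        have h3 : π (i d) = 1 := hπj _
        rw [hdy, Subgroup.coe_subtype, ← hk, map_zpow, ← orderOf_dvd_iff_zpow_eq_one, hπ8, ← hos,
          orderOf_dvd_iff_zpow_eq_one] at h3
        exact hi (by rw [hdy, Subgroup.coe_subtype, ← hk, map_one]; exact h3))
      (by rw [hcO, Nat.card_zpowers, hos, ← Nat.card_congr e.toEquiv])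
    have hMf : Nat.card (Multiplicative (ZMod f)) = f := (Nat.card_congr Multiplicative.toAdd).trans (Nat.card_zmod f)
    exact ⟨ψ.trans ((MulEquiv.refl _).prodCongr
      (mulEquivOfCyclicCardEq (by rw [Nat.card_zpowers, hos, hMf])))⟩
  · have hnn : ¬ POmegaCard.NegMem F ⇑(Qm m a b) := fun h => hc ⟨(hneg.mp h).2, (hneg.mp h).1⟩
    obtain ⟨e⟩ := D.four_iso hnn
    have hHs : ∀ g, g ∈ PGO.Hs (Qm m a b) → g ∈ PGO.Ns (Qm m a b) := fun g hg => by
      rcases D.Hs_split hg with h1 | h1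
      · exact h1
      · simpa using mul_mem h1 (D.z_mem_iff.mpr hnn)
    have hprop2 : (PGO.propSub (Qm m a b)).index = 2 := by
      refine Subgroup.index_eq_two_iff.mpr ⟨D.r, fun g => ?_⟩
      have hr2 : D.r ∉ PGO.propSub (Qm m a b) := fun h => by
        have := (D.prop_mul 1).mp (by rwa [mul_one])
        exact this (one_mem _)
      by_cases hg : g ∈ PGO.propSub (Qm m a b)
      · exact Or.inr ⟨hg, fun h => hr2 ((mul_mem_cancel_left hg).mp h)⟩
      · refine Or.inl ⟨?_, hg⟩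
        have h1 := (D.prop_mul g).mpr hg
        have h2 : D.r * (g * D.r) ∈ PGO.propSub (Qm m a b) → g * D.r ∈ PGO.propSub (Qm m a b) → False :=
          fun ha hb => ((D.prop_mul _).mp ha) hb
        by_contra h3
        have h4 := (D.prop_mul (g * D.r)).mpr h3
        exact hr2 ((mul_mem_cancel_left h1).mp (by rw [mul_assoc]; exact h4))
    have h2F : (2 : F) ≠ 0 := PGO.two_ne hodd
    have hQ := Qm_nondeg m hab
    have key : ∀ x : PGO.GO (Qm m a b), s * j (QuotientGroup.mk x) = j (QuotientGroup.mk x) * s := by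
      intro x
      obtain ⟨y, hy, hyx⟩ := hconj x
      have hyN : y * x⁻¹ ∈ PGO.Ns (Qm m a b) := by
        refine hHs _ ?_
        obtain ⟨c, hcx⟩ := x.2
        have hcy := mult_conj hQ (hn_minus hm) hy hcx
        have hσ0 : γ.1.right (c : F) ≠ 0 := by simpa using c.ne_zero
        have hprop : y ∈ PGO.propSub (Qm m a b) ↔ x ∈ PGO.propSub (Qm m a b) := by
          rw [D.mem_prop_iff (c := c) hcx, D.mem_prop_iff (c := Units.mk0 _ hσ0) hcy, det_conj hy, Units.val_mk0,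
            ← map_pow, EmbeddingLike.apply_eq_iff_eq]
        have hp1 : y * x⁻¹ ∈ PGO.propSub (Qm m a b) := by
          rw [Subgroup.mul_mem_iff_of_index_two hprop2, inv_mem_iff]; exact hprop
        obtain ⟨t, ht⟩ : IsSquare (γ.1.right (c : F) * (c : F)⁻¹) := by
          rw [FiniteForms.isSquare_mul_iff hσ0 (inv_ne_zero c.ne_zero), isSquare_inv]
          exact ⟨fun ⟨t, ht⟩ => ⟨γ.1.right.symm t, γ.1.right.injective (by rw [ht, map_mul]; simp)⟩,
            fun h => h.map γ.1.right⟩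
        have ht0 : t ≠ 0 := fun h => mul_ne_zero hσ0 (inv_ne_zero c.ne_zero) (by rw [ht, h, mul_zero])
        have hmult : ∀ v, Qm m a b ((y * x⁻¹).1.1 *ᵥ v) = t * t * Qm m a b v := fun v => by
          have h5 := hcx ((x⁻¹).1.1 *ᵥ v)
          rw [Matrix.mulVec_mulVec, ← Units.val_mul, ← Subgroup.coe_mul, mul_inv_cancel, OneMemClass.coe_one,
            Units.val_one, Matrix.one_mulVec] at h5
          rw [Subgroup.coe_mul, Units.val_mul, ← Matrix.mulVec_mulVec, hcy, ← ht, h5]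
          field_simp
        obtain ⟨u, hu⟩ : ∃ u : Fˣ, (u : F) = t := ⟨Units.mk0 t ht0, rfl⟩
        have hdet : (y * x⁻¹).1.1.det = (t * t) ^ PGO.half ((Fin m ⊕ Fin m) ⊕ Fin 2) := by
          have := (D.mem_prop_iff (c := u * u) (fun v => by rw [Units.val_mul, hu]; exact hmult v)).mp hp1
          rwa [Units.val_mul, hu] at this
        obtain ⟨o, ho⟩ : ∃ o : Cfsg.isometryGroup F ⇑(Qm m a b), o.1 = PGO.sc u⁻¹ * (y * x⁻¹).1 := by
          refine ⟨⟨_, fun v _ => ?_⟩, rfl⟩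
          show Qm m a b ((PGO.sc u⁻¹ * (y * x⁻¹).1 : GL _ F).1 *ᵥ v) = Qm m a b v
          rw [Units.val_mul, ← Matrix.mulVec_mulVec, PGO.sc_mulVec, QuadraticMap.map_smul, hmult, ← hu, smul_eq_mul,
            Units.val_inv_eq_inv_val]
          field_simp
        refine ⟨u, o.1, PGO.Data.mem_SO.mpr ?_, by rw [ho]; simp⟩
        rw [ho, Units.val_mul, Matrix.det_mul, PGO.sc_val, Matrix.det_smul, Matrix.det_one, mul_one, hdet, D.card_eq,
          Units.val_inv_eq_inv_val, hu, pow_mul, ← mul_pow, show t⁻¹ ^ 2 * (t * t) = 1 by field_simp, one_pow]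
      have e' : j (QuotientGroup.mk y) = j (QuotientGroup.mk x) := by
        refine congrArg j ((QuotientGroup.eq_iff_div_mem).mpr ?_)
        rwa [div_eq_mul_inv]
      exact mul_inv_eq_iff_eq_mul.mp (hyx.trans e')
    have hrN := refl_notMem_Ns hm hab (w₀_ne hab) hr
    have hne : s ^ f ≠ 1 := by
      rw [hpow]
      exact fun h => hrN ((QuotientGroup.eq_one_iff r).mp (hj (h.trans (map_one j).symm)))
    have hs2 : s ^ (2 * f) = 1 := by
      rw [mul_comm, pow_mul, hpow, pow_two, ← map_mul, ← QuotientGroup.mk_mul, refl_sq hm hab (w₀_ne hab) hr,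
        QuotientGroup.mk_one, map_one]
    obtain ⟨k, hk⟩ : f ∣ orderOf s := hord ▸ orderOf_map_dvd π s
    have hk2 : k ∣ 2 := by
      have := orderOf_dvd_of_pow_eq_one hs2
      rw [hk, mul_comm 2 f] at this
      exact Nat.dvd_of_mul_dvd_mul_left (by omega) this
    have hso : orderOf s = 2 * f := by
      rcases (Nat.dvd_prime Nat.prime_two).mp hk2 with rfl | rfl
      · exact absurd (by rw [← pow_orderOf_eq_one s, hk, mul_one]) hne
      · rw [hk, mul_comm]
    obtain ⟨w, hw⟩ : ∃ w, w = j D.y := ⟨_, rfl⟩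
    have hw2 : orderOf w = 2 := by
      rw [hw, orderOf_injective j hj]
      exact orderOf_eq_prime (hp := ⟨Nat.prime_two⟩) (by rw [pow_two]; exact D.y_sq) D.y_ne
    obtain ⟨ψ⟩ := prod_equiv (Subgroup.zpowers w).subtype (Subgroup.zpowers s).subtype
      (fun x y => by
        obtain ⟨k₁, hk₁⟩ := x.2
        obtain ⟨k₂, hk₂⟩ := y.2
        show Commute x.1 y.1
        rw [← hk₁, ← hk₂]
        refine Commute.zpow_zpow ?_ _ _
        rw [hw]
        exact (key D.δ).symm)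
      (Subgroup.subtype_injective _) (Subgroup.subtype_injective _)
      (fun x y hxy => by
        obtain ⟨k₁, hk₁⟩ := x.2
        obtain ⟨k₂, hk₂⟩ := y.2
        refine Subtype.ext ?_
        have hxy' : w ^ k₁ = s ^ k₂ := by rw [show w ^ k₁ = x.1 from hk₁, show s ^ k₂ = y.1 from hk₂]; exact hxy
        rw [OneMemClass.coe_one, ← hk₁]
        show w ^ k₁ = 1
        rcases Int.even_or_odd k₁ with ⟨l, hl⟩ | ⟨l, hl⟩
        · rw [hl, ← two_mul, zpow_mul, show w ^ (2 : ℤ) = 1 by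
            exact_mod_cast hw2 ▸ pow_orderOf_eq_one w, one_zpow]
        exfalso
        have hwk : w ^ k₁ = w := by
          rw [hl, zpow_add, zpow_one, zpow_mul, show w ^ (2 : ℤ) = 1 by
            exact_mod_cast hw2 ▸ pow_orderOf_eq_one w, one_zpow, one_mul]
        rw [hwk] at hxy'
        have h3 : π (s ^ k₂) = 1 := by rw [← hxy', hw]; exact hπj _
        rw [map_zpow, ← orderOf_dvd_iff_zpow_eq_one, hord] at h3
        obtain ⟨l₂, hl₂⟩ := h3
        rw [hl₂, zpow_mul, zpow_natCast, hpow, hw, ← map_zpow, ← QuotientGroup.mk_zpow] at hxy'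
        have hmem : (r ^ l₂)⁻¹ * D.δ ∈ PGO.Ns (Qm m a b) := QuotientGroup.eq.mp (hj hxy').symm
        have hH := PGO.Ns_le_Hs hmem
        obtain ⟨c, o, ho, e'⟩ := hH
        obtain ⟨c₁, hc₁⟩ : ∃ c₁ : F, c₁ * c₁ = 1 ∧ ∀ v, Qm m a b ((r ^ l₂).1.1 *ᵥ v) = c₁ * c₁ * Qm m a b v := by
          refine ⟨1, one_mul 1, fun v => ?_⟩
          have : (r ^ l₂).1 ∈ Cfsg.isometryGroup F ⇑(Qm m a b) := by
            rw [SubgroupClass.coe_zpow]
            refine zpow_mem ?_ l₂
            intro v _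
            show Qm m a b (r.1.1 *ᵥ v) = Qm m a b v
            rw [hr, ← OmegaList.symm_refl_matrix (Qm m a b) (w₀_ne hab)]
            exact ((isoEquiv (Qm m a b)).symm (SpinorNorm.refl (Qm m a b) (w₀_ne hab))).2 v v
          rw [one_mul, one_mul]
          exact this v v
        obtain ⟨-, hc₁'⟩ := hc₁
        have hν : ∀ v, Qm m a b (D.δ.1.1 *ᵥ v) = c₁ * c₁ * ((c : F) * c) * Qm m a b v := fun v => by
          have e2 : D.δ.1 = (r ^ l₂).1 * (PGO.sc c * o) := by rw [← e']; simp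
          rw [e2, Units.val_mul, Units.val_mul, ← Matrix.mulVec_mulVec, ← Matrix.mulVec_mulVec, hc₁', PGO.sc_mulVec,
            QuadraticMap.map_smul, show Qm m a b (o.1 *ᵥ v) = Qm m a b v from ho.1 v v, smul_eq_mul]
          ring
        exact D.hν ⟨c₁ * c, by rw [D.mult_unique D.hδ hν]; ring⟩)
      (by
        rw [hcO, Nat.card_zpowers, Nat.card_zpowers, hw2, hso, ← Nat.card_congr e.toEquiv,
          Nat.card_congr Multiplicative.toAdd, Nat.card_prod, Nat.card_zmod]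
        ring)
    have hM : ∀ n, Nat.card (Multiplicative (ZMod n)) = n := fun n =>
      (Nat.card_congr Multiplicative.toAdd).trans (Nat.card_zmod n)
    exact ⟨(ψ.trans ((mulEquivOfCyclicCardEq (by rw [Nat.card_zpowers, hw2, hM])).prodCongr
      (mulEquivOfCyclicCardEq (by rw [Nat.card_zpowers, hso, hM])))).trans
        (MulEquiv.prodMultiplicative (ZMod 2) (ZMod (2 * f))).symm⟩

end Minus

end CfsgLib.OrthMinus
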