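import Cfsg.Agent.Lib.OrthAut.Gd
import Cfsg.Agent.Lib.OrthAut.MinusOut
import Cfsg.Agent.Lib.FiniteForms.WittBasis

/-!
The inner-diagonal similitudes of the minus form, and minus frames.
-/

set_option autoImplicit false
set_option linter.unusedSectionVars false
set_option linter.style.haveILetI false
set_option linter.unusedSimpArgs false
set_option maxHeartbeats 800000

namespace CfsgLib.OrthMinus

open QuadraticMap Module CfsgLib.OrthAut CfsgLib.OrthPair CfsgLib.StdQuadForms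
open scoped Matrix

universe u v

variable {F : Type u} [Field F] [Fintype F] {m : ℕ} {a b : F}
  (hm : 3 ≤ m) (hab : ∀ z₁ z₂ : F, z₁ ^ 2 + a * z₁ * z₂ + b * z₂ ^ 2 = 0 → z₁ = 0 ∧ z₂ = 0)

section Ext

variable {K : Type u} [Field K] [Algebra F K] {ρ : K}

local notation "φ" => algebraMap F K

/-- Hyperbolic coordinates of the minus form over a quadratic extension, from a root. -/
noncomputable def hypRoot (hρ : ρ * ρ - algebraMap F K a * ρ + algebraMap F K b = 0)
    (hd : algebraMap F K a - 2 * ρ ≠ 0) :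
    PGO.Hyp (Cfsg.quadFormMinus m K (algebraMap F K a) (algebraMap F K b)) (m + 1) where
  e :=
    { toFun := fun x => Sum.elim
        (Fin.snoc (fun i => x (.inl (.inl i))) (x (.inr 0) + ρ * x (.inr 1)))
        (Fin.snoc (fun i => x (.inl (.inr i))) (x (.inr 0) + (φ a - ρ) * x (.inr 1)))
      invFun := fun y => Sum.elim (Sum.elim (fun i => y (.inl i.castSucc)) (fun i => y (.inr i.castSucc)))
        ![y (.inl (Fin.last m)) - ρ * ((y (.inr (Fin.last m)) - y (.inl (Fin.last m))) / (φ a - 2 * ρ)),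
          (y (.inr (Fin.last m)) - y (.inl (Fin.last m))) / (φ a - 2 * ρ)]
      left_inv := fun x => by
        funext s
        rcases s with (i | i) | i
        · simp
        · simp
        · have e1 : ∀ z : K, ((φ a - ρ) * z - ρ * z) / (φ a - 2 * ρ) = z := fun z => by
            rw [div_eq_iff hd]; ring
          fin_cases i <;> simp [e1]
      right_inv := fun y => by
        have e2 : (y (.inr (Fin.last m)) - y (.inl (Fin.last m))) / (φ a - 2 * ρ) * (φ a - 2 * ρ) =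
          y (.inr (Fin.last m)) - y (.inl (Fin.last m)) := div_mul_cancel₀ _ hd
        funext s
        rcases s with i | i <;> refine Fin.lastCases ?_ (fun j => ?_) i <;> simp
        linear_combination e2
      map_add' := fun x y => by
        funext s
        rcases s with i | i <;> refine Fin.lastCases ?_ (fun j => ?_) i <;> simp <;> ring
      map_smul' := fun c x => by
        funext s
        rcases s with i | i <;> refine Fin.lastCases ?_ (fun j => ?_) i <;> simp <;> ring }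
  hf x := by
    simp only [LinearEquiv.coe_mk, LinearMap.coe_mk, AddHom.coe_mk, Cfsg.quadFormPlus, Cfsg.quadFormMinus,
      Sum.elim_inl, Sum.elim_inr, Fin.sum_univ_castSucc, Fin.snoc_castSucc, Fin.snoc_last]
    linear_combination (-(x (.inr 1)) ^ 2) * hρ

include hm hab in
theorem pres_iff_two (h2 : (2 : F) = 0) (hK : finrank F K = 2) (g : PGO.GO (Qm m a b)) :
    Cfsg.PreservesSingularClasses (Cfsg.quadFormMinus m K (φ a) (φ b)) (g.1.1.map φ) ↔ g ∈ Gd (Qm m a b) := by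
  classical
  haveI : Module.Finite F K := Module.finite_of_finrank_eq_succ hK
  haveI : Finite K := Module.finite_of_finite F
  haveI := Fintype.ofFinite K
  obtain ⟨ρ, hρ⟩ := exists_root hab K hK
  have h2K : (2 : K) = 0 := by rw [← map_ofNat φ 2, h2, map_zero]
  have ha : a ≠ 0 := fun ha => disc_ne hab (by rw [ha]; linear_combination 2 * b * h2)
  have hd : φ a - 2 * ρ ≠ 0 := by
    rw [h2K, zero_mul, sub_zero]; exact fun h => ha ((map_eq_zero φ).mp h)
  have hfr : IsFrame φ (Qm m (φ a) (φ b)) 1 1 (Qm m a b) := ⟨one_ne_zero, fun v => by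
    rw [one_mul, Units.val_one, Matrix.one_mulVec]; exact (PGO.Qm_map v).symm⟩
  obtain ⟨P, hP⟩ : ∃ P : PGO.GO (Qm m a b) →* GL ((Fin m ⊕ Fin m) ⊕ Fin 2) K,
      P = (PGO.GO (Qm m (φ a) (φ b))).subtype.comp (inclH φ hfr) := ⟨_, rfl⟩
  have hPv : ∀ y : PGO.GO (Qm m a b), (P y).1 = y.1.1.map φ := fun y => by
    rw [hP, MonoidHom.comp_apply, Subgroup.coe_subtype, inclH_val, one_mul, inv_one, mul_one]; rfl
  have hsim : ∀ y : PGO.GO (Qm m a b), ∃ c : K, ∀ x,
      Cfsg.quadFormMinus m K (φ a) (φ b) ((P y).1 *ᵥ x) = c * Cfsg.quadFormMinus m K (φ a) (φ b) x := fun y => by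
    obtain ⟨c, hc⟩ := (inclH φ hfr y).2
    exact ⟨c, fun x => by rw [← Qm_apply, ← Qm_apply, hP]; exact hc x⟩
  let H := hypRoot (m := m) hρ hd
  have hM : PGO.classSub H P hsim = Gd (Qm m a b) := by
    refine eq_Gd_two (Qm_nondeg m hab) ⟨m + 1, by simp; omega⟩ (hn_minus hm) h2
      (PGO.Ns_le_classSub H P hsim fun c => ⟨φ (c : F), fun h => c.ne_zero ((map_eq_zero φ).mp h), ?_⟩) ?_
    · rw [hP, MonoidHom.comp_apply, Subgroup.coe_subtype, inclH_sc, PGO.sc_val]; rfl
    · have hw : Qm m a b (w₀ a) ≠ 0 := by rw [Qm_w₀]; exact disc_ne hab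
      obtain ⟨r, hr⟩ := exists_refl hw
      refine ⟨r, fun hmem => H.pres_refl (P r) (Qm m (φ a) (φ b)) (fun x => (Qm_apply m _ _ x).symm)
        (a := (1 : GL ((Fin m ⊕ Fin m) ⊕ Fin 2) K).1 *ᵥ up φ (w₀ a)) ?_ ?_ hmem⟩
      · rw [frame_value hfr, inv_one, one_mul]; exact fun h => hw ((map_eq_zero φ).mp h)
      · rw [hP, MonoidHom.comp_apply, Subgroup.coe_subtype, inclH_refl hfr hw hr]
  rw [← hPv g, H.preserves_iff (P g) (hsim g), ← hM]
  rfl

end Ext

include hm hab in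
theorem preserves_iff (g : PGO.GO (Qm m a b)) :
    Cfsg.PreservesSingularClassesMinus m a b g.1.1 ↔ g ∈ Gd (Qm m a b) := by
  by_cases h2 : (2 : F) = 0
  · constructor
    · rintro ⟨K, iK, iA, hK, hp⟩
      exact (@pres_iff_two F _ _ m a b hm hab K iK iA h2 hK g).mp hp
    · intro hg
      haveI := Fact.mk (binPoly_irr hab)
      have hK : finrank F (AdjoinRoot (binPoly a b)) = 2 := by
        rw [(AdjoinRoot.powerBasis (binPoly_irr hab).ne_zero).finrank, AdjoinRoot.powerBasis_dim, binPoly_degree]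
      exact ⟨AdjoinRoot (binPoly a b), inferInstance, inferInstance, hK, (pres_iff_two hm hab h2 hK g).mpr hg⟩
  · have hodd : Odd (Fintype.card F) := by
      rw [Nat.odd_iff]
      exact FiniteField.odd_card_of_char_ne_two fun h => h2 (by
        haveI := ringChar.of_eq h; exact CharTwo.two_eq_zero)
    obtain ⟨G, hG, hN, hmul, hδ⟩ := PGO.inndiagMinus_set hodd hm hab
    let D := PGO.minusData hodd hm hab
    have hGp : G = PGO.propSub (Qm m a b) :=
      D.mem_G₀_eq hN hmul D.prop_Ns D.prop_mul (by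
        rw [hδ, PGO.Data.δ_prop, show PGO.half ((Fin m ⊕ Fin m) ⊕ Fin 2) = m + 1 by
            simp only [PGO.half, Fintype.card_sum, Fintype.card_fin]; omega,
          Nat.even_add_one, Nat.not_even_iff_odd])
    rw [Gd_odd h2, ← hGp, hG]

include hm hab in
/-- The inner-diagonal group of the minus form. -/
theorem inndiag_eq :
    Subgroup.closure {β : MulAut (Cfsg.POmega F ⇑(Qm m a b)) | ∃ g : GL ((Fin m ⊕ Fin m) ⊕ Fin 2) F,
      g ∈ Cfsg.Geo.quadSimilarityGroup (F := F) ⇑(Qm m a b) ∧ Cfsg.PreservesSingularClassesMinus m a b g.1 ∧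
        Cfsg.IsInducedBySemilinearPOmega (⇑(Qm m a b)) g (RingEquiv.refl F) β} =
      (Gd (Qm m a b)).map (PGO.Θ (Qm m a b)) :=
  PGO.closure_induced (Qm m a b) (fun g => Cfsg.PreservesSingularClassesMinus m a b g.1) (Gd (Qm m a b))
    (preserves_iff hm hab)

include hab in
/-- The minus forms are isometric. -/
theorem minus_iso {a' b' : F} (hab' : ∀ z₁ z₂ : F, z₁ ^ 2 + a' * z₁ * z₂ + b' * z₂ ^ 2 = 0 → z₁ = 0 ∧ z₂ = 0) :
    ∃ P : GL ((Fin m ⊕ Fin m) ⊕ Fin 2) F, ∀ v, Qm m a b (P.1 *ᵥ v) = Qm m a' b' v := by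
  haveI := Fact.mk (binPoly_irr hab)
  let K := AdjoinRoot (binPoly a b)
  have hK : finrank F K = 2 := by
    rw [(AdjoinRoot.powerBasis (binPoly_irr hab).ne_zero).finrank, AdjoinRoot.powerBasis_dim, binPoly_degree]
  obtain ⟨ρ, hρ⟩ := exists_root hab K hK
  obtain ⟨ρ', hρ'⟩ := exists_root hab' K hK
  let φ := algebraMap F K
  obtain ⟨u, v, huv⟩ := coord_surj hab hρ hK ρ'
  have hv : v ≠ 0 := fun h0 => root_notMem hab' hρ' u (by rw [← huv, h0, map_zero, zero_mul, add_zero])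
  let g₂ : Matrix (Fin 2) (Fin 2) F := !![1, u; 0, v]
  let M : Matrix ((Fin m ⊕ Fin m) ⊕ Fin 2) ((Fin m ⊕ Fin m) ⊕ Fin 2) F := Matrix.fromBlocks 1 0 0 g₂
  have hdet : M.det ≠ 0 := by simp [M, g₂, Matrix.det_fromBlocks_zero₂₁, Matrix.det_fin_two, hv]
  refine ⟨Matrix.GeneralLinearGroup.mkOfDetNeZero M hdet, fun z => ?_⟩
  show Qm m a b (M *ᵥ z) = _
  have hl : ∀ i, (M *ᵥ z) (Sum.inl i) = z (Sum.inl i) := fun i => by simp [M, Matrix.fromBlocks_mulVec]
  have hb : φ ((M *ᵥ z) (Sum.inr 0)) + φ ((M *ᵥ z) (Sum.inr 1)) * ρ =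
      φ (z (Sum.inr 0)) + φ (z (Sum.inr 1)) * ρ' := by
    rw [← huv]
    simp [M, g₂, Matrix.fromBlocks_mulVec, Matrix.mulVec, dotProduct, Fin.sum_univ_two, φ]
    ring
  have h1 := norm_eq hab hρ ((M *ᵥ z) (Sum.inr 0)) ((M *ᵥ z) (Sum.inr 1))
  rw [hb, norm_eq hab' hρ'] at h1
  have h2 := φ.injective h1
  simp only [Qm_apply, Cfsg.quadFormMinus, hl]
  linear_combination -h2

section Frames

variable {F₀ : Type v} [Field F₀] [Fintype F₀] {emb : F₀ →+* F} {h : GL ((Fin m ⊕ Fin m) ⊕ Fin 2) F} {bb : F}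
  {R₀ : QuadraticForm F₀ ((Fin m ⊕ Fin m) ⊕ Fin 2 → F₀)} (hfr : IsFrame emb (Qm m a b) h bb R₀)

include hab hfr in
/-- The form of a frame is of minus type. -/
theorem frame_minus :
    ∃ c : F₀, (∀ z₁ z₂ : F₀, z₁ ^ 2 + 1 * z₁ * z₂ + c * z₂ ^ 2 = 0 → z₁ = 0 ∧ z₂ = 0) ∧
      ∃ P : GL ((Fin m ⊕ Fin m) ⊕ Fin 2) F₀, ∀ v, R₀ (P.1 *ᵥ v) = Qm m 1 c v := by
  have hR := frame_nondeg emb (Qm_nondeg m hab) hfr
  have hd : finrank F₀ ((Fin m ⊕ Fin m) ⊕ Fin 2 → F₀) = 2 * (m + 1) := by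
    rw [Module.finrank_fintype_fun_eq_card]; simp; omega
  have hdich := FiniteForms.even_dichotomy (Q := R₀) (fun x hx => hR.1 x hx) (by omega) hd
  rw [show m + 1 - 1 = m from Nat.add_sub_cancel m 1] at hdich
  rcases hdich with ⟨e, f, hef⟩ | ⟨e, f, x, y, hef, hx, hy, hQx, hxy, ht, hli⟩
  · exfalso
    let w : Fin (m + 1) → ((Fin m ⊕ Fin m) ⊕ Fin 2 → F) := fun i => h.1 *ᵥ up emb (e i)
    have hpol : ∀ s t, polar (Qm m a b) (h.1 *ᵥ up emb s) (h.1 *ᵥ up emb t) = bb⁻¹ * emb (polar R₀ s t) := by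
      intro s t
      simp only [polar, ← Matrix.mulVec_add, ← up_add, frame_value hfr, map_sub]
      ring
    have hli : LinearIndependent F w := Fintype.linearIndependent_iff.mpr fun c hc j => by
      have := congrArg (fun z => polarBilin (Qm m a b) z (h.1 *ᵥ up emb (f j))) hc
      simp only [map_sum, map_smul, LinearMap.coe_sum, Finset.sum_apply, LinearMap.smul_apply, smul_eq_mul,
        map_zero, LinearMap.zero_apply, polarBilin_apply_apply, w, hpol, hef.ef] at this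
      rw [Finset.sum_eq_single j (fun i _ hij => by rw [if_neg hij, map_zero, mul_zero, mul_zero])
        (fun h' => absurd (Finset.mem_univ j) h'), if_pos rfl, map_one, mul_one] at this
      exact (mul_eq_zero.mp this).resolve_right (inv_ne_zero hfr.1)
    have hs : ∀ z ∈ Submodule.span F (Set.range w), Qm m a b z = 0 := by
      intro z hz
      obtain ⟨c, rfl⟩ := (Submodule.mem_span_range_iff_exists_fun F).mp hz
      exact FiniteForms.quad_sum_eq_zero _ c w (fun i => by rw [frame_value hfr, hef.qe, map_zero, mul_zero])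
        fun i j => by rw [hpol, hef.ee, map_zero, mul_zero]
    have := minus_singular_le hab _ hs
    rw [finrank_span_eq_card hli, Fintype.card_fin] at this
    omega
  · obtain ⟨g, hg⟩ := FiniteForms.isometry_of_elliptic hef hx hy hxy hQx hli (by rw [hd]; omega)
    have hc : ∀ z₁ z₂ : F₀, z₁ ^ 2 + 1 * z₁ * z₂ + R₀ y * z₂ ^ 2 = 0 → z₁ = 0 ∧ z₂ = 0 := by
      intro z₁ z₂ hz
      by_cases h2 : z₂ = 0
      · subst h2; exact ⟨pow_eq_zero_iff two_ne_zero |>.mp (by linear_combination hz), rfl⟩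
      · exact absurd (by field_simp; linear_combination hz) (ht (z₁ / z₂))
    refine ⟨R₀ y, hc, ?_⟩
    refine ⟨Matrix.GeneralLinearGroup.toLin.symm (LinearMap.GeneralLinearGroup.ofLinearEquiv g.symm),
      fun v => ?_⟩
    show R₀ (LinearMap.toMatrix' g.symm.toLinearMap *ᵥ v) = _
    rw [LinearMap.toMatrix'_mulVec, LinearEquiv.coe_coe, hg, LinearEquiv.apply_symm_apply, Qm_apply]

include hfr in
/-- A change of the form of a frame. -/
theorem change_frame {P : GL ((Fin m ⊕ Fin m) ⊕ Fin 2) F₀} {Q₁ : QuadraticForm F₀ ((Fin m ⊕ Fin m) ⊕ Fin 2 → F₀)}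
    (hP : ∀ v, R₀ (P.1 *ᵥ v) = Q₁ v) {σ : RingAut F} (hι : ∀ y, σ y = y ↔ y ∈ emb.range) :
    IsFrame emb (Qm m a b) (h * Matrix.GeneralLinearGroup.map emb P) bb Q₁ ∧
      fel (h * Matrix.GeneralLinearGroup.map emb P) σ = fel h σ := by
  refine ⟨⟨hfr.1, fun v => ?_⟩, SemidirectProduct.ext ?_ rfl⟩
  · rw [← hP, hfr.2, Units.val_mul, ← Matrix.mulVec_mulVec, up_mulVec]; rfl
  · simp only [fel, _root_.mul_inv_rev, map_mul, map_inv, map_fixed emb hι]
    group

end Frames

end CfsgLib.OrthMinus
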