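import Cfsg.Agent.Lib.OrthAut.Semi
import Mathlib.GroupTheory.SemidirectProduct

/-!
The group of semisimilarities as a subgroup of `GL ⋊ RingAut`, acting on `PΩ`.
-/

set_option autoImplicit false
set_option linter.unusedSectionVars false
set_option linter.style.haveILetI false
set_option linter.unusedSimpArgs false

namespace CfsgLib.OrthPair

open QuadraticMap Module CfsgLib.OrthAut
open scoped Matrix

variable {F : Type*} [Field F] [Fintype F] {ι : Type} [Fintype ι] [DecidableEq ι]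

variable (F ι) in
/-- Entrywise action on invertible matrices. -/
def σA : RingAut F →* MulAut (GL ι F) where
  toFun σ :=
    { PGO.σM σ with
      invFun := PGO.σM (σ⁻¹ : RingAut F)
      left_inv := fun x => Units.ext (Matrix.ext fun i j => σ.symm_apply_apply _)
      right_inv := fun x => Units.ext (Matrix.ext fun i j => σ.apply_symm_apply _) }
  map_one' := MulEquiv.ext fun x => Units.ext (Matrix.ext fun i j => rfl)
  map_mul' σ τ := MulEquiv.ext fun x => Units.ext (Matrix.ext fun i j => rfl)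

theorem σA_val (σ : RingAut F) (x : GL ι F) : (σA F ι σ x).1 = x.1.map σ := rfl

variable (F ι) in
/-- Invertible semilinear maps. -/
abbrev SL : Type _ := GL ι F ⋊[σA F ι] RingAut F

instance : Finite (SL F ι) :=
  haveI : Finite (RingAut F) := Finite.of_injective (fun σ => (σ : F → F)) DFunLike.coe_injective
  Finite.of_equiv _ SemidirectProduct.equivProd.symm

/-- The semisimilarities of a form. -/
def ΓO (Q : QuadraticForm F (ι → F)) : Subgroup (SL F ι) :=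
  let S : Submonoid (SL F ι) :=
    { carrier := {p | Cfsg.IsSemisimilarityPair (⇑Q) p.left p.right}
      one_mem' := ⟨1, fun v => by simp⟩
      mul_mem' := fun {a b} ha hb => PGO.semi_pair_mul Q ha hb }
  { S with
    inv_mem' := fun {a} ha => by
      show a⁻¹ ∈ S
      rw [show a⁻¹ = a ^ (orderOf a - 1) from inv_eq_of_mul_eq_one_right (by
        rw [← pow_succ', Nat.sub_add_cancel (orderOf_pos a), pow_orderOf_eq_one])]
      exact pow_mem ha _ }

variable {Q : QuadraticForm F (ι → F)}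

theorem mem_ΓO {p : SL F ι} : p ∈ ΓO Q ↔ Cfsg.IsSemisimilarityPair (⇑Q) p.left p.right := Iff.rfl

theorem semi_iso' (γ : ΓO Q) {x : GL ι F} (hx : x ∈ Cfsg.isometryGroup F ⇑Q) :
    γ.1.left * σA F ι γ.1.right x * γ.1.left⁻¹ ∈ Cfsg.isometryGroup F ⇑Q := by
  obtain ⟨c, hc⟩ := mem_ΓO.mp γ.2
  exact PGO.semi_iso Q hc hx

/-- The action on `Ω`. -/
def omS (γ : ΓO Q) : Cfsg.Omega F ⇑Q →* Cfsg.Omega F ⇑Q :=
  MonoidHom.mk' (fun s => ⟨⟨_, semi_iso' γ s.1.2⟩, by
    obtain ⟨s', hs'⟩ := PGO.semiRel_exists Q (mem_ΓO.mp γ.2) s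
    have e : (⟨_, semi_iso' γ s.1.2⟩ : Cfsg.isometryGroup F ⇑Q) = s'.1 := Subtype.ext hs'.symm
    rw [e]; exact s'.2⟩) fun s t => Subtype.ext (Subtype.ext (by
      show γ.1.left * σA F ι γ.1.right (s.1.1 * t.1.1) * γ.1.left⁻¹ =
        γ.1.left * σA F ι γ.1.right s.1.1 * γ.1.left⁻¹ * (γ.1.left * σA F ι γ.1.right t.1.1 * γ.1.left⁻¹)
      rw [map_mul]; group))

theorem omS_val (γ : ΓO Q) (s : Cfsg.Omega F ⇑Q) :
    (omS γ s).1.1 = γ.1.left * σA F ι γ.1.right s.1.1 * γ.1.left⁻¹ := rfl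

theorem omS_mul (γ δ : ΓO Q) (s : Cfsg.Omega F ⇑Q) : omS (γ * δ) s = omS γ (omS δ s) :=
  Subtype.ext (Subtype.ext (by
    rw [omS_val, omS_val, omS_val, Subgroup.coe_mul, SemidirectProduct.mul_left, SemidirectProduct.mul_right,
      map_mul (σA F ι), MulAut.mul_apply, map_mul, map_mul, map_inv, _root_.mul_inv_rev]
    group))

theorem omS_one (s : Cfsg.Omega F ⇑Q) : omS (1 : ΓO Q) s = s :=
  Subtype.ext (Subtype.ext (by
    rw [omS_val, OneMemClass.coe_one, SemidirectProduct.one_left, SemidirectProduct.one_right, map_one,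
      MulAut.one_apply, one_mul, inv_one, mul_one]))

/-- The action on `Ω` by automorphisms. -/
def omH : ΓO Q →* MulAut (Cfsg.Omega F ⇑Q) where
  toFun γ :=
    { omS γ with
      invFun := omS γ⁻¹
      left_inv := fun s => show omS γ⁻¹ (omS γ s) = s by rw [← omS_mul, inv_mul_cancel, omS_one]
      right_inv := fun s => show omS γ (omS γ⁻¹ s) = s by rw [← omS_mul, mul_inv_cancel, omS_one] }
  map_one' := MulEquiv.ext omS_one
  map_mul' γ δ := MulEquiv.ext (omS_mul γ δ)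

/-- The action on `PΩ`. -/
noncomputable def Ψ : ΓO Q →* MulAut (Cfsg.POmega F ⇑Q) :=
  (PSL2.centreQuotAut (Cfsg.Omega F ⇑Q)).comp omH

theorem Ψ_mk (γ : ΓO Q) (s : Cfsg.Omega F ⇑Q) : Ψ γ (QuotientGroup.mk s) = QuotientGroup.mk (omS γ s) := rfl

theorem Ψ_induced (γ : ΓO Q) : Cfsg.IsInducedBySemilinearPOmega (⇑Q) γ.1.left γ.1.right (Ψ γ) := fun s s' h => by
  rw [Ψ_mk]
  congr 1
  exact Subtype.ext (Subtype.ext (Units.ext h.symm))

theorem eq_Ψ (γ : ΓO Q) {β : MulAut (Cfsg.POmega F ⇑Q)}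
    (h : Cfsg.IsInducedBySemilinearPOmega (⇑Q) γ.1.left γ.1.right β) : β = Ψ γ :=
  MulEquiv.ext fun a => QuotientGroup.induction_on a fun s => h s (omS γ s) rfl

theorem Ψ_surjective (hQ : (polarBilin Q).Nondegenerate) (hn : 7 ≤ Fintype.card ι)
    (hmax : (∀ W : Submodule F (ι → F), (∀ a ∈ W, Q a = 0) → 2 * finrank F W < Fintype.card ι) ∨
      10 ≤ Fintype.card ι) : Function.Surjective (Ψ : ΓO Q →* _) := fun β => by
  obtain ⟨g, σ, hs, h⟩ := exists_semi Q hQ hn hmax β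
  exact ⟨⟨⟨g, σ⟩, hs⟩, (eq_Ψ ⟨⟨g, σ⟩, hs⟩ h).symm⟩

theorem Ψ_eq_one (hQ : (polarBilin Q).Nondegenerate) (hn : 7 ≤ Fintype.card ι) (γ : ΓO Q) :
    Ψ γ = 1 ↔ γ.1.right = 1 ∧ ∃ c : Fˣ, γ.1.left = PGO.sc c := by
  constructor
  · intro h
    exact semi_one hQ hn (mem_ΓO.mp γ.2) (h ▸ Ψ_induced γ)
  · rintro ⟨h1, c, hc⟩
    refine MulEquiv.ext fun a => QuotientGroup.induction_on a fun s => ?_
    rw [Ψ_mk, MulAut.one_apply]
    congr 1
    refine Subtype.ext (Subtype.ext ?_)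
    rw [omS_val, h1, map_one, MulAut.one_apply, hc, PGO.sc_comm]
    group

/-- Similitudes as semisimilarities. -/
def ofGO : PGO.GO Q →* ΓO Q :=
  (SemidirectProduct.inl.comp (PGO.GO Q).subtype).codRestrict (ΓO Q) fun g => by
    obtain ⟨c, hc⟩ := g.2
    exact ⟨c, hc⟩

theorem ofGO_left (g : PGO.GO Q) : (ofGO g).1.left = g.1 := rfl

theorem ofGO_right (g : PGO.GO Q) : (ofGO g).1.right = 1 := rfl

theorem Ψ_ofGO (g : PGO.GO Q) : Ψ (ofGO g) = PGO.Θ Q g :=
  (PGO.induced_iff Q g _).mp (Ψ_induced (ofGO g))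

/-- A semisimilarity without field part. -/
theorem exists_ofGO {γ : ΓO Q} (h : γ.1.right = 1) : ∃ g : PGO.GO Q, γ = ofGO g := by
  obtain ⟨c, hc⟩ := mem_ΓO.mp γ.2
  refine ⟨⟨γ.1.left, ⟨c, fun v => ?_⟩⟩, Subtype.ext (SemidirectProduct.ext rfl h)⟩
  have := hc v
  rw [h] at this
  exact this

theorem conj_ofGO (γ : ΓO Q) (x : PGO.GO Q) :
    ∃ y : PGO.GO Q, y.1 = γ.1.left * σA F ι γ.1.right x.1 * γ.1.left⁻¹ ∧ γ * ofGO x * γ⁻¹ = ofGO y := by
  obtain ⟨y, hy⟩ := exists_ofGO (γ := γ * ofGO x * γ⁻¹) (by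
    simp only [Subgroup.coe_mul, Subgroup.coe_inv, SemidirectProduct.mul_right, SemidirectProduct.inv_right,
      ofGO_right, mul_one, mul_inv_cancel])
  refine ⟨y, ?_, hy⟩
  rw [← ofGO_left, ← hy]
  simp only [Subgroup.coe_mul, Subgroup.coe_inv, SemidirectProduct.mul_left, SemidirectProduct.mul_right,
    SemidirectProduct.inv_left, ofGO_right, ofGO_left, mul_one, map_inv, MulAut.apply_inv_self]

/-- The field part of an automorphism. -/
theorem exists_fieldPart (hQ : (polarBilin Q).Nondegenerate) (hn : 7 ≤ Fintype.card ι)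
    (hmax : (∀ W : Submodule F (ι → F), (∀ a ∈ W, Q a = 0) → 2 * finrank F W < Fintype.card ι) ∨
      10 ≤ Fintype.card ι) :
    ∃ π : MulAut (Cfsg.POmega F ⇑Q) →* RingAut F,
      π.ker = (PGO.Θ Q).range ∧ ∀ γ : ΓO Q, π (Ψ γ) = γ.1.right := by
  let r : ΓO Q →* RingAut F := SemidirectProduct.rightHom.comp (ΓO Q).subtype
  have hker : (Ψ : ΓO Q →* _).ker ≤ r.ker := fun γ hγ => ((Ψ_eq_one hQ hn γ).mp hγ).1
  let π := (Ψ : ΓO Q →* _).liftOfSurjective (Ψ_surjective hQ hn hmax) ⟨r, hker⟩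
  have hπ : ∀ γ : ΓO Q, π (Ψ γ) = γ.1.right := fun γ => MonoidHom.liftOfRightInverse_comp_apply _ _ _ _ γ
  refine ⟨π, ?_, hπ⟩
  ext β
  obtain ⟨γ, rfl⟩ := Ψ_surjective hQ hn hmax β
  rw [MonoidHom.mem_ker, hπ]
  constructor
  · intro h
    obtain ⟨g, rfl⟩ := exists_ofGO h
    exact ⟨g, (Ψ_ofGO g).symm⟩
  · rintro ⟨g, hg⟩
    rw [← Ψ_ofGO, ← mul_inv_eq_one, ← map_inv, ← map_mul] at hg
    have := ((Ψ_eq_one hQ hn _).mp hg).1
    simpa [ofGO_right] using this

theorem range_normal (hQ : (polarBilin Q).Nondegenerate) (hn : 7 ≤ Fintype.card ι)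
    (hmax : (∀ W : Submodule F (ι → F), (∀ a ∈ W, Q a = 0) → 2 * finrank F W < Fintype.card ι) ∨
      10 ≤ Fintype.card ι) : (PGO.Θ Q).range.Normal := by
  obtain ⟨π, hπ, -⟩ := exists_fieldPart hQ hn hmax
  rw [← hπ]; infer_instance

end CfsgLib.OrthPair
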