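import Cfsg.Agent.Lib.OrthAut.MinusField

/-!
The orthogonal groups of plus type: the parity of a semisimilarity and the frames of automorphisms of prime order.
-/

set_option autoImplicit false
set_option linter.unusedSectionVars false
set_option linter.style.haveILetI false
set_option linter.unusedSimpArgs false
set_option maxHeartbeats 800000

namespace CfsgLib.OrthPair

open QuadraticMap Module CfsgLib.OrthAut
open scoped Matrix

variable {F : Type*} [Field F] [Fintype F] {ι : Type} [Fintype ι] [DecidableEq ι]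
  {F₀ : Type*} [Field F₀] [Fintype F₀] {emb : F₀ →+* F} {Q : QuadraticForm F (ι → F)} {h : GL ι F} {b : F}
  {R₀ Q₁ : QuadraticForm F₀ (ι → F₀)}

theorem change_frame (hfr : IsFrame emb Q h b R₀) {P : GL ι F₀} (hP : ∀ v, R₀ (P.1 *ᵥ v) = Q₁ v) {σ : RingAut F}
    (hι : ∀ y, σ y = y ↔ y ∈ emb.range) :
    IsFrame emb Q (h * Matrix.GeneralLinearGroup.map emb P) b Q₁ ∧
      fel (h * Matrix.GeneralLinearGroup.map emb P) σ = fel h σ := by
  refine ⟨⟨hfr.1, fun v => ?_⟩, SemidirectProduct.ext ?_ rfl⟩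
  · rw [← hP, hfr.2, Units.val_mul, ← Matrix.mulVec_mulVec, up_mulVec]; rfl
  · simp only [fel, _root_.mul_inv_rev, map_mul, map_inv, map_fixed emb hι]
    group

theorem orderOf_right {γ : ΓO Q} (hQ : (polarBilin Q).Nondegenerate) (hn : 7 ≤ Fintype.card ι) {r : ℕ}
    (hr : r.Prime) (h : Ψ γ ^ r = 1) (hne : γ.1.right ≠ 1) : orderOf γ.1.right = r := by
  rw [← map_pow] at h
  have h1 := ((Ψ_eq_one hQ hn _).mp h).1
  rw [SubmonoidClass.coe_pow, show (γ.1 ^ r).right = γ.1.right ^ r from map_pow SemidirectProduct.rightHom γ.1 r]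
    at h1
  exact (hr.eq_one_or_self_of_dvd _ (orderOf_dvd_of_pow_eq_one h1)).resolve_left
    fun e => hne (orderOf_eq_one_iff.mp e)

end CfsgLib.OrthPair

namespace CfsgLib.OrthPlus

open QuadraticMap Module CfsgLib.OrthAut CfsgLib.OrthPair
open CfsgLib.Lagrangian (Qp Qp_apply Qp_nondeg)
open CfsgLib.StdQuadForms (Qm Qm_apply)
open scoped Matrix

universe u v w

variable {F : Type u} [Field F] [Fintype F] {m : ℕ} (hm : 5 ≤ m)

include hm in
theorem hn_plus : 7 ≤ Fintype.card (Fin m ⊕ Fin m) := by simp; omega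

theorem hev_plus : Even (Fintype.card (Fin m ⊕ Fin m)) := ⟨m, by simp⟩

include hm in
theorem hmax_plus : (∀ W : Submodule F (Fin m ⊕ Fin m → F), (∀ x ∈ W, Qp m F x = 0) →
    2 * finrank F W < Fintype.card (Fin m ⊕ Fin m)) ∨ 10 ≤ Fintype.card (Fin m ⊕ Fin m) :=
  Or.inr (by simp; omega)

theorem plus_value (c : F) (hm0 : 0 < m) :
    Qp m F (Pi.single (Sum.inl ⟨0, hm0⟩) 1 + Pi.single (Sum.inr ⟨0, hm0⟩) c) = c := by
  rw [Qp_apply]; simp [Cfsg.quadFormPlus, Pi.single_apply]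

include hm in
theorem preserves_iff (g : PGO.GO (Qp m F)) :
    Cfsg.PreservesSingularClasses (Cfsg.quadFormPlus m F) g.1.1 ↔ g ∈ Gd (Qp m F) := by
  rw [PGO.Hyp.preserves_iff (PGO.hypPlus (F := F) (m := m)) g.1 (PGO.hρ_plus g)]
  suffices h : PGO.G₀Plus m F = Gd (Qp m F) by rw [← h]; rfl
  by_cases h2 : (2 : F) = 0
  · refine eq_Gd_two Qp_nondeg hev_plus (hn_plus hm) h2 PGO.G₀Plus_Ns ?_
    have hv : Qp m F (Pi.single (Sum.inl ⟨0, by omega⟩) 1 + Pi.single (Sum.inr ⟨0, by omega⟩) 1) ≠ 0 := by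
      rw [plus_value]; exact one_ne_zero
    obtain ⟨r, hr⟩ := exists_refl hv
    exact ⟨r, fun hmem => (PGO.hypPlus (F := F) (m := m)).pres_refl r.1 (Qp m F) (fun x => (Qp_apply x).symm)
      hv hr hmem⟩
  · have hodd : Odd (Fintype.card F) := by
      rw [Nat.odd_iff]
      exact FiniteField.odd_card_of_char_ne_two fun h => h2 (by
        haveI := ringChar.of_eq h; exact CharTwo.two_eq_zero)
    rw [Gd_odd h2]
    let D := PGO.plusData (F := F) (m := m) hodd (by omega)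
    refine D.mem_G₀_eq PGO.G₀Plus_Ns (PGO.G₀Plus_mul D) D.prop_Ns D.prop_mul ?_
    rw [PGO.G₀Plus_δ, PGO.Data.δ_prop, show PGO.half (Fin m ⊕ Fin m) = m by
      simp only [PGO.half, Fintype.card_sum, Fintype.card_fin]; omega]

include hm in
/-- The inner-diagonal group of the plus form. -/
theorem inndiag_eq :
    Subgroup.closure {β : MulAut (Cfsg.POmega F ⇑(Qp m F)) | ∃ g : GL (Fin m ⊕ Fin m) F,
      g ∈ Cfsg.Geo.quadSimilarityGroup (F := F) ⇑(Qp m F) ∧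
        Cfsg.PreservesSingularClasses (Cfsg.quadFormPlus m F) g.1 ∧
        Cfsg.IsInducedBySemilinearPOmega (⇑(Qp m F)) g (RingEquiv.refl F) β} =
      (Gd (Qp m F)).map (PGO.Θ (Qp m F)) :=
  PGO.closure_induced (Qp m F) (fun g => Cfsg.PreservesSingularClasses (Cfsg.quadFormPlus m F) g.1) (Gd (Qp m F))
    (preserves_iff hm)

theorem inndiag_def (m : ℕ) (F : Type w) [Field F] :
    Cfsg.inndiagPOmegaPlus m F =
      Subgroup.closure {β : MulAut (Cfsg.POmega F (Cfsg.quadFormPlus m F)) | ∃ g : GL (Fin m ⊕ Fin m) F,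
        g ∈ Cfsg.Geo.quadSimilarityGroup (F := F) (Cfsg.quadFormPlus m F) ∧
          Cfsg.PreservesSingularClasses (Cfsg.quadFormPlus m F) g.1 ∧
          Cfsg.IsInducedBySemilinearPOmega (Cfsg.quadFormPlus m F) g (RingEquiv.refl F) β} := rfl

/-- The standard semilinear map. -/
def es (σ : RingAut F) : ΓO (Qp m F) :=
  ⟨⟨1, σ⟩, 1, fun v => by simp [Qp_apply, Cfsg.quadFormPlus, map_sum]⟩

theorem es_left (σ : RingAut F) : (es (m := m) σ).1.left = 1 := rfl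

theorem es_right (σ : RingAut F) : (es (m := m) σ).1.right = σ := rfl

/-- The linear part of a semisimilarity of the plus form. -/
def lp (γ : ΓO (Qp m F)) : PGO.GO (Qp m F) :=
  ⟨γ.1.left, by
    obtain ⟨c, hc⟩ := mem_ΓO.mp γ.2
    refine ⟨c, fun w => ?_⟩
    obtain ⟨c', hc'⟩ := mem_ΓO.mp (es (m := m) γ.1.right).2
    have h1 := hc (σv γ.1.right.symm w)
    have h2 : Qp m F w = γ.1.right (Qp m F (σv γ.1.right.symm w)) := by
      simp [Qp_apply, Cfsg.quadFormPlus, map_sum, σv]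
    rw [h2, ← h1]
    congr 2
    exact funext fun i => (γ.1.right.apply_symm_apply _).symm⟩

theorem lp_val (γ : ΓO (Qp m F)) : (lp γ).1 = γ.1.left := rfl

theorem lp_ofGO (g : PGO.GO (Qp m F)) : lp (ofGO g) = g := rfl

include hm in
theorem Gd_σ (σ : RingAut F) {x y : PGO.GO (Qp m F)} (hy : y.1 = σA F _ σ x.1) :
    y ∈ Gd (Qp m F) ↔ x ∈ Gd (Qp m F) := by
  refine ⟨fun h => ?_, fun h => Gd_conj Qp_nondeg hev_plus (hn_plus hm) (es σ) (by
    rw [hy, es_left, es_right, one_mul, inv_one, mul_one]) h⟩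
  refine Gd_conj Qp_nondeg hev_plus (hn_plus hm) (es σ⁻¹) ?_ h
  rw [hy, es_left, es_right, one_mul, inv_one, mul_one, ← MulAut.mul_apply, ← map_mul, inv_mul_cancel, map_one,
    MulAut.one_apply]

include hm in
theorem lp_mul_iff (γ δ : ΓO (Qp m F)) :
    lp (γ * δ) ∈ Gd (Qp m F) ↔ (lp γ ∈ Gd (Qp m F) ↔ lp δ ∈ Gd (Qp m F)) := by
  obtain ⟨y, hy, -⟩ := conj_ofGO (es γ.1.right) (lp δ)
  rw [es_left, es_right, one_mul, inv_one, mul_one] at hy
  have e : lp (γ * δ) = lp γ * y := Subtype.ext (by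
    rw [Subgroup.coe_mul, hy, lp_val, lp_val, lp_val, Subgroup.coe_mul, SemidirectProduct.mul_left])
  rw [e, Subgroup.mul_mem_iff_of_index_two (Gd_index Qp_nondeg hev_plus (hn_plus hm)), Gd_σ hm _ hy]

include hm in
theorem lp_one : lp (1 : ΓO (Qp m F)) ∈ Gd (Qp m F) := by
  rw [show lp (1 : ΓO (Qp m F)) = 1 from Subtype.ext rfl]; exact one_mem _

include hm in
theorem lp_conj_iff (γ δ : ΓO (Qp m F)) : lp (δ * γ * δ⁻¹) ∈ Gd (Qp m F) ↔ lp γ ∈ Gd (Qp m F) := by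
  have h1 := lp_one (F := F) hm
  rw [← mul_inv_cancel δ, lp_mul_iff hm] at h1
  rw [lp_mul_iff hm, lp_mul_iff hm]
  tauto

include hm in
theorem lp_sc_mul {γ δ : ΓO (Qp m F)} {c : Fˣ} (hl : γ.1.left = PGO.sc c * δ.1.left) :
    lp γ ∈ Gd (Qp m F) ↔ lp δ ∈ Gd (Qp m F) := by
  have hc : (⟨PGO.sc c, PGO.sc_mem _ c⟩ : PGO.GO (Qp m F)) ∈ Gd (Qp m F) :=
    Ns_le_Gd Qp_nondeg hev_plus (hn_plus hm) ⟨c, 1, one_mem _, (mul_one _).symm⟩
  rw [show lp γ = ⟨PGO.sc c, PGO.sc_mem _ c⟩ * lp δ from Subtype.ext hl, mul_mem_cancel_left hc]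

/-- The forms of minus type in even dimension. -/
def IsMinus {F₀ : Type v} [Field F₀] (R₀ : QuadraticForm F₀ (Fin m ⊕ Fin m → F₀)) : Prop :=
  ∃ c : F₀, (∀ z₁ z₂ : F₀, z₁ ^ 2 + 1 * z₁ * z₂ + c * z₂ ^ 2 = 0 → z₁ = 0 ∧ z₂ = 0) ∧
    ∃ g : (Fin m ⊕ Fin m → F₀) ≃ₗ[F₀] ((Fin (m - 1) ⊕ Fin (m - 1)) ⊕ Fin 2 → F₀),
      ∀ v, R₀ v = Qm (m - 1) 1 c (g v)

variable {F₀ : Type v} [Field F₀] [Fintype F₀] {emb : F₀ →+* F} {σ : RingAut F}
  (hι : ∀ y, σ y = y ↔ y ∈ emb.range) {h : GL (Fin m ⊕ Fin m) F} {b : F}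
  {R₀ : QuadraticForm F₀ (Fin m ⊕ Fin m → F₀)}

theorem minus_similar {R₁ : QuadraticForm F₀ (Fin m ⊕ Fin m → F₀)} (h₀ : IsMinus R₀) (h₁ : IsMinus R₁) :
    ∃ P : GL (Fin m ⊕ Fin m) F₀, ∀ v, R₁ (P.1 *ᵥ v) = R₀ v := by
  obtain ⟨c₀, hc₀, g₀, hg₀⟩ := h₀
  obtain ⟨c₁, hc₁, g₁, hg₁⟩ := h₁
  obtain ⟨P₁, hP₁⟩ := OrthMinus.minus_iso (m := m - 1) hc₁ hc₀
  let e := (g₀.trans (Matrix.GeneralLinearGroup.toLin P₁).toLinearEquiv).trans g₁.symm
  refine ⟨Matrix.GeneralLinearGroup.toLin.symm (LinearMap.GeneralLinearGroup.ofLinearEquiv e), fun v => ?_⟩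
  show R₁ (LinearMap.toMatrix' e.toLinearMap *ᵥ v) = _
  rw [LinearMap.toMatrix'_mulVec, LinearEquiv.coe_coe, hg₁, LinearEquiv.trans_apply, LinearEquiv.trans_apply,
    LinearEquiv.apply_symm_apply, hg₀, ← hP₁]
  rfl

include hm in
theorem frame_type (hfr : IsFrame emb (Qp m F) h b R₀) :
    (∃ P : GL (Fin m ⊕ Fin m) F₀, ∀ v, R₀ (P.1 *ᵥ v) = Qp m F₀ v) ∨ IsMinus R₀ := by
  have hR := frame_nondeg emb Qp_nondeg hfr
  have hd : finrank F₀ (Fin m ⊕ Fin m → F₀) = 2 * m := by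
    rw [Module.finrank_fintype_fun_eq_card]; simp; omega
  rcases FiniteForms.even_dichotomy (Q := R₀) (fun x hx => hR.1 x hx) (by omega) hd with
    ⟨e, f, hef⟩ | ⟨e, f, x, y, hef, hx, hy, hQx, hxy, ht, hli⟩
  · obtain ⟨g, hg⟩ := FiniteForms.isometry_of_hypFam hef hd
    refine Or.inl ⟨Matrix.GeneralLinearGroup.toLin.symm (LinearMap.GeneralLinearGroup.ofLinearEquiv g.symm),
      fun v => ?_⟩
    show R₀ (LinearMap.toMatrix' g.symm.toLinearMap *ᵥ v) = _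
    rw [LinearMap.toMatrix'_mulVec, LinearEquiv.coe_coe, hg, LinearEquiv.apply_symm_apply, Qp_apply]
  · obtain ⟨g, hg⟩ := FiniteForms.isometry_of_elliptic hef hx hy hxy hQx hli (by rw [hd]; omega)
    refine Or.inr ⟨R₀ y, fun z₁ z₂ hz => ?_, g, fun v => by rw [Qm_apply]; exact hg v⟩
    by_cases h2 : z₂ = 0
    · subst h2; exact ⟨pow_eq_zero_iff two_ne_zero |>.mp (by linear_combination hz), rfl⟩
    · exact absurd (by field_simp; linear_combination hz) (ht (z₁ / z₂))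

include hm hι in
theorem plus_frame_mem (hfr : IsFrame emb (Qp m F) h b (Qp m F₀)) :
    lp (⟨fel h σ, fel_mem emb hι hfr⟩ : ΓO (Qp m F)) ∈ Gd (Qp m F) := by
  obtain ⟨B, hB, hBup⟩ := frame_form emb hfr
  have hBQ : B = Qp m F := form_ext_up emb fun v => by
    rw [hBup]; simp [Qp_apply, Cfsg.quadFormPlus, up, map_sum]
  have hk : h ∈ PGO.GO (Qp m F) := ⟨(Units.mk0 b hfr.1)⁻¹, fun w => by
    rw [Units.val_inv_eq_inv_val, Units.val_mk0]
    conv_rhs => rw [← hBQ, hB, ← mul_assoc, inv_mul_cancel₀ hfr.1, one_mul]⟩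
  obtain ⟨y, hy, -⟩ := conj_ofGO (es σ) (⟨h, hk⟩ : PGO.GO (Qp m F))
  rw [es_left, es_right, one_mul, inv_one, mul_one] at hy
  have e : lp (⟨fel h σ, fel_mem emb hι hfr⟩ : ΓO (Qp m F)) = ⟨h, hk⟩ * y⁻¹ := Subtype.ext (by
    rw [Subgroup.coe_mul, Subgroup.coe_inv, hy, lp_val, ← map_inv]; rfl)
  rw [e, Subgroup.mul_mem_iff_of_index_two (Gd_index Qp_nondeg hev_plus (hn_plus hm)), inv_mem_iff, Gd_σ hm _ hy]

include hm hι in
/-- A minus frame has even degree. -/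
theorem minus_even (hfr : IsFrame emb (Qp m F) h b R₀) (hR : IsMinus R₀) : Even (orderOf σ) := by
  by_contra hodd
  rw [Nat.not_even_iff_odd] at hodd
  obtain ⟨c, hc, g, hg⟩ := hR
  obtain ⟨B, hB, hBup⟩ := frame_form emb hfr
  -- anisotropy over the large field
  have hroot : ∀ t : F, t * t - emb 1 * t + emb c ≠ 0 := by
    intro t ht
    have hσ1 : σ t * σ t - emb 1 * σ t + emb c = 0 := by
      have h1 := congrArg σ ht
      simp only [map_add, map_sub, map_mul, map_zero, (hι _).mpr ⟨c, rfl⟩, (hι _).mpr ⟨1, rfl⟩] at h1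
      exact h1
    have hnot : σ t ≠ t := fun e => by
      obtain ⟨t₀, rfl⟩ := (hι t).mp e
      refine OrthMinus.no_root hc t₀ ((map_eq_zero emb).mp ?_)
      simp only [map_add, map_sub, map_mul]
      exact ht
    have hσt : σ t = emb 1 - t := by
      have h0 : (σ t - t) * (σ t + t - emb 1) = 0 := by linear_combination hσ1 - ht
      exact eq_sub_of_add_eq (sub_eq_zero.mp ((mul_eq_zero.mp h0).resolve_left (sub_ne_zero.mpr hnot)))
    have hσ2 : (σ * σ) t = t := by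
      rw [RingAut.mul_apply, hσt, map_sub, (hι _).mpr ⟨1, rfl⟩, hσt, sub_sub_cancel]
    obtain ⟨k, hk⟩ := hodd
    have hev : ∀ i : ℕ, ((σ * σ) ^ i) t = t := fun i => by
      induction i with
      | zero => rfl
      | succ i ih => rw [pow_succ, RingAut.mul_apply, hσ2, ih]
    refine hnot ?_
    have e : (σ * σ) ^ (k + 1) = σ := by
      rw [← pow_two, ← pow_mul, show 2 * (k + 1) = orderOf σ + 1 by omega, pow_succ, pow_orderOf_eq_one, one_mul]
    have := hev (k + 1)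
    rwa [e] at this
  have hc' : ∀ z₁ z₂ : F, z₁ ^ 2 + emb 1 * z₁ * z₂ + emb c * z₂ ^ 2 = 0 → z₁ = 0 ∧ z₂ = 0 := by
    intro z₁ z₂ hz
    by_cases h2 : z₂ = 0
    · subst h2; exact ⟨pow_eq_zero_iff two_ne_zero |>.mp (by linear_combination hz), rfl⟩
    · exact absurd (by field_simp; linear_combination hz) (hroot (-z₁ / z₂))
  -- the coordinates over the large field
  let M := (LinearMap.toMatrix' g.toLinearMap).map emb
  let M' := (LinearMap.toMatrix' g.symm.toLinearMap).map emb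
  have hM : M' * M = 1 := by
    rw [← Matrix.map_mul, ← LinearMap.toMatrix'_comp, g.symm_comp, LinearMap.toMatrix'_id,
      Matrix.map_one _ (map_zero emb) (map_one emb)]
  have hMinj : Function.Injective (M.mulVecLin) := fun x y hxy => by
    simpa [Matrix.mulVec_mulVec, hM] using congrArg (fun z => M' *ᵥ z) hxy
  have key : B = (Qm (m - 1) (emb 1) (emb c)).comp M.mulVecLin := form_ext_up emb fun v => by
    rw [hBup, hg, QuadraticMap.comp_apply, Matrix.mulVecLin_apply]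
    rw [show M *ᵥ up emb v = emb ∘ (g v) from funext fun i => by
      have := RingHom.map_mulVec emb (LinearMap.toMatrix' g.toLinearMap) v i
      rw [LinearMap.toMatrix'_mulVec] at this
      exact this.symm]
    simp [Qm_apply, Cfsg.quadFormMinus, map_sum]
  let H := PGO.hypPlus (F := F) (m := m)
  obtain ⟨hL1, hL2⟩ := H.lag_L₀
  let Φ : (Fin m ⊕ Fin m → F) →ₗ[F] ((Fin (m - 1) ⊕ Fin (m - 1)) ⊕ Fin 2 → F) :=
    M.mulVecLin.comp (h⁻¹).1.mulVecLin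
  have hΦ : Function.Injective Φ := hMinj.comp (Matrix.mulVec_injective_of_isUnit (h⁻¹).isUnit)
  have hsing : ∀ z ∈ H.L₀.map Φ, Qm (m - 1) (emb 1) (emb c) z = 0 := by
    rintro _ ⟨x, hx, rfl⟩
    have h1 := hB ((h⁻¹).1 *ᵥ x)
    rw [key, Matrix.mulVec_mulVec, Units.mul_inv, Matrix.one_mulVec, Qp_apply, hL2 x hx, mul_zero] at h1
    exact h1
  have h2 := minus_singular_le hc' _ hsing
  rw [← (Submodule.equivMapOfInjective Φ hΦ H.L₀).finrank_eq, hL1] at h2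
  omega

include hm hι in
theorem minus_frame_notMem (h2 : orderOf σ = 2) (hfr : IsFrame emb (Qp m F) h b R₀) (hR : IsMinus R₀) :
    lp (⟨fel h σ, fel_mem emb hι hfr⟩ : ΓO (Qp m F)) ∉ Gd (Qp m F) := by
  have hn := hn_plus hm
  have hfr1 : IsFrame emb (Qp m F) 1 1 (Qp m F₀) := ⟨one_ne_zero, fun v => by
    rw [one_mul, Units.val_one, Matrix.one_mulVec]; simp [Qp_apply, Cfsg.quadFormPlus, up, map_sum]⟩
  have hv : Qp m F₀ (Pi.single (Sum.inl ⟨0, by omega⟩) 1 + Pi.single (Sum.inr ⟨0, by omega⟩) 1) ≠ 0 := by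
    rw [plus_value]; exact one_ne_zero
  obtain ⟨r₀, hr₀⟩ := exists_refl hv
  obtain ⟨γ', hγ'⟩ : ∃ γ' : ΓO (Qp m F),
      γ' = ofGO (inclH emb hfr1 r₀) * ⟨fel 1 σ, fel_mem emb hι hfr1⟩ := ⟨_, rfl⟩
  have hnot : lp γ' ∉ Gd (Qp m F) := by
    rw [hγ', lp_mul_iff hm, lp_ofGO, iff_true_right (plus_frame_mem hm hι hfr1)]
    refine refl_notMem_Gd Qp_nondeg hev_plus hn ?_ (inclH_refl hfr1 hv hr₀)
    rw [frame_value hfr1]; exact mul_ne_zero (inv_ne_zero hfr1.1) (by simpa using hv)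
  have hright : γ'.1.right = σ := by
    rw [hγ', Subgroup.coe_mul, SemidirectProduct.mul_right, ofGO_right, one_mul]; rfl
  have hsq : Ψ γ' ^ orderOf σ = 1 := by
    have hr2 : r₀ * r₀ = 1 := Subtype.ext (refl_mul_self' hv hr₀)
    have hf : (⟨fel (1 : GL (Fin m ⊕ Fin m) F) σ, fel_mem emb hι hfr1⟩ : ΓO (Qp m F)) ^ 2 = 1 := by
      rw [← Subtype.coe_inj, SubmonoidClass.coe_pow, OneMemClass.coe_one]
      show fel 1 σ ^ 2 = 1
      rw [← h2, ← orderOf_fel (1 : GL (Fin m ⊕ Fin m) F) σ, pow_orderOf_eq_one]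
    rw [← map_pow, hγ', (show Commute (ofGO (inclH emb hfr1 r₀)) (⟨fel 1 σ, fel_mem emb hι hfr1⟩ : ΓO (Qp m F))
      from inclH_commute emb hι hfr1 r₀).mul_pow, h2, hf, mul_one, pow_two, ← map_mul, ← map_mul, hr2, map_one,
      map_one, map_one]
  obtain ⟨c, hh, b', R', hfr', hl⟩ := exists_frame emb hι Qp_nondeg hn γ' hright hsq
  have hnot' : lp (⟨fel hh σ, fel_mem emb hι hfr'⟩ : ΓO (Qp m F)) ∉ Gd (Qp m F) := fun hmem =>
    hnot ((lp_sc_mul hm (δ := ⟨fel hh σ, fel_mem emb hι hfr'⟩) hl).mpr hmem)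
  have hR' : IsMinus R' := by
    refine (frame_type hm hfr').resolve_left fun ⟨P, hP⟩ => hnot' ?_
    obtain ⟨hfr'', he⟩ := OrthPair.change_frame hfr' hP hι
    have := plus_frame_mem hm hι hfr''
    simp only [he] at this
    exact this
  obtain ⟨P, hP⟩ := minus_similar hR hR'
  obtain ⟨k, hk⟩ := conj_frames emb hι hfr hfr' (P := P) (s := 1) one_ne_zero fun v => by rw [hP, one_mul]
  rw [← hk, lp_conj_iff hm] at hnot'
  exact hnot'

include hm hι in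
/-- Lang's theorem for plus type. -/
theorem exists_plus_frame {γ : ΓO (Qp m F)} (hγ : γ.1.right = σ) (hσ : (orderOf σ).Prime)
    (hpow : Ψ γ ^ orderOf σ = 1) :
    ∃ (h : GL (Fin m ⊕ Fin m) F) (b : F) (R₀ : QuadraticForm F₀ (Fin m ⊕ Fin m → F₀))
      (hfr : IsFrame emb (Qp m F) h b R₀),
      Ψ γ = Ψ (⟨fel h σ, fel_mem emb hι hfr⟩ : ΓO (Qp m F)) ∧
        ((lp γ ∈ Gd (Qp m F) ∧ R₀ = Qp m F₀) ∨ (lp γ ∉ Gd (Qp m F) ∧ orderOf σ = 2 ∧ IsMinus R₀)) := by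
  obtain ⟨c, hh, bb, R₀, hfr, hl⟩ := exists_frame emb hι Qp_nondeg (hn_plus hm) γ hγ hpow
  have hψ := Ψ_sc_mul Qp_nondeg (hn_plus hm) (γ := γ) (δ := ⟨fel hh σ, fel_mem emb hι hfr⟩) (c := c) hl hγ
  have hlp := lp_sc_mul hm (γ := γ) (δ := ⟨fel hh σ, fel_mem emb hι hfr⟩) hl
  rcases frame_type hm hfr with ⟨P, hP⟩ | hR
  · obtain ⟨hfr', he⟩ := OrthPair.change_frame hfr hP hι
    refine ⟨_, bb, _, hfr', ?_, Or.inl ⟨?_, rfl⟩⟩
    · simp only [he]; exact hψ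
    · have := plus_frame_mem hm hι hfr'
      simp only [he] at this
      exact hlp.mpr this
  · have h2 : orderOf σ = 2 := ((Nat.prime_dvd_prime_iff_eq Nat.prime_two hσ).mp
      (minus_even hm hι hfr hR).two_dvd).symm
    exact ⟨hh, bb, R₀, hfr, hψ, Or.inr ⟨fun h => minus_frame_notMem hm hι h2 hfr hR (hlp.mp h), h2, hR⟩⟩

include hm in
/-- Automorphisms of prime order in one coset and of one parity are conjugate. -/
theorem conj_same_parity {γ γ' : ΓO (Qp m F)} {r : ℕ} (hr : r.Prime) (hne : γ.1.right ≠ 1)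
    (hright : γ'.1.right = γ.1.right) (h1 : Ψ γ ^ r = 1) (h2 : Ψ γ' ^ r = 1)
    (hpar : lp γ ∈ Gd (Qp m F) ↔ lp γ' ∈ Gd (Qp m F)) :
    Cfsg.IsConjUnder ((Gd (Qp m F)).map (PGO.Θ (Qp m F))) (Ψ γ) (Ψ γ') := by
  have hord := orderOf_right Qp_nondeg (hn_plus hm) hr h1 hne
  obtain ⟨σ, hσ⟩ : ∃ σ, σ = γ.1.right := ⟨_, rfl⟩
  rw [← hσ] at hord hright
  haveI : Fintype (PSLn.fixedField σ) := Fintype.ofFinite _
  obtain ⟨emb, hι⟩ := FieldGen.exists_emb σ (PSLn.fixedField σ) Nat.card_eq_fintype_card.symm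
  obtain ⟨h, b, R₀, hfr, e, hc⟩ := exists_plus_frame hm hι (γ := γ) hσ.symm (hord ▸ hr) (by rw [hord]; exact h1)
  obtain ⟨h', b', R₁, hfr', e', hc'⟩ := exists_plus_frame hm hι (γ := γ') hright (hord ▸ hr) (by rw [hord]; exact h2)
  rw [e, e']
  obtain ⟨P, hP⟩ : ∃ P : GL (Fin m ⊕ Fin m) (PSLn.fixedField σ), ∀ v, R₁ (P.1 *ᵥ v) = R₀ v := by
    rcases hc with ⟨hp, rfl⟩ | ⟨hp, -, hR⟩
    · obtain ⟨-, rfl⟩ := hc'.resolve_right fun h => h.1 (hpar.mp hp)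
      exact ⟨1, fun v => by simp⟩
    · obtain ⟨-, -, hR'⟩ := hc'.resolve_left fun h => hp (hpar.mpr h.1)
      exact minus_similar hR hR'
  obtain ⟨hfr'', he⟩ := OrthPair.change_frame hfr' hP hι
  have := Gd_conj_frames hι hfr Qp_nondeg hev_plus (hn_plus hm) hfr''
  simp only [he] at this
  exact this

include hm in
/-- Field and graph-field automorphisms as semisimilarities. -/
theorem field_class {x : MulAut (Cfsg.POmega F ⇑(Qp m F))} (hx : Cfsg.IsFieldAutClassPOmega (⇑(Qp m F)) x) :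
    ∃ γ : ΓO (Qp m F), Ψ γ = x ∧ γ.1.right ≠ 1 ∧ lp γ ∈ Gd (Qp m F) := by
  obtain ⟨α, φ, σ, hσ, hφ, h⟩ := hx
  obtain ⟨p, hp⟩ := CharP.exists F
  haveI : Fact p.Prime := ⟨CharP.char_is_prime F p⟩
  obtain ⟨δ, hδ⟩ := Ψ_surjective Qp_nondeg (hn_plus hm) (hmax_plus hm) α
  have e : φ = Ψ (es (m := m) σ) := eq_Ψ _ fun s s' hs => hφ s s' (by rw [hs]; simp [es_left, es_right])
  refine ⟨δ⁻¹ * es σ * δ, ?_, ?_, ?_⟩
  · rw [map_mul, map_mul, map_inv, hδ, ← e, ← h]; group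
  · rw [Subgroup.coe_mul, Subgroup.coe_mul, Subgroup.coe_inv, SemidirectProduct.mul_right,
      SemidirectProduct.mul_right, SemidirectProduct.inv_right, PSLn.ringAut_comm p, ← mul_assoc, mul_inv_cancel,
      one_mul, es_right]
    exact hσ
  · have := lp_conj_iff hm (es (m := m) σ) δ⁻¹
    rw [inv_inv] at this
    rw [this, show lp (es (m := m) σ) = 1 from Subtype.ext rfl]; exact one_mem _

include hm in
theorem graph_field_class {x : MulAut (Cfsg.POmega F ⇑(Qp m F))}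
    (hx : ∃ (α γ φ : MulAut (Cfsg.POmega F ⇑(Qp m F))) (σ : F ≃+* F) (v : Fin m ⊕ Fin m → F)
      (r : GL (Fin m ⊕ Fin m) F), σ ≠ RingEquiv.refl F ∧ Qp m F v ≠ 0 ∧ (∀ i, σ (v i) = v i) ∧
      (r : Matrix (Fin m ⊕ Fin m) (Fin m ⊕ Fin m) F) = Cfsg.reflectionMatrix (⇑(Qp m F)) v ∧
      Cfsg.IsInducedBySemilinearPOmega (⇑(Qp m F)) r (RingEquiv.refl F) γ ∧
      Cfsg.IsFieldAutPOmegaOf (⇑(Qp m F)) σ φ ∧ α * x * α⁻¹ = γ * φ) :
    ∃ γ : ΓO (Qp m F), Ψ γ = x ∧ γ.1.right ≠ 1 ∧ lp γ ∉ Gd (Qp m F) := by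
  obtain ⟨α, γ₀, φ, σ, v, r, hσ, hv, -, hr, hγ, hφ, h⟩ := hx
  obtain ⟨p, hp⟩ := CharP.exists F
  haveI : Fact p.Prime := ⟨CharP.char_is_prime F p⟩
  obtain ⟨δ, hδ⟩ := Ψ_surjective Qp_nondeg (hn_plus hm) (hmax_plus hm) α
  have e : φ = Ψ (es (m := m) σ) := eq_Ψ _ fun s s' hs => hφ s s' (by rw [hs]; simp [es_left, es_right])
  obtain ⟨r', rfl⟩ : ∃ r' : PGO.GO (Qp m F), r'.1 = r := ⟨⟨r, PGO.iso_mem _ (refl_iso hv hr)⟩, rfl⟩
  have e' : γ₀ = Ψ (ofGO r') := eq_Ψ (ofGO r') hγ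
  refine ⟨δ⁻¹ * (ofGO r' * es σ) * δ, ?_, ?_, ?_⟩
  · rw [map_mul, map_mul, map_mul, map_inv, hδ, ← e, ← e', ← h]; group
  · rw [Subgroup.coe_mul, Subgroup.coe_mul, Subgroup.coe_inv, SemidirectProduct.mul_right,
      SemidirectProduct.mul_right, SemidirectProduct.inv_right, PSLn.ringAut_comm p, ← mul_assoc, mul_inv_cancel,
      one_mul, Subgroup.coe_mul, SemidirectProduct.mul_right, ofGO_right, one_mul, es_right]
    exact hσ
  · have := lp_conj_iff hm (ofGO r' * es (m := m) σ) δ⁻¹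
    rw [inv_inv] at this
    rw [this, lp_mul_iff hm, lp_ofGO, show lp (es (m := m) σ) = 1 from Subtype.ext rfl,
      iff_true_right (one_mem _)]
    exact refl_notMem_Gd Qp_nondeg hev_plus (hn_plus hm) hv hr

end CfsgLib.OrthPlus
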