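import Cfsg.Agent.Lib.OrthAut.D4Model
import Cfsg.Agent.Lib.OrthAut.PlusInn
import Cfsg.Agent.Lib.Chev.Aut.OutD4
import Cfsg.Agent.Lib.PGO.GraphSplit

/-!
For eight-dimensional forms of plus type the inner-diagonal group is normal in the automorphism group.
-/

set_option autoImplicit false
set_option linter.unusedSectionVars false
set_option linter.style.haveILetI false
set_option linter.unusedSimpArgs false
set_option maxHeartbeats 1600000

namespace CfsgLib.OrthPlusFour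

open QuadraticMap Module CfsgLib.OrthAut CfsgLib.OrthPair
open CfsgLib.Lagrangian (Qp Qp_apply Qp_nondeg)
open CfsgLib.OmegaList (RP QP)
open scoped Matrix

universe u

variable {F : Type u} [Field F] [Fintype F] {m : ℕ}

theorem hn_four (hm : 4 ≤ m) : 7 ≤ Fintype.card (Fin m ⊕ Fin m) := by simp; omega

theorem preserves_iff (hm : 4 ≤ m) (g : PGO.GO (Qp m F)) :
    Cfsg.PreservesSingularClasses (Cfsg.quadFormPlus m F) g.1.1 ↔ g ∈ Gd (Qp m F) := by
  rw [PGO.Hyp.preserves_iff (PGO.hypPlus (F := F) (m := m)) g.1 (PGO.hρ_plus g)]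
  suffices h : PGO.G₀Plus m F = Gd (Qp m F) by rw [← h]; rfl
  by_cases h2 : (2 : F) = 0
  · refine eq_Gd_two Qp_nondeg OrthPlus.hev_plus (hn_four hm) h2 PGO.G₀Plus_Ns ?_
    have hv : Qp m F (Pi.single (Sum.inl ⟨0, by omega⟩) 1 + Pi.single (Sum.inr ⟨0, by omega⟩) 1) ≠ 0 := by
      rw [OrthPlus.plus_value]; exact one_ne_zero
    obtain ⟨r, hr⟩ := exists_refl hv
    exact ⟨r, fun hmem => (PGO.hypPlus (F := F) (m := m)).pres_refl r.1 (Qp m F) (fun x => (Qp_apply x).symm)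
      hv hr hmem⟩
  · have hodd : Odd (Fintype.card F) := by
      rw [Nat.odd_iff]
      exact FiniteField.odd_card_of_char_ne_two fun h => h2 (by
        haveI := ringChar.of_eq h; exact CharTwo.two_eq_zero)
    rw [Gd_odd h2]
    let D := PGO.plusData (F := F) (m := m) hodd (by omega)
    refine D.mem_G₀_eq PGO.G₀Plus_Ns (PGO.G₀Plus_mul D) D.prop_Ns D.prop_mul ?_
    rw [PGO.G₀Plus_δ, PGO.Data.δ_prop, show PGO.half (Fin m ⊕ Fin m) = m by
      simp only [PGO.half, Fintype.card_sum, Fintype.card_fin]; omega]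

/-- The inner-diagonal group of the plus form. -/
theorem inndiag_eq (hm : 4 ≤ m) :
    Subgroup.closure {β : MulAut (Cfsg.POmega F ⇑(Qp m F)) | ∃ g : GL (Fin m ⊕ Fin m) F,
      g ∈ Cfsg.Geo.quadSimilarityGroup (F := F) ⇑(Qp m F) ∧
        Cfsg.PreservesSingularClasses (Cfsg.quadFormPlus m F) g.1 ∧
        Cfsg.IsInducedBySemilinearPOmega (⇑(Qp m F)) g (RingEquiv.refl F) β} =
      (Gd (Qp m F)).map (PGO.Θ (Qp m F)) :=
  PGO.closure_induced (Qp m F) (fun g => Cfsg.PreservesSingularClasses (Cfsg.quadFormPlus m F) g.1) (Gd (Qp m F))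
    (preserves_iff hm)

/-- The inner automorphisms have index four in the inner-diagonal group. -/
theorem relIndex_four (hodd : Odd (Fintype.card F)) :
    (Cfsg.Inn (Cfsg.POmega F ⇑(Qp 4 F))).relIndex ((Gd (Qp 4 F)).map (PGO.Θ (Qp 4 F))) = 4 := by
  have hqp : Cfsg.quadFormPlus 4 F = ⇑(Qp 4 F) := funext fun v => (Qp_apply v).symm
  obtain ⟨-, -, hev4⟩ := PGO.plus_inndiag (F := F) (m := 4) hodd (by omega)
  suffices gen : ∀ f : (Fin 4 ⊕ Fin 4 → F) → F, f = ⇑(Qp 4 F) →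
      (Cfsg.Inn (Cfsg.POmega F f)).relIndex (Subgroup.closure {β : MulAut (Cfsg.POmega F f) |
        ∃ g : GL (Fin 4 ⊕ Fin 4) F, g ∈ Cfsg.Geo.quadSimilarityGroup (F := F) f ∧
          Cfsg.PreservesSingularClasses (Cfsg.quadFormPlus 4 F) g.1 ∧
          Cfsg.IsInducedBySemilinearPOmega f g (RingEquiv.refl F) β}) = 4 →
      (Cfsg.Inn (Cfsg.POmega F ⇑(Qp 4 F))).relIndex ((Gd (Qp 4 F)).map (PGO.Θ (Qp 4 F))) = 4 by
    refine gen _ hqp ?_
    show (Cfsg.Inn (Cfsg.POmega F (Cfsg.quadFormPlus 4 F))).relIndex (Cfsg.inndiagPOmegaPlus 4 F) = 4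
    obtain ⟨φ, hφ, hk⟩ := hev4 (by decide)
    rw [Subgroup.relIndex, ← hk, Subgroup.index_ker, MonoidHom.range_eq_top.mpr hφ, Subgroup.card_top,
      Nat.card_congr Multiplicative.toAdd, Nat.card_prod, Nat.card_zmod]
  intro f hf
  subst hf
  rw [inndiag_eq le_rfl]
  exact id

theorem transport : ∃ e : Cfsg.POmega F ⇑(Qp 4 F) ≃* ↥(Cfsg.Lie.chevD4.group F),
    ∀ (g : PGO.GO (Qp 4 F)) (a : Fin 4 ⊕ Fin 4 → ℤ) (ν : Fˣ), OrthD4Model.charOK a = true →
      g.1 = OrthD4Model.diagU (fun p => ν ^ a p) →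
      Cfsg.Lie.chevD4.IsDiagonalAut (MulAut.congr e (PGO.Θ (Qp 4 F) g)) := by
  suffices key : ∀ Q : QuadraticForm F (Fin 4 ⊕ Fin 4 → F), Q = ChevClassical.qform (F := F) ChevClassical.D4.tab →
      ∃ e : Cfsg.POmega F ⇑Q ≃* ↥(Cfsg.Lie.chevD4.group F),
        ∀ (g : PGO.GO Q) (a : Fin 4 ⊕ Fin 4 → ℤ) (ν : Fˣ), OrthD4Model.charOK a = true →
          g.1 = OrthD4Model.diagU (fun p => ν ^ a p) →
          Cfsg.Lie.chevD4.IsDiagonalAut (MulAut.congr e (PGO.Θ Q g)) by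
    refine key _ (QuadraticMap.ext fun v => ?_)
    rw [ChevClassical.D4.form_eq, Qp_apply]
  rintro Q rfl
  obtain ⟨e, he⟩ := OrthD4Model.exists_equiv (F := F)
  exact ⟨e, fun g a ν ha hg => OrthD4Model.isDiagonal_transport e he ha ν g hg⟩

/-- The inner-diagonal group is normal. -/
theorem inndiag_normal : ((Gd (Qp 4 F)).map (PGO.Θ (Qp 4 F))).Normal := by
  classical
  by_cases h2 : (2 : F) = 0
  · rw [Gd_two h2]
    show ((PGO.scSub (Qp 4 F) (PGO.OmL (Qp 4 F))).map (PGO.Θ (Qp 4 F))).Normal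
    rw [← PGO.inn_eq]
    infer_instance
  have hr2 : ringChar F ≠ 2 := fun e => h2 (by haveI := ringChar.of_eq e; exact CharTwo.two_eq_zero)
  have hodd : Odd (Fintype.card F) := Nat.odd_iff.mpr (FiniteField.odd_card_of_char_ne_two hr2)
  have hn := hn_four (m := 4) le_rfl
  have hev := OrthPlus.hev_plus (m := 4)
  let D := PGO.plusData (F := F) (m := 4) hodd (by omega)
  obtain ⟨ν, hν⟩ := PGO.exists_nonsquare (F := F) h2
  -- the two diagonal similitudes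
  have hQd : ∀ (a : Fin 4 ⊕ Fin 4 → ℤ) (k : ℤ), (∀ i, a (.inl i) + a (.inr i) = k) → ∀ v,
      Qp 4 F ((OrthD4Model.diagU fun p => ν ^ a p).1 *ᵥ v) = ((ν ^ k : Fˣ) : F) * Qp 4 F v := by
    intro a k hk v
    rw [OrthD4Model.diagU_mulVec, Qp_apply, Qp_apply, Cfsg.quadFormPlus, Cfsg.quadFormPlus, Finset.mul_sum]
    refine Finset.sum_congr rfl fun i _ => ?_
    rw [← hk i, _root_.zpow_add, Units.val_mul]
    ring
  have hs0 := hQd OrthD4Model.aSim 1 (by decide)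
  have hr0 := hQd OrthD4Model.aRot 0 (by decide)
  obtain ⟨ds, hds⟩ : ∃ ds : PGO.GO (Qp 4 F), ds.1 = OrthD4Model.diagU fun p => ν ^ OrthD4Model.aSim p :=
    ⟨⟨_, _, hs0⟩, rfl⟩
  obtain ⟨dr, hdr⟩ : ∃ dr : PGO.GO (Qp 4 F), dr.1 = OrthD4Model.diagU fun p => ν ^ OrthD4Model.aRot p :=
    ⟨⟨_, _, hr0⟩, rfl⟩
  have hsm : ∀ v, Qp 4 F (ds.1.1 *ᵥ v) = (ν : F) * Qp 4 F v := fun v => by rw [hds, hs0, zpow_one]
  have hrm : ∀ v, Qp 4 F (dr.1.1 *ᵥ v) = Qp 4 F v := fun v => by rw [hdr, hr0, zpow_zero, Units.val_one, one_mul]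
  have hsG : ds ∈ Gd (Qp 4 F) := by
    rw [Gd_odd h2, mem_prop_iff' Qp_nondeg hn (c := ν) hsm, hds]
    show (Matrix.diagonal _).det = _
    rw [Matrix.det_diagonal, Fintype.prod_sum_type]
    simp [OrthD4Model.aSim, PGO.half, Fintype.card_sum, Finset.prod_const]
  have hrG : dr ∈ Gd (Qp 4 F) := by
    rw [Gd_odd h2, mem_prop_iff' Qp_nondeg hn (c := 1) (fun v => by rw [Units.val_one, one_mul]; exact hrm v), hdr]
    show (Matrix.diagonal _).det = _
    rw [Matrix.det_diagonal, Fintype.prod_sum_type]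
    simp [OrthD4Model.aRot, Fin.prod_univ_four]
  have hsN : ∀ g : PGO.GO (Qp 4 F), (∀ v, Qp 4 F (g.1.1 *ᵥ v) = (ν : F) * Qp 4 F v) → g ∉ PGO.Ns (Qp 4 F) := by
    intro g hg hN
    obtain ⟨c, o, ho, hgo⟩ := PGO.Ns_le_Hs hN
    obtain ⟨v, hv⟩ := OrthPair.exists_aniso (Q := Qp 4 F) Qp_nondeg hn
    have h1 := hg v
    rw [hgo, PGO.Data.smul_sq ho.1] at h1
    exact hν ⟨c, (mul_right_cancel₀ hv h1).symm⟩
  have hrN : dr ∉ PGO.Ns (Qp 4 F) := by
    intro hN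
    obtain ⟨o, ho⟩ : ∃ o : Cfsg.isometryGroup F ⇑(Qp 4 F), o.1 = dr.1 := ⟨⟨dr.1, fun v _ => hrm v⟩, rfl⟩
    have hmat : o.1.1 = RP (Qp 4 F) [OmegaPlus.w 0 (ν : F)⁻¹, OmegaPlus.w 0 1] := by
      rw [← OmegaPlus.T_diag_eq (0 : Fin 4) ν.ne_zero, ho, hdr, OmegaPlus.T,
        Matrix.inv_eq_right_inv (B := Matrix.diagonal (Function.update (fun _ : Fin 4 => (1 : F)) 0 (ν : F)⁻¹)) (by
          rw [Matrix.diagonal_mul_diagonal, ← Matrix.diagonal_one]
          congr 1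
          funext k
          by_cases hk : k = 0 <;> simp [hk]),
        Matrix.diagonal_transpose, Matrix.fromBlocks_diagonal]
      show Matrix.diagonal _ = _
      congr 1
      funext p
      rcases p with i | i <;> by_cases hi : i = 0 <;> simp [OrthD4Model.aRot, hi]
    have hmem := D.iso_Ns ((PGO.negMem_plus hodd (by omega)).mpr fun h => (Nat.not_odd_iff_even.mpr (by decide)) h.1)
      (o := o) (by rwa [show PGO.Data.toGO o = dr from Subtype.ext ho])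
    have hsq := ((OmegaList.omega_iff_list (Qp 4 F) D.hc Qp_nondeg o _ (by simp [OmegaPlus.Qp_w]) hmat).mp hmem).2
    simp [QP, OmegaPlus.Qp_w] at hsq
    exact hν hsq
  -- into the Chevalley group
  obtain ⟨e, he⟩ := transport (F := F)
  let Φ := Chev.chevD4
  let φ : MulAut (Cfsg.POmega F ⇑(Qp 4 F)) →* Cfsg.Out ↥(Cfsg.Lie.chevD4.group F) :=
    (Chev.Chev.cls F).comp (MulAut.congr e).toMonoidHom
  have hker : φ.ker = Cfsg.Inn (Cfsg.POmega F ⇑(Qp 4 F)) := by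
    ext β
    rw [MonoidHom.mem_ker]
    show Chev.Chev.cls F (MulAut.congr e β) = 1 ↔ _
    rw [Chev.Chev.cls_eq_one_iff]
    constructor
    · rintro ⟨x, hx⟩
      refine ⟨e.symm x, MulEquiv.ext fun w => e.injective ?_⟩
      have := DFunLike.congr_fun hx (e w)
      simp [MulAut.congr] at this ⊢
      exact this.symm
    · rintro ⟨y, rfl⟩
      exact ⟨e y, MulEquiv.ext fun w => by simp [MulAut.congr]⟩
  set N := (Gd (Qp 4 F)).map (PGO.Θ (Qp 4 F)) with hNdef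
  set R := (Φ.diagCls F).range with hRdef
  have hIN : Cfsg.Inn (Cfsg.POmega F ⇑(Qp 4 F)) ≤ N := inn_le_Gd Qp_nondeg hev hn
  have hcardN : Nat.card ↥(N.map φ) = 4 := by
    rw [← Subgroup.relIndex_ker, hker]; exact relIndex_four hodd
  have hcardR : Nat.card ↥R ≤ 4 := by
    have hle : (Φ.coHom F).range ≤ (Φ.diagCls F).ker := by
      rintro _ ⟨x, rfl⟩
      exact Φ.cls_torus_coHom x
    rw [hRdef, ← Subgroup.index_ker]
    refine le_trans (Nat.le_of_dvd ?_ (Subgroup.index_dvd_of_le hle)) (le_of_eq (Chev.D4Out.index_coHom_odd Φ hr2))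
    rw [Chev.D4Out.index_coHom_odd Φ hr2]; norm_num
  have hin : ∀ g : PGO.GO (Qp 4 F), ∀ a, OrthD4Model.charOK a = true →
      g.1 = OrthD4Model.diagU (fun p => ν ^ a p) → φ (PGO.Θ (Qp 4 F) g) ∈ R := by
    intro g a ha hg
    obtain ⟨c, hc⟩ := Φ.eq_torusAut_of_isDiagonal (he g a ν ha hg)
    exact ⟨c, by show Chev.Chev.cls F (Φ.torusAut F c) = _; rw [← hc]; rfl⟩
  have h1 : ∀ g, φ (PGO.Θ (Qp 4 F) g) = 1 → g ∈ PGO.Ns (Qp 4 F) := by
    intro g hg
    rw [← MonoidHom.mem_ker, hker, PGO.inn_eq] at hg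
    obtain ⟨k, hk, e'⟩ := hg
    have h1 : k⁻¹ * g ∈ PGO.Ns (Qp 4 F) := OrthMinus.ker_le Qp_nondeg hn (by
      rw [MonoidHom.mem_ker, map_mul, map_inv, e', inv_mul_cancel])
    simpa using mul_mem hk h1
  let ψ : PGO.GO (Qp 4 F) →* Cfsg.Out ↥(Cfsg.Lie.chevD4.group F) := φ.comp (PGO.Θ (Qp 4 F))
  have hne : ∀ g, g ∉ PGO.Ns (Qp 4 F) → ψ g ≠ 1 := fun g hg h => hg (h1 g h)
  have hsR : ψ ds ∈ R := hin ds _ OrthD4Model.charOK_sim hds
  have hrR : ψ dr ∈ R := hin dr _ OrthD4Model.charOK_rot hdr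
  have hsr : ∀ v, Qp 4 F ((ds * dr).1.1 *ᵥ v) = (ν : F) * Qp 4 F v := fun v => by
    rw [Subgroup.coe_mul, Units.val_mul, ← Matrix.mulVec_mulVec, hsm, hrm]
  have hsr' : ∀ v, Qp 4 F ((ds * dr⁻¹).1.1 *ᵥ v) = (ν : F) * Qp 4 F v := fun v => by
    have := hrm ((dr⁻¹).1.1 *ᵥ v)
    rw [Matrix.mulVec_mulVec, ← Units.val_mul, ← Subgroup.coe_mul, mul_inv_cancel, OneMemClass.coe_one,
      Units.val_one, Matrix.one_mulVec] at this
    rw [Subgroup.coe_mul, Units.val_mul, ← Matrix.mulVec_mulVec, hsm, ← this]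
  have hs1 := hne _ (hsN ds hsm)
  have hr1 := hne _ hrN
  have hsr1 : ψ ds * ψ dr ≠ 1 := by rw [← map_mul]; exact hne _ (hsN _ hsr)
  have hsne : ψ ds ≠ ψ dr := fun h => by
    refine hne _ (hsN _ hsr') ?_
    rw [map_mul, map_inv, h, mul_inv_cancel]
  let S : Finset (Cfsg.Out ↥(Cfsg.Lie.chevD4.group F)) := {1, ψ ds, ψ dr, ψ ds * ψ dr}
  have hS : S.card = 4 := by
    simp only [S]
    rw [Finset.card_insert_of_notMem, Finset.card_insert_of_notMem, Finset.card_pair]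
    · exact fun h => hs1 (mul_eq_right.mp h.symm)
    · simp only [Finset.mem_insert, Finset.mem_singleton, not_or]
      exact ⟨hsne, fun h => hr1 (mul_eq_left.mp h.symm)⟩
    · simp only [Finset.mem_insert, Finset.mem_singleton, not_or]
      exact ⟨Ne.symm hs1, Ne.symm hr1, Ne.symm hsr1⟩
  haveI : Finite (Cfsg.Out ↥(Cfsg.Lie.chevD4.group F)) := inferInstance
  have hSR : (S : Set (Cfsg.Out ↥(Cfsg.Lie.chevD4.group F))) = (R : Set (Cfsg.Out ↥(Cfsg.Lie.chevD4.group F))) := by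
    refine Set.eq_of_subset_of_ncard_le ?_ ?_ (Set.toFinite _)
    · intro x hx
      simp only [S, Finset.coe_insert, Finset.coe_singleton, Set.mem_insert_iff, Set.mem_singleton_iff] at hx
      rcases hx with rfl | rfl | rfl | rfl
      exacts [one_mem _, hsR, hrR, mul_mem hsR hrR]
    · rw [Set.ncard_coe_finset, hS, ← Nat.card_coe_set_eq]
      exact hcardR
  have hRN : R ≤ N.map φ := by
    intro x hx
    rw [← SetLike.mem_coe, ← hSR] at hx
    simp only [S, Finset.coe_insert, Finset.coe_singleton, Set.mem_insert_iff, Set.mem_singleton_iff] at hx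
    rcases hx with rfl | rfl | rfl | rfl
    · exact one_mem _
    · exact ⟨_, ⟨ds, hsG, rfl⟩, rfl⟩
    · exact ⟨_, ⟨dr, hrG, rfl⟩, rfl⟩
    · exact mul_mem ⟨_, ⟨ds, hsG, rfl⟩, rfl⟩ ⟨_, ⟨dr, hrG, rfl⟩, rfl⟩
  have heq : R = N.map φ := Subgroup.eq_of_le_of_card_ge hRN (by
    rw [hcardN, ← hS, ← Set.ncard_coe_finset, hSR, ← Nat.card_coe_set_eq]; rfl)
  have hN : N = R.comap φ := by
    rw [heq, Subgroup.comap_map_eq, hker, sup_eq_left.mpr hIN]
  rw [hN]
  haveI : R.Normal := Φ.diag_normal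
  infer_instance

end CfsgLib.OrthPlusFour
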