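import Cfsg.Agent.Lib.OrthAut.GraphSplitFrame
import Cfsg.Agent.Lib.OrthAut.PlusFourNormal

/-!
The classes into which the class of a field automorphism of plus type splits, dimension at least eight.
-/

set_option autoImplicit false
set_option linter.unusedSectionVars false
set_option linter.style.haveILetI false
set_option linter.unusedSimpArgs false
set_option maxHeartbeats 1600000

namespace CfsgLib.OrthPlus

open QuadraticMap Module CfsgLib.OrthAut CfsgLib.OrthPair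
open CfsgLib.OmegaList (RP QP)
open CfsgLib.Lagrangian (Qp Qp_apply Qp_nondeg)
open scoped Matrix

universe u v

variable {F : Type u} [Field F] [Fintype F] {m : ℕ}
  {F₀ : Type v} [Field F₀] [Fintype F₀] {emb : F₀ →+* F} {σ : RingAut F}
  (hι : ∀ y, σ y = y ↔ y ∈ emb.range) (h2 : orderOf σ = 2)

section Square

variable (hm : 4 ≤ m) {h : GL (Fin m ⊕ Fin m) F} {b : F} {R₀ : QuadraticForm F₀ (Fin m ⊕ Fin m → F₀)}
  (hfr : IsFrame emb (Qp m F) h b R₀)

include hι h2 hm hfr in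
/-- Similitudes of square multiplier over the subfield are inner. -/
theorem sq_mem_Ns_four (h20 : (2 : F) ≠ 0) {y : PGO.GO R₀} (hy : y ∈ Gd R₀) {t : F₀} (ht : t ≠ 0)
    (hyt : ∀ x, R₀ (y.1.1 *ᵥ x) = t * t * R₀ x) : inclH emb hfr y ∈ PGO.Ns (Qp m F) := by
  have hn := OrthPlusFour.hn_four hm
  have hev := hev_plus (m := m)
  have h20' : (2 : F₀) ≠ 0 := fun e => h20 (by rw [← map_ofNat emb 2, e, map_zero])
  have hR := frame_nondeg emb Qp_nondeg hfr
  obtain ⟨tu, rfl⟩ : ∃ tu : F₀ˣ, (tu : F₀) = t := ⟨Units.mk0 t ht, rfl⟩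
  obtain ⟨o, ho⟩ : ∃ o : Cfsg.isometryGroup F₀ ⇑R₀, o.1 = PGO.sc tu⁻¹ * y.1 := by
    refine ⟨⟨_, fun x _ => ?_⟩, rfl⟩
    show R₀ ((PGO.sc tu⁻¹ * y.1 : GL (Fin m ⊕ Fin m) F₀).1 *ᵥ x) = R₀ x
    rw [Units.val_mul, ← Matrix.mulVec_mulVec, PGO.sc_mulVec, QuadraticMap.map_smul, hyt, smul_eq_mul,
      Units.val_inv_eq_inv_val]
    field_simp
  have hyo : y.1 = PGO.sc tu * o.1 := by rw [ho]; simp
  obtain ⟨vs, hvs, hvm⟩ := OmegaList.exists_list R₀ (hc_even hR hn) o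
  rw [Gd_odd h20', mem_prop_iff' hR hn (c := tu * tu) (fun x => by rw [Units.val_mul]; exact hyt x)] at hy
  have hlen : Even vs.length := by
    rw [hyo, Units.val_mul, Matrix.det_mul, PGO.sc_val, Matrix.det_smul, Matrix.det_one, mul_one, hvm,
      PGO.Data.det_RP _ hvs, Units.val_mul, show PGO.half (Fin m ⊕ Fin m) = m by
        simp only [PGO.half, Fintype.card_sum, Fintype.card_fin]; omega,
      Fintype.card_sum, Fintype.card_fin, mul_pow, pow_add] at hy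
    by_contra hc
    rw [(Nat.not_even_iff_odd.mp hc).neg_one_pow] at hy
    have : (2 : F₀) * ((tu : F₀) ^ m * (tu : F₀) ^ m) = 0 := by linear_combination -hy
    exact mul_ne_zero h20' (mul_ne_zero (pow_ne_zero _ tu.ne_zero) (pow_ne_zero _ tu.ne_zero)) this
  let L : (Fin m ⊕ Fin m → F₀) → (Fin m ⊕ Fin m → F) := fun v => h.1 *ᵥ up emb v
  have hLv : ∀ v ∈ vs.map L, Qp m F v ≠ 0 := by
    intro v hv
    obtain ⟨w, hw, rfl⟩ := List.mem_map.mp hv
    rw [show Qp m F (L w) = _ from frame_value hfr w]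
    exact mul_ne_zero (inv_ne_zero hfr.1) (by simpa using hvs w hw)
  obtain ⟨o', ho'⟩ := OmegaList.exists_iso (Qp m F) (vs.map L) hLv
  refine ⟨Units.map emb.toMonoidHom tu, o'.1,
    ⟨o', (OmegaList.omega_iff_list (Qp m F) (hc_even Qp_nondeg hn) Qp_nondeg o' _ hLv ho').mpr ⟨?_, ?_⟩, rfl⟩, ?_⟩
  · rw [List.length_map]; exact hlen
  · rw [QP_transport (Qp m F) R₀ emb L (fun x => frame_value hfr x)]
    exact (hlen.isSquare_pow _).mul (OrthAut.isSquare_emb_two emb h20 (by rw [card_pow emb hι, h2]) _)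
  · refine Units.ext (h.isUnit.mul_right_cancel (Matrix.ext_of_mulVec_single fun i => ?_))
    rw [inclH_val, Units.val_mul, Units.val_mul, Units.val_mul, Matrix.mul_assoc, Units.inv_mul, Matrix.mul_one,
      Matrix.mul_assoc, ← up_single emb, ← Matrix.mulVec_mulVec, ← Matrix.mulVec_mulVec, ← Matrix.mulVec_mulVec,
      PGO.sc_mulVec]
    show h.1 *ᵥ (y.1.1.map emb *ᵥ up emb (Pi.single i 1)) =
      emb (tu : F₀) • (o'.1.1 *ᵥ L (Pi.single i 1))
    rw [← up_mulVec, hyo, Units.val_mul, ← Matrix.mulVec_mulVec, PGO.sc_mulVec, up_smul, Matrix.mulVec_smul, ho',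
      hvm, RP_transport (Qp m F) R₀ emb L (fun x x' => by rw [← Matrix.mulVec_add, ← up_add])
        (fun c x => by rw [← Matrix.mulVec_smul, ← up_smul]) (inv_ne_zero hfr.1) (fun x => frame_value hfr x) vs hvs]

end Square

variable (hm : 4 ≤ m)

theorem std_frame (F₀ : Type v) [Field F₀] [Fintype F₀] (emb : F₀ →+* F) : IsFrame emb (Qp m F) 1 1 (Qp m F₀) :=
  ⟨one_ne_zero, fun v => by rw [one_mul, Units.val_one, Matrix.one_mulVec]; simp [Qp_apply, Cfsg.quadFormPlus, up, map_sum]⟩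

include hι h2 hm in
/-- The diagonal similitude of nonsquare multiplier, and when it is inner. -/
theorem exists_diag_elem (h20 : (2 : F) ≠ 0) :
    ∃ (d : PGO.GO (Qp m F₀)) (ν : F₀ˣ), d ∈ Gd (Qp m F₀) ∧ ¬ IsSquare (ν : F₀) ∧
      (∀ x, Qp m F₀ (d.1.1 *ᵥ x) = (ν : F₀) * Qp m F₀ x) ∧
      (inclH emb (std_frame (m := m) F₀ emb) d ∈ PGO.Ns (Qp m F) ↔ Even m ∨ ¬ IsSquare (-1 : F₀)) := by
  classical
  have hn := OrthPlusFour.hn_four hm
  have hev := hev_plus (m := m)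
  have h20' : (2 : F₀) ≠ 0 := fun e => h20 (by rw [← map_ofNat emb 2, e, map_zero])
  obtain ⟨ν, hν⟩ := PGO.exists_nonsquare (F := F₀) h20'
  obtain ⟨e, he⟩ := OrthAut.isSquare_emb_two emb h20 (by rw [card_pow emb hι, h2]) (ν : F₀)
  have he0 : e ≠ 0 := fun h0 => ν.ne_zero ((map_eq_zero emb).mp (by rw [he, h0, mul_zero]))
  have hodd : Odd (Fintype.card F) := Nat.odd_iff.mpr (FiniteField.odd_card_of_char_ne_two fun e => h20 (by
    haveI := ringChar.of_eq e; exact CharTwo.two_eq_zero))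
  obtain ⟨D, hD⟩ : ∃ D : GL (Fin m ⊕ Fin m) F₀,
      D.1 = Matrix.diagonal (Sum.elim (fun _ => (ν : F₀)) (fun _ => 1)) :=
    ⟨⟨Matrix.diagonal (Sum.elim (fun _ => (ν : F₀)) (fun _ => 1)), Matrix.diagonal (Sum.elim (fun _ => ((ν⁻¹ : F₀ˣ) : F₀)) (fun _ => 1)), by
      rw [Matrix.diagonal_mul_diagonal, ← Matrix.diagonal_one]; congr 1; funext p; rcases p with i | i <;> simp, by
      rw [Matrix.diagonal_mul_diagonal, ← Matrix.diagonal_one]; congr 1; funext p; rcases p with i | i <;> simp⟩, rfl⟩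
  have hm0 : ∀ x, Qp m F₀ (D.1 *ᵥ x) = (ν : F₀) * Qp m F₀ x := fun x => by
    rw [hD, Qp_apply, Qp_apply, Cfsg.quadFormPlus, Cfsg.quadFormPlus, Finset.mul_sum]
    refine Finset.sum_congr rfl fun i _ => ?_
    rw [Matrix.mulVec_diagonal, Matrix.mulVec_diagonal]
    simp only [Sum.elim_inl, Sum.elim_inr]
    ring
  let d : PGO.GO (Qp m F₀) := ⟨D, ν, hm0⟩
  refine ⟨d, ν, ?_, hν, hm0, ?_⟩
  · rw [Gd_odd h20', mem_prop_iff' Qp_nondeg hn (g := d) (c := ν) hm0]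
    show D.1.det = _
    rw [hD, Matrix.det_diagonal, Fintype.prod_sum_type, show PGO.half (Fin m ⊕ Fin m) = m by
      simp only [PGO.half, Fintype.card_sum, Fintype.card_fin]; omega]
    simp
  have hc := hc_even (Q := Qp m F) Qp_nondeg hn
  obtain ⟨l, hl, hlRP, hlev, hlsq⟩ := OmegaPlus.good_all (F := F) (m := m) (Or.inr (by omega)) hc
    (Matrix.diagonal fun _ => e) (by rw [Matrix.det_diagonal]; simp [he0])
  obtain ⟨o, ho⟩ := OmegaList.exists_iso (Qp m F) l hl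
  obtain ⟨eu, rfl⟩ : ∃ eu : Fˣ, (eu : F) = e := ⟨Units.mk0 e he0, rfl⟩
  have hio : inclH emb (std_frame (m := m) F₀ emb) d = ⟨PGO.sc eu, PGO.sc_mem _ eu⟩ * PGO.Data.toGO o := by
    refine Subtype.ext (Units.ext ?_)
    rw [inclH_val, one_mul, inv_one, mul_one, Subgroup.coe_mul, Units.val_mul, PGO.sc_val, Matrix.smul_mul,
      Matrix.one_mul]
    show D.1.map emb = (eu : F) • o.1.1
    rw [ho, hlRP, OmegaPlus.T, Matrix.inv_eq_right_inv (B := Matrix.diagonal fun _ => (eu : F)⁻¹) (by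
      rw [Matrix.diagonal_mul_diagonal, ← Matrix.diagonal_one]; congr 1; funext p; exact mul_inv_cancel₀ he0),
      Matrix.diagonal_transpose, Matrix.fromBlocks_diagonal, hD, Matrix.diagonal_map (map_zero emb),
      ← Matrix.diagonal_smul]
    congr 1
    funext p
    rcases p with i | i <;> simp [he, he0]
  have hscN : (⟨PGO.sc eu, PGO.sc_mem _ eu⟩ : PGO.GO (Qp m F)) ∈ PGO.Ns (Qp m F) :=
    ⟨eu, 1, one_mem _, (mul_one _).symm⟩
  have hmem : PGO.Data.toGO o ∈ PGO.Ns (Qp m F) ↔ o ∈ Cfsg.Omega F ⇑(Qp m F) := by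
    refine ⟨fun hN => (PGO.plusData hodd (by omega)).iso_Ns ((PGO.negMem_plus hodd (by omega)).mpr ?_) hN,
      fun hO => ⟨1, o.1, ⟨o, hO, rfl⟩, by rw [map_one, one_mul]; rfl⟩⟩
    rintro ⟨-, h4⟩
    have hc2 := card_pow emb hι
    rw [h2] at hc2
    rw [hc2, Nat.pow_mod] at h4
    rcases (show Fintype.card F₀ % 4 = 0 ∨ Fintype.card F₀ % 4 = 1 ∨ Fintype.card F₀ % 4 = 2 ∨
      Fintype.card F₀ % 4 = 3 by omega) with h' | h' | h' | h' <;> rw [h'] at h4 <;> omega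
  rw [hio, mul_mem_cancel_left hscN, hmem, OmegaList.omega_iff_list (Qp m F) hc Qp_nondeg o l hl ho, hlsq,
    and_iff_right hlev, Matrix.det_diagonal, Finset.prod_const, Finset.card_univ, Fintype.card_fin]
  have hσe : σ (eu : F) = -(eu : F) := by
    have hnot : σ (eu : F) ≠ eu := fun h => by
      obtain ⟨e₀, he₀⟩ := (hι _).mp h
      exact hν ⟨e₀, emb.injective (by rw [he, map_mul, he₀])⟩
    have h1 : σ (eu : F) * σ eu = (eu : F) * eu := by rw [← map_mul, ← he, (hι _).mpr ⟨(ν : F₀), rfl⟩]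
    exact (mul_self_eq_mul_self_iff.mp h1).resolve_left hnot
  have hesq : IsSquare (eu : F) ↔ ¬ IsSquare (-1 : F₀) := by
    rw [isSquare_norm hι h2 h20 eu.ne_zero (N := -1 * (ν : F₀)) (by
        rw [map_mul, map_neg, map_one, hσe, he]; ring),
      FiniteForms.isSquare_mul_iff (neg_ne_zero.mpr one_ne_zero) ν.ne_zero, iff_false_right hν]
  rcases Nat.even_or_odd m with hme | ⟨k, rfl⟩
  · simp [hme, hme.isSquare_pow]
  · rw [pow_succ, FiniteForms.isSquare_mul_iff (pow_ne_zero _ eu.ne_zero) eu.ne_zero,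
      iff_true_left ((even_two_mul k).isSquare_pow _), hesq]
    simp [Nat.not_even_iff_odd.mpr (odd_two_mul_add_one k)]

include hι h2 hm in
/-- The number of classes. -/
theorem splitCount_field_two (h20 : (2 : F) ≠ 0) :
    ((Even m ∨ ¬ IsSquare (-1 : F₀)) →
      Cfsg.splitClassCount ((Gd (Qp m F)).map (PGO.Θ (Qp m F))) (Cfsg.Inn (Cfsg.POmega F ⇑(Qp m F)))
      (Ψ (⟨fel 1 σ, fel_mem emb hι (std_frame (m := m) F₀ emb)⟩ : ΓO (Qp m F))) = 4) ∧
    (¬ (Even m ∨ ¬ IsSquare (-1 : F₀)) →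
      Cfsg.splitClassCount ((Gd (Qp m F)).map (PGO.Θ (Qp m F))) (Cfsg.Inn (Cfsg.POmega F ⇑(Qp m F)))
      (Ψ (⟨fel 1 σ, fel_mem emb hι (std_frame (m := m) F₀ emb)⟩ : ΓO (Qp m F))) = 2) := by
  classical
  have hn := OrthPlusFour.hn_four hm
  have hev := hev_plus (m := m)
  have hfr := std_frame (F := F) (m := m) F₀ emb
  have hker : (PGO.Θ (Qp m F)).ker ≤ PGO.Ns (Qp m F) := OrthMinus.ker_le Qp_nondeg hn
  have hIH := inn_le_Gd (Q := Qp m F) Qp_nondeg hev hn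
  rw [PSLn.splitClassCount_eq _ _ hIH, Gd_centralizer hι hfr Qp_nondeg hev hn]
  obtain ⟨I, hI⟩ : ∃ I, I = Cfsg.Inn (Cfsg.POmega F ⇑(Qp m F)) := ⟨_, rfl⟩
  obtain ⟨H, hH⟩ : ∃ H, H = (Gd (Qp m F)).map (PGO.Θ (Qp m F)) := ⟨_, rfl⟩
  obtain ⟨K, hK⟩ : ∃ K, K = (Gd (Qp m F₀)).map ((PGO.Θ (Qp m F)).comp (inclH emb hfr)) := ⟨_, rfl⟩
  rw [← hI, ← hH, ← hK]
  rw [← hI, ← hH] at hIH
  have hmemI : ∀ g, PGO.Θ (Qp m F) g ∈ I ↔ g ∈ PGO.Ns (Qp m F) := by
    intro g
    rw [hI, PGO.inn_eq]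
    refine ⟨fun ⟨k, hk, e⟩ => ?_, fun hg => ⟨g, hg, rfl⟩⟩
    have h1 : k⁻¹ * g ∈ PGO.Ns (Qp m F) := hker (by rw [MonoidHom.mem_ker, map_mul, map_inv, e, inv_mul_cancel])
    simpa using mul_mem hk h1
  have hKH : K ≤ H := by
    rw [hK, hH, ← Subgroup.map_map]
    refine Subgroup.map_mono ?_
    rintro _ ⟨y, hy, rfl⟩
    exact (inclH_mem_Gd Qp_nondeg hev hn hfr y).mpr hy
  have h20' : (2 : F₀) ≠ 0 := fun e => h20 (by rw [← map_ofNat emb 2, e, map_zero])
  have hodd : Odd (Fintype.card F) := Nat.odd_iff.mpr (FiniteField.odd_card_of_char_ne_two fun e => h20 (by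
    haveI := ringChar.of_eq e; exact CharTwo.two_eq_zero))
  have hc4 : Fintype.card F % 4 = 1 := by
    have hc2 := card_pow emb hι
    rw [h2] at hc2
    have h1 := Nat.odd_iff.mp hodd
    rw [hc2, Nat.pow_mod] at h1 ⊢
    rcases (show Fintype.card F₀ % 4 = 0 ∨ Fintype.card F₀ % 4 = 1 ∨ Fintype.card F₀ % 4 = 2 ∨
      Fintype.card F₀ % 4 = 3 by omega) with h' | h' | h' | h' <;>
        rw [show Fintype.card F₀ % 2 = (Fintype.card F₀ % 4) % 2 by omega, h'] at h1 <;> rw [h'] <;> omega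
  have hIHidx : I.relIndex H = 4 := by
    have hqp : Cfsg.quadFormPlus m F = ⇑(Qp m F) := funext fun v => (Qp_apply v).symm
    obtain ⟨-, h14, hev4⟩ := PGO.plus_inndiag (F := F) (m := m) hodd (by omega)
    suffices gen : ∀ f : (Fin m ⊕ Fin m → F) → F, f = ⇑(Qp m F) →
        (Cfsg.Inn (Cfsg.POmega F f)).relIndex (Subgroup.closure {β : MulAut (Cfsg.POmega F f) |
          ∃ g : GL (Fin m ⊕ Fin m) F, g ∈ Cfsg.Geo.quadSimilarityGroup (F := F) f ∧
            Cfsg.PreservesSingularClasses (Cfsg.quadFormPlus m F) g.1 ∧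
            Cfsg.IsInducedBySemilinearPOmega f g (RingEquiv.refl F) β}) = 4 → I.relIndex H = 4 by
      refine gen _ hqp ?_
      show (Cfsg.Inn (Cfsg.POmega F (Cfsg.quadFormPlus m F))).relIndex (Cfsg.inndiagPOmegaPlus m F) = 4
      rw [Subgroup.relIndex]
      rcases Nat.even_or_odd m with hm2 | hm2
      · obtain ⟨φ, hφ, hk⟩ := hev4 hm2
        rw [← hk, Subgroup.index_ker, MonoidHom.range_eq_top.mpr hφ, Subgroup.card_top,
          Nat.card_congr Multiplicative.toAdd, Nat.card_prod, Nat.card_zmod]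
      · obtain ⟨φ, hφ, hk⟩ := h14 ⟨hm2, hc4⟩
        rw [← hk, Subgroup.index_ker, MonoidHom.range_eq_top.mpr hφ, Subgroup.card_top,
          Nat.card_congr Multiplicative.toAdd, Nat.card_zmod]
    intro f hf
    subst hf
    rw [OrthPlusFour.inndiag_eq hm, ← hI, ← hH]
    exact id
  obtain ⟨d, ν, hd, hν, hdm, hiff⟩ := exists_diag_elem hι h2 hm h20
  obtain ⟨a, ha⟩ : ∃ a, a = PGO.Θ (Qp m F) (inclH emb hfr d) := ⟨_, rfl⟩
  have haK : a ∈ K := by rw [ha, hK]; exact ⟨d, hd, rfl⟩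
  have haI : a ∈ I ↔ Even m ∨ ¬ IsSquare (-1 : F₀) := by rw [ha, hmemI, hiff]
  have ha2 : a * a ∈ I := by
    rw [ha, ← map_mul, ← map_mul, hmemI]
    exact sq_mem_Ns_four hι h2 hm hfr h20 (mul_mem hd hd) ν.ne_zero fun x => by
      rw [Subgroup.coe_mul, Units.val_mul, ← Matrix.mulVec_mulVec, hdm, hdm, mul_assoc]
  have hKa : ∀ z ∈ K, z ∈ I ∨ z * a ∈ I := by
    rw [hK]
    rintro _ ⟨y, hy, rfl⟩
    obtain ⟨c, hc⟩ := y.2
    rw [MonoidHom.comp_apply, ha, ← map_mul, ← map_mul, hmemI, hmemI]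
    by_cases hsq : IsSquare (c : F₀)
    · obtain ⟨t, ht⟩ := hsq
      exact Or.inl (sq_mem_Ns_four hι h2 hm hfr h20 hy (t := t) (fun h0 => c.ne_zero (by rw [ht, h0, mul_zero]))
        fun x => by rw [← ht]; exact hc x)
    · obtain ⟨t, ht⟩ := (FiniteForms.isSquare_mul_iff c.ne_zero ν.ne_zero).mpr (iff_of_false hsq hν)
      exact Or.inr (sq_mem_Ns_four hι h2 hm hfr h20 (mul_mem hy hd) (t := t)
        (fun h0 => mul_ne_zero c.ne_zero ν.ne_zero (by rw [ht, h0, mul_zero]))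
        fun x => by rw [Subgroup.coe_mul, Units.val_mul, ← Matrix.mulVec_mulVec, hc, hdm, ← ht, mul_assoc])
  haveI hIN : I.Normal := by rw [hI]; infer_instance
  constructor
  · intro hcond
    have hKI : K ≤ I := fun z hz => (hKa z hz).elim id fun h => (mul_mem_cancel_right (haI.mpr hcond)).mp h
    rw [sup_eq_left.mpr hKI, hIHidx]
  · intro hcond
    have haI' : a ∉ I := fun h => hcond (haI.mp h)
    have hidx : I.relIndex (I ⊔ K) = 2 := by
      rw [Subgroup.relIndex, Subgroup.index_eq_two_iff]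
      refine ⟨⟨a, Subgroup.mem_sup_right haK⟩, fun z => ?_⟩
      obtain ⟨i, hi, k, hk, hz⟩ := Subgroup.mem_sup_of_normal_left.mp z.2
      rw [Subgroup.mem_subgroupOf, Subgroup.mem_subgroupOf, Subgroup.coe_mul, ← hz]
      show Xor (i * k * a ∈ I) (i * k ∈ I)
      rw [mul_assoc, mul_mem_cancel_left hi, mul_mem_cancel_left hi]
      rcases hKa k hk with h | h
      · exact Or.inr ⟨h, fun h' => haI' ((mul_mem_cancel_left h).mp h')⟩
      · exact Or.inl ⟨h, fun h' => haI' ((mul_mem_cancel_left h').mp h)⟩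
    have hmul := Subgroup.relIndex_mul_relIndex I (I ⊔ K) H le_sup_left (sup_le hIH hKH)
    rw [hidx, hIHidx] at hmul
    omega

end CfsgLib.OrthPlus
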