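import Cfsg.Agent.Lib.Chev.Aut.OutD4
import Cfsg.Agent.Lib.ExtraOut.Model
import Cfsg.Agent.S1082

/-!
The outer automorphism group of the eight-dimensional orthogonal group of plus type.
-/

set_option autoImplicit false

namespace CfsgLib.OrthPlusFour

theorem out_even {F : Type*} [Field F] [Fintype F] {f : ℕ} (hF : Fintype.card F = 2 ^ f) :
    Nonempty (Cfsg.Out (Cfsg.POmega F (Cfsg.quadFormPlus 4 F)) ≃* Equiv.Perm (Fin 3) × Multiplicative (ZMod f)) := by
  haveI : Fact (Nat.Prime 2) := ⟨Nat.prime_two⟩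
  haveI : CharP F 2 := charP_of_card_eq_prime_pow hF
  obtain ⟨e⟩ := Cfsg.Agent.S1082.result (F := F)
  obtain ⟨e1⟩ := CfsgExtraOut.out_congr e
  obtain ⟨e2⟩ := Chev.D4Out.out_even (F := F) Chev.chevD4 f (by rw [Nat.card_eq_fintype_card, hF])
  exact ⟨e1.symm.trans e2⟩

theorem out_odd {F : Type*} [Field F] [Fintype F] {p f : ℕ} [Fact p.Prime] (hp : p ≠ 2)
    (hF : Fintype.card F = p ^ f) :
    Nonempty (Cfsg.Out (Cfsg.POmega F (Cfsg.quadFormPlus 4 F)) ≃* Equiv.Perm (Fin 4) × Multiplicative (ZMod f)) := by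
  haveI : CharP F p := charP_of_card_eq_prime_pow hF
  obtain ⟨e⟩ := Cfsg.Agent.S1082.result (F := F)
  obtain ⟨e1⟩ := CfsgExtraOut.out_congr e
  obtain ⟨e2⟩ := Chev.D4Out.out_odd (F := F) Chev.chevD4 p f hp (by rw [Nat.card_eq_fintype_card, hF])
  exact ⟨e1.symm.trans e2⟩

end CfsgLib.OrthPlusFour
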