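import Cfsg.Agent.Lib.OrthAut.PlusInn
import Cfsg.Agent.Lib.OrthAut.MinusOut
import Cfsg.Agent.Lib.PGO.Models

/-!
The outer automorphism groups of the orthogonal groups of plus type in dimension at least ten.
-/

set_option autoImplicit false
set_option linter.unusedSectionVars false
set_option linter.style.haveILetI false
set_option linter.unusedSimpArgs false
set_option maxHeartbeats 1600000

namespace CfsgLib.OrthPlus

open QuadraticMap Module CfsgLib.OrthAut CfsgLib.OrthPair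
open CfsgLib.Lagrangian (Qp Qp_apply Qp_nondeg)
open scoped Matrix

universe u

/-- A commuting section of a cyclic quotient splits. -/
theorem split_iso {G O R : Type*} [Group G] [Group O] [Group R] (π : O →* R) (j : G →* O)
    (hj : Function.Injective j) (hrange : j.range = π.ker) {s : O} {f : ℕ} (hcomm : ∀ g, Commute (j g) s)
    (hs : s ^ f = 1) (hord : orderOf (π s) = f) (hgen : ∀ r, r ∈ Subgroup.zpowers (π s)) :
    Nonempty (O ≃* G × Multiplicative (ZMod f)) := by
  let Φ : G × Subgroup.zpowers s →* O := j.noncommCoprod (Subgroup.zpowers s).subtype fun g y => by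
    obtain ⟨k, hk⟩ := y.2
    show Commute (j g) y.1
    rw [← hk]
    exact (hcomm g).zpow_right k
  have hsord : orderOf s = f :=
    Nat.dvd_antisymm (orderOf_dvd_of_pow_eq_one hs) (hord ▸ orderOf_map_dvd π s)
  have hπj : ∀ g, π (j g) = 1 := fun g => MonoidHom.mem_ker.mp (hrange ▸ ⟨g, rfl⟩)
  have hΦ : Function.Bijective Φ := by
    refine ⟨(injective_iff_map_eq_one Φ).mpr fun ⟨g, y, k, hk⟩ h => ?_, fun q => ?_⟩
    · replace h : j g * y = 1 := h
      have h1 := congrArg π h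
      rw [map_mul, hπj, one_mul, map_one, ← hk, map_zpow, ← orderOf_dvd_iff_zpow_eq_one, hord, ← hsord,
        orderOf_dvd_iff_zpow_eq_one] at h1
      replace hk : y = 1 := hk.symm.trans h1
      subst hk
      rw [mul_one, ← map_one j] at h
      exact Prod.ext (hj h) rfl
    · obtain ⟨k, hk⟩ := hgen (π q)
      obtain ⟨g, hg⟩ : q * (s ^ k)⁻¹ ∈ j.range := by
        rw [hrange, MonoidHom.mem_ker, map_mul, map_inv, map_zpow]
        exact mul_inv_eq_one.mpr hk.symm
      exact ⟨(g, ⟨s ^ k, k, rfl⟩), by show j g * s ^ k = q; rw [hg, inv_mul_cancel_right]⟩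
  exact ⟨(MulEquiv.ofBijective Φ hΦ).symm.trans ((MulEquiv.refl G).prodCongr (mulEquivOfCyclicCardEq (by
    rw [Nat.card_zpowers, hsord, Nat.card_congr Multiplicative.toAdd, Nat.card_zmod])))⟩

variable {F : Type u} [Field F] [Fintype F] {m : ℕ} (hm : 5 ≤ m)

theorem es_mul (σ τ : RingAut F) : es (m := m) (σ * τ) = es σ * es τ :=
  Subtype.ext (SemidirectProduct.ext (by simp [es]) (by simp [es]))

theorem es_pow (σ : RingAut F) (k : ℕ) : es (m := m) (σ ^ k) = es σ ^ k := by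
  induction k with
  | zero => exact Subtype.ext (SemidirectProduct.ext (by simp [es]) (by simp [es]))
  | succ k ih => rw [pow_succ, es_mul, ih, pow_succ]

theorem refl_fixed {v : Fin m ⊕ Fin m → F} (σ : RingAut F) (hv : ∀ i, σ (v i) = v i) :
    (Cfsg.reflectionMatrix (⇑(Qp m F)) v).map σ = Cfsg.reflectionMatrix (⇑(Qp m F)) v := by
  have hQv : σ (Qp m F v) = Qp m F v := by simp [Qp_apply, Cfsg.quadFormPlus, map_sum, hv]
  have hp : ∀ j, σ (polar (⇑(Qp m F)) (Pi.single j 1) v) = polar (⇑(Qp m F)) (Pi.single j 1) v := fun j => by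
    have h1 : ∀ k : Fin m ⊕ Fin m, σ ((Pi.single j 1 : Fin m ⊕ Fin m → F) k) = (Pi.single j 1 : Fin m ⊕ Fin m → F) k :=
      fun k => by by_cases h : k = j <;> simp [h]
    simp [QuadraticMap.polar, Qp_apply, Cfsg.quadFormPlus, map_sum, hv, h1]
  have hp' : ∀ j, σ (polar (⇑(Qp m F)) v (Pi.single j 1)) = polar (⇑(Qp m F)) v (Pi.single j 1) := fun j => by
    rw [polar_comm, hp]
  ext i j
  by_cases h : i = j <;>
    simp [Cfsg.reflectionMatrix, Cfsg.polarVec, Matrix.vecMulVec_apply, Matrix.one_apply, h, hv, hp,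
      hp', hQv, map_sub, map_mul, map_inv₀]

variable {f : ℕ}

include hm in
/-- The setting: the linear classes are split off by a field class. -/
theorem setting (p : ℕ) [Fact p.Prime] [CharP F p] (hF : Fintype.card F = p ^ f) :
    ∃ (π : Cfsg.Out (Cfsg.POmega F ⇑(Qp m F)) →* RingAut F)
      (j : PGO.GO (Qp m F) ⧸ PGO.Ns (Qp m F) →* Cfsg.Out (Cfsg.POmega F ⇑(Qp m F))) (e : Cfsg.Out (Cfsg.POmega F ⇑(Qp m F)))
      (σ₀ : RingAut F), Function.Injective j ∧ j.range = π.ker ∧ π e = σ₀ ∧ e ^ f = 1 ∧ orderOf σ₀ = f ∧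
      (∀ r, r ∈ Subgroup.zpowers σ₀) ∧
      ∀ g : PGO.GO (Qp m F), ∃ y : PGO.GO (Qp m F), y.1.1 = g.1.1.map σ₀ ∧
        e * j (QuotientGroup.mk g) * e⁻¹ = j (QuotientGroup.mk y) := by
  haveI := Chev.ringAut_cyclic_finite F
  obtain ⟨hc, hcard⟩ := Chev.ringAut_cyclic_card (F := F) p (f := f) (by rw [Nat.card_eq_fintype_card, hF])
  obtain ⟨σ₀, hgen⟩ := hc.exists_generator
  have hord : orderOf σ₀ = f := by
    rw [← hcard, orderOf_eq_card_of_forall_mem_zpowers hgen]
  obtain ⟨π, j, hj, hrange, hπ, hjv⟩ :=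
    OrthMinus.exists_outer (Qp_nondeg (F := F) (m := m)) (hn_plus hm) (hmax_plus hm)
  refine ⟨π, j, QuotientGroup.mk (Ψ (es σ₀)), σ₀, hj, hrange, hπ _, ?_, hord, hgen, fun g => ?_⟩
  · rw [← QuotientGroup.mk_pow, ← map_pow, ← es_pow, show σ₀ ^ f = 1 from hord ▸ pow_orderOf_eq_one σ₀,
      show es (m := m) (1 : RingAut F) = 1 from Subtype.ext (SemidirectProduct.ext rfl rfl), map_one]
    rfl
  · obtain ⟨y, hy, he⟩ := conj_ofGO (es (m := m) σ₀) g
    refine ⟨y, ?_, ?_⟩
    · rw [hy, es_left, es_right, one_mul, inv_one, mul_one]; rfl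
    · rw [hjv, hjv, ← QuotientGroup.mk_inv, ← QuotientGroup.mk_mul, ← QuotientGroup.mk_mul, ← map_inv, ← map_mul,
        ← map_mul, he]

include hm in
theorem out_even (hF : Fintype.card F = 2 ^ f) :
    Nonempty (Cfsg.Out (Cfsg.POmega F ⇑(Qp m F)) ≃* Multiplicative (ZMod 2 × ZMod f)) := by
  haveI : Fact (Nat.Prime 2) := ⟨Nat.prime_two⟩
  haveI : CharP F 2 := charP_of_card_eq_prime_pow hF
  obtain ⟨π, j, e, σ₀, hj, hrange, hπe, hef, hord, hgen, hconj⟩ := setting hm 2 hF
  have h2 : (2 : F) = 0 := CharTwo.two_eq_zero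
  have hidx : (PGO.Ns (Qp m F)).index = 2 := by
    rw [← Gd_two h2]; exact Gd_index Qp_nondeg hev_plus (hn_plus hm)
  set v : Fin m ⊕ Fin m → F := Pi.single (Sum.inl ⟨0, by omega⟩) 1 + Pi.single (Sum.inr ⟨0, by omega⟩) 1 with hv
  have hv0 : Qp m F v ≠ 0 := by rw [hv, plus_value]; exact one_ne_zero
  obtain ⟨r, hr⟩ := exists_refl hv0
  have hrN : r ∉ PGO.Ns (Qp m F) := by
    rw [← Gd_two h2]; exact refl_notMem_Gd Qp_nondeg hev_plus (hn_plus hm) hv0 hr
  have hcomm : ∀ g, Commute (j g) e := by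
    intro g
    induction g using QuotientGroup.induction_on with
    | _ g =>
      obtain ⟨y, hy, hey⟩ := hconj r
      have hyr : y = r := Subtype.ext (Units.ext (by
        rw [hy, hr, refl_fixed σ₀ fun i => by
          simp only [hv, Pi.add_apply, Pi.single_apply]
          split_ifs <;> simp]))
      rw [hyr, mul_inv_eq_iff_eq_mul] at hey
      by_cases hg : g ∈ PGO.Ns (Qp m F)
      · rw [(QuotientGroup.eq_one_iff g).mpr hg, map_one]; exact Commute.one_left _
      · have : (QuotientGroup.mk g : PGO.GO (Qp m F) ⧸ PGO.Ns (Qp m F)) = QuotientGroup.mk r := by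
          rw [QuotientGroup.eq, Subgroup.mul_mem_iff_of_index_two hidx, inv_mem_iff]
          exact iff_of_false hg hrN
        rw [this]
        exact hey.symm
  obtain ⟨ψ⟩ := split_iso π j hj hrange hcomm hef (hπe ▸ hord) (hπe ▸ hgen)
  have hq : Nat.card (PGO.GO (Qp m F) ⧸ PGO.Ns (Qp m F)) = 2 := hidx
  exact ⟨(ψ.trans ((mulEquivOfPrimeCardEq hq ((Nat.card_congr Multiplicative.toAdd).trans (Nat.card_zmod 2))).prodCongr
    (MulEquiv.refl _))).trans (MulEquiv.prodMultiplicative (ZMod 2) (ZMod f)).symm⟩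

include hm in
theorem out_odd_split (p : ℕ) [Fact p.Prime] [CharP F p] (hp : p ≠ 2) (hF : Fintype.card F = p ^ f) :
    Nonempty (Cfsg.Out (Cfsg.POmega F ⇑(Qp m F)) ≃*
      (PGO.GO (Qp m F) ⧸ PGO.Ns (Qp m F)) × Multiplicative (ZMod f)) := by
  classical
  obtain ⟨π, j, e, σ₀, hj, hrange, hπe, hef, hord, hgen, hconj⟩ := setting hm p hF
  have hodd : Odd (Fintype.card F) := by
    rw [hF]; exact ((Fact.out : p.Prime).odd_of_ne_two hp).pow
  let D := PGO.plusData (F := F) (m := m) hodd (by omega)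
  -- the reflection is fixed
  have hx : e * j D.x * e⁻¹ = j D.x := by
    obtain ⟨y, hy, hey⟩ := hconj D.r
    have hyr : y = D.r := Subtype.ext (Units.ext (by
      have hr : D.r.1.1 = Cfsg.reflectionMatrix (⇑(Qp m F)) D.a := OmegaList.symm_refl_matrix (Qp m F) D.ha
      rw [hy, hr, refl_fixed σ₀ fun i => by
        show σ₀ (PGO.vPlus _ i) = PGO.vPlus _ i
        rcases (@Classical.arbitrary _ D.nonempty : Fin m ⊕ Fin m) with k | k <;>
          simp only [PGO.vPlus, Sum.elim_inl, Sum.elim_inr, OmegaPlus.w, Pi.add_apply, Pi.smul_apply,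
            Pi.single_apply, smul_eq_mul] <;> split_ifs <;> simp]))
    rwa [hyr] at hey
  -- the similarity moves at most to its conjugate
  obtain ⟨y, hy, hey⟩ := hconj D.δ
  have hyν : ∀ v, Qp m F (y.1.1 *ᵥ v) = σ₀ (D.ν : F) * Qp m F v := fun v => by
    have hd : D.δ.1.1 = (PGO.dPlus (m := m) D.ν).1 := rfl
    have : y.1.1 = (PGO.dPlus (m := m) (Units.map σ₀.toRingHom.toMonoidHom D.ν)).1 := by
      rw [hy, hd]
      show (Matrix.fromBlocks 0 ((D.ν : F) • (1 : Matrix (Fin m) (Fin m) F)) 1 0).map σ₀ = _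
      rw [Matrix.fromBlocks_map]
      show Matrix.fromBlocks _ _ _ _ = Matrix.fromBlocks _ _ _ _
      congr 1
      · exact Matrix.map_zero _ (map_zero σ₀)
      · ext a b; by_cases hab : a = b <;> simp [Matrix.one_apply, hab]
      · exact Matrix.map_one _ (map_zero σ₀) (map_one σ₀)
      · exact Matrix.map_zero _ (map_zero σ₀)
    rw [this]; exact PGO.Qp_dPlus _ v
  have hHs : D.δ⁻¹ * y ∈ PGO.Hs (Qp m F) := by
    have hσν : σ₀ (D.ν : F) ≠ 0 := by simp
    have hns : ¬ IsSquare (σ₀ (D.ν : F)) := fun ⟨t, ht⟩ => D.hν ⟨σ₀.symm t, σ₀.injective (by rw [ht, map_mul]; simp)⟩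
    obtain ⟨t, ht⟩ : IsSquare ((D.ν : F)⁻¹ * σ₀ (D.ν : F)) := by
      rw [OmegaMem.isSquare_mul_iff D.h2 (inv_ne_zero D.ν.ne_zero) hσν, isSquare_inv]
      exact iff_of_false D.hν hns
    have ht0 : t ≠ 0 := fun h0 => mul_ne_zero (inv_ne_zero D.ν.ne_zero) hσν (by rw [ht, h0, mul_zero])
    obtain ⟨u, hu⟩ : ∃ u : Fˣ, (u : F) = t := ⟨Units.mk0 t ht0, rfl⟩
    have hmult : ∀ v, Qp m F ((D.δ⁻¹ * y).1.1 *ᵥ v) = t * t * Qp m F v := fun v => by
      have h5 := D.hδ ((D.δ⁻¹ * y).1.1 *ᵥ v)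
      rw [Matrix.mulVec_mulVec, ← Units.val_mul, ← Subgroup.coe_mul, mul_inv_cancel_left, hyν] at h5
      have := D.ν.ne_zero
      rw [← ht]
      field_simp
      linear_combination -h5
    have hprop : D.δ⁻¹ * y ∈ PGO.propSub (Qp m F) := by
      have h1 : D.δ ∈ PGO.propSub (Qp m F) ↔ y ∈ PGO.propSub (Qp m F) := by
        have hσ0 : σ₀ (D.ν : F) ≠ 0 := by simp
        rw [D.mem_prop_iff (c := D.ν) D.hδ, D.mem_prop_iff (c := Units.mk0 _ hσ0) hyν, Units.val_mk0, hy]
        rw [show (D.δ.1.1.map σ₀).det = σ₀ D.δ.1.1.det from (RingHom.map_det σ₀.toRingHom D.δ.1.1).symm, ← map_pow,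
          EmbeddingLike.apply_eq_iff_eq]
      by_cases hδ : D.δ ∈ PGO.propSub (Qp m F)
      · exact mul_mem (inv_mem hδ) (h1.mp hδ)
      · rw [← Gd_odd D.h2] at h1 hδ ⊢
        rw [Subgroup.mul_mem_iff_of_index_two (Gd_index Qp_nondeg hev_plus (hn_plus hm)), inv_mem_iff]
        exact h1
    have hdet : (D.δ⁻¹ * y).1.1.det = (t * t) ^ PGO.half (Fin m ⊕ Fin m) := by
      have := (D.mem_prop_iff (c := u * u) (fun v => by rw [Units.val_mul, hu]; exact hmult v)).mp hprop
      rwa [Units.val_mul, hu] at this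
    refine ⟨u, PGO.sc u⁻¹ * (D.δ⁻¹ * y).1, ⟨fun v _ => ?_, Units.ext ?_⟩, by simp⟩
    · show Qp m F ((PGO.sc u⁻¹ * (D.δ⁻¹ * y).1 : GL _ F).1 *ᵥ v) = Qp m F v
      rw [Units.val_mul, ← Matrix.mulVec_mulVec, PGO.sc_mulVec, QuadraticMap.map_smul, hmult, ← hu, smul_eq_mul,
        Units.val_inv_eq_inv_val]
      field_simp
    · show (PGO.sc u⁻¹ * (D.δ⁻¹ * y).1 : GL _ F).1.det = 1
      rw [Units.val_mul, Matrix.det_mul, PGO.sc_val, Matrix.det_smul, Matrix.det_one, mul_one, hdet, D.card_eq,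
        Units.val_inv_eq_inv_val, hu, pow_mul, ← mul_pow, show t⁻¹ ^ 2 * (t * t) = 1 by field_simp, one_pow]
  have hym : e * j D.y * e⁻¹ = j D.y ∨ e * j D.y * e⁻¹ = j D.x * j D.y * j D.x := by
    have key : ∀ q, (QuotientGroup.mk D.δ : PGO.GO (Qp m F) ⧸ PGO.Ns (Qp m F))⁻¹ * QuotientGroup.mk y = q →
        e * j D.y * e⁻¹ = j D.y * j q := fun q hq => by
      rw [← map_mul, ← hq]
      show e * j (QuotientGroup.mk D.δ) * e⁻¹ = j (QuotientGroup.mk D.δ * ((QuotientGroup.mk D.δ)⁻¹ * QuotientGroup.mk y))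
      rw [mul_inv_cancel_left, hey]
    have hmk : (QuotientGroup.mk (D.δ⁻¹ * y) : PGO.GO (Qp m F) ⧸ PGO.Ns (Qp m F)) =
        (QuotientGroup.mk D.δ)⁻¹ * QuotientGroup.mk y := by rw [QuotientGroup.mk_mul, QuotientGroup.mk_inv]
    rcases D.mk_Hs hHs with h | h <;> rw [hmk] at h
    · left; rw [key _ h, map_one, mul_one]
    · right
      rw [key _ h, ← map_mul, ← map_mul, ← map_mul]
      congr 1
      -- y (x y x y) = y (y x y x) = x y x
      have h4 : D.y * (D.x * D.y) * (D.x * D.y) = D.x * D.y * D.x := by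
        have h2 : D.x * D.y * (D.x * D.y) * (D.x * D.y * (D.x * D.y)) = 1 := by
          rw [D.u_sq, ← QuotientGroup.mk_mul, QuotientGroup.eq_one_iff, ← PGO.Data.toGO_mul]
          exact PGO.Data.mem_Ns_of_mem (OmegaList.sq_mem_commutator (Qp m F) D.hc D.z₀)
        have h3 : D.x * D.y * (D.x * D.y) = D.y * D.x * (D.y * D.x) := by
          rw [eq_inv_of_mul_eq_one_left h2]
          simp only [_root_.mul_inv_rev, inv_eq_of_mul_eq_one_right D.x_sq, inv_eq_of_mul_eq_one_right D.y_sq]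
        rw [mul_assoc, h3, ← mul_assoc, ← mul_assoc D.y D.y D.x, D.y_sq, one_mul, mul_assoc]
      rw [← mul_assoc]; exact h4
  -- the corrected section
  have hxx : j D.x * j D.x = 1 := by rw [← map_mul, D.x_sq, map_one]
  have hxe : Commute e (j D.x) := mul_inv_eq_iff_eq_mul.mp hx
  obtain ⟨s, hsx, hsy, hsf, hπs⟩ : ∃ s, Commute (j D.x) s ∧ Commute (j D.y) s ∧ s ^ f = 1 ∧ π s = σ₀ := by
    rcases hym with h | h
    · exact ⟨e, hxe.symm, (mul_inv_eq_iff_eq_mul.mp h).symm, hef, hπe⟩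
    · by_cases hfe : Even f
      · refine ⟨j D.x * e, (Commute.refl _).mul_right hxe.symm, ?_, ?_, ?_⟩
        · have h1 : e * j D.y = j D.x * j D.y * j D.x * e := mul_inv_eq_iff_eq_mul.mp h
          show j D.y * (j D.x * e) = j D.x * e * j D.y
          rw [mul_assoc (j D.x) e, h1, ← mul_assoc (j D.x), ← mul_assoc (j D.x), ← mul_assoc (j D.x), hxx, one_mul,
            ← mul_assoc]
        · rw [hxe.symm.mul_pow, hef, mul_one]
          obtain ⟨k, rfl⟩ := hfe
          rw [← two_mul, pow_mul, pow_two, hxx, one_pow]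
        · rw [map_mul, hπe, show π (j D.x) = 1 from MonoidHom.mem_ker.mp (hrange ▸ ⟨_, rfl⟩), one_mul]
      · refine ⟨e, hxe.symm, ?_, hef, hπe⟩
        -- an element of odd order acting as an involution acts trivially
        have h2 : Commute (e * e) (j D.y) := by
          rw [commute_iff_eq, ← mul_inv_eq_iff_eq_mul]
          calc e * e * j D.y * (e * e)⁻¹ = e * (e * j D.y * e⁻¹) * e⁻¹ := by group
            _ = e * (j D.x * j D.y * j D.x) * e⁻¹ := by rw [h]
            _ = (e * j D.x * e⁻¹) * (e * j D.y * e⁻¹) * (e * j D.x * e⁻¹) := by group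
            _ = j D.y := by
              rw [hx, h, ← mul_assoc, ← mul_assoc, hxx, one_mul, mul_assoc, hxx, mul_one]
        obtain ⟨k, hk⟩ := Nat.not_even_iff_odd.mp hfe
        have he : (e * e) ^ (k + 1) = e := by
          rw [← pow_two, ← pow_mul, show 2 * (k + 1) = f + 1 by omega, pow_succ, hef, one_mul]
        exact (he ▸ h2.pow_left (k + 1)).symm
  refine split_iso π j hj hrange (s := s) (fun g => ?_) hsf (hπs ▸ hord) (hπs ▸ hgen)
  have : Subgroup.closure ({D.x, D.x * D.y} : Set _) ≤ (Subgroup.centralizer {s}).comap j := by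
    rw [Subgroup.closure_le]
    rintro q (rfl | rfl) <;> rw [SetLike.mem_coe, Subgroup.mem_comap, Subgroup.mem_centralizer_singleton_iff]
    · exact hsx.eq
    · rw [map_mul]; exact (hsx.mul_left hsy).eq
  exact (Subgroup.mem_centralizer_singleton_iff.mp (this (D.generate ▸ Subgroup.mem_top g)))

end CfsgLib.OrthPlus
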