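import Cfsg.Agent.Lib.OrthAut.Basic

/-!
Automorphisms permute the root groups of the simple orthogonal groups.
-/

set_option autoImplicit false
set_option linter.unusedSectionVars false
set_option linter.style.haveILetI false
set_option linter.unusedSimpArgs false

namespace CfsgLib.OrthAut

open QuadraticMap CfsgLib.WittExtension Module CfsgLib.Eichler CfsgLib.OmegaSimple

variable {F V : Type*} [Field F] [Finite F] [AddCommGroup V] [Module F V] [FiniteDimensional F V]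
variable (Q : QuadraticForm F V)

/-- The unipotent radical of the stabiliser of a totally singular subspace. -/
def NW (W : Submodule F V) : Subgroup ↥(Om Q) where
  carrier := {g | (∀ w ∈ W, g.1.1 w = w) ∧ ∀ x, (∀ w ∈ W, polar Q x w = 0) → g.1.1 x - x ∈ W}
  one_mem' := ⟨fun w _ => rfl, fun x _ => by simp⟩
  mul_mem' := fun {a b} ha hb => ⟨fun w hw => by
      show a.1.1 (b.1.1 w) = w
      rw [hb.1 w hw, ha.1 w hw], fun x hx => by
      show a.1.1 (b.1.1 x) - x ∈ W
      have h1 := hb.2 x hx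
      rw [show a.1.1 (b.1.1 x) - x = a.1.1 (b.1.1 x - x) + (a.1.1 x - x) by rw [map_sub]; abel, ha.1 _ h1]
      exact add_mem h1 (ha.2 x hx)⟩
  inv_mem' := fun {a} ha => ⟨fun w hw => by
      show a.1.1.symm w = w
      rw [LinearEquiv.symm_apply_eq]; exact (ha.1 w hw).symm, fun x hx => by
      show a.1.1.symm x - x ∈ W
      have h := ha.2 x hx
      have : a.1.1 (a.1.1.symm x - x) = x - a.1.1 x := by rw [map_sub, LinearEquiv.apply_symm_apply]
      have h' : a.1.1.symm (x - a.1.1 x) = x - a.1.1 x := by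
        rw [LinearEquiv.symm_apply_eq]
        exact (ha.1 _ (by rw [← neg_sub]; exact neg_mem h)).symm
      rw [← this, LinearEquiv.symm_apply_apply, this] at h'
      rw [h', ← neg_sub]
      exact neg_mem h⟩

variable {Q}

theorem mem_NW {W : Submodule F V} {g : Om Q} : g ∈ NW Q W ↔
    (∀ w ∈ W, g.1.1 w = w) ∧ ∀ x, (∀ w ∈ W, polar Q x w = 0) → g.1.1 x - x ∈ W := Iff.rfl

theorem eich_mem_NW {W : Submodule F V} {u d : V} (hu : u ∈ W) (hW : ∀ a ∈ W, ∀ b ∈ W, polar Q a b = 0)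
    (hd : ∀ a ∈ W, polar Q d a = 0) {g : Om Q} (hg : IsEich Q u d g.1) : g ∈ NW Q W := by
  refine ⟨fun w hw => ?_, fun x hx => ?_⟩
  · rw [hg w, hW u hu w hw, hd w hw]; simp
  · rw [hg x, add_sub_cancel_left, polar_comm Q u x, hx u hu, zero_smul, zero_add]
    exact W.smul_mem _ hu

section

variable (hQ : (polarBilin Q).Nondegenerate) (hn : 7 ≤ finrank F V)
include hQ hn

theorem NW_pgroup (W : Submodule F V) : IsPGroup (ringChar F) (NW Q W) := by
  haveI := Fact.mk (CharP.char_is_prime F (ringChar F))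
  haveI := Module.nontrivial_of_finrank_pos (R := F) (M := V) (by omega)
  haveI : CharP (Module.End F V) (ringChar F) :=
    charP_of_injective_algebraMap (FaithfulSMul.algebraMap_injective F (Module.End F V)) _
  intro g
  refine ⟨2, Subtype.ext (Subtype.ext (Subtype.ext (LinearEquiv.ext fun x => ?_)))⟩
  obtain ⟨h1, h2⟩ := mem_NW.mp g.2
  obtain ⟨D, hD⟩ : ∃ D : Module.End F V, D = (g.1.1.1 : V →ₗ[F] V) - 1 := ⟨_, rfl⟩
  have hDx : ∀ y, D y = g.1.1.1 y - y := fun y => by rw [hD]; rfl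
  have hD3 : D ^ 3 = 0 := by
    refine LinearMap.ext fun y => ?_
    show D (D (D y)) = 0
    have hy : ∀ w ∈ W, polar Q (D y) w = 0 := fun w hw => by
      rw [hDx, sub_eq_add_neg, polar_add_left, polar_neg_left]
      conv_lhs => arg 1; rw [← h1 w hw, OrthOrder.polar_map g.1.1.2]
      exact add_neg_cancel _
    rw [hDx (D (D y)), hDx (D y), h1 _ (h2 _ hy), sub_self]
  have hp : 3 ≤ ringChar F ^ 2 := by
    have h2p := (Fact.out : (ringChar F).Prime).two_le
    calc 3 ≤ 2 ^ 2 := by norm_num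
      _ ≤ ringChar F ^ 2 := Nat.pow_le_pow_left h2p 2
  have hcomm : Commute (g.1.1.1 : Module.End F V) 1 := Commute.one_right _
  have hpow := sub_pow_char_pow_of_commute (p := ringChar F) (n := 2) hcomm
  rw [one_pow, ← hD, ← Nat.add_sub_cancel' hp, pow_add, hD3, zero_mul, Nat.add_sub_cancel' hp, eq_comm,
    sub_eq_zero] at hpow
  have hco : ∀ k : ℕ, ((g ^ k).1.1.1 : V →ₗ[F] V) = (g.1.1.1 : Module.End F V) ^ k := by
    intro k
    induction k with
    | zero => rfl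
    | succ k ih => rw [pow_succ, pow_succ, ← ih]; rfl
  exact congrArg (fun l : Module.End F V => l x) ((hco _).trans hpow)

variable [Finite V]

theorem card_A_bound (e : Sing Q) : Nat.card (A Q e) * (Nat.card F * Nat.card F) ≤ Nat.card V := by
  haveI : Finite (quadIso Q) := Finite.of_injective (fun g => (g.1 : V → V)) fun g h e =>
    Subtype.ext (LinearEquiv.ext (congrFun e))
  obtain ⟨f, hf⟩ := exists_opp hQ hn e
  have hsur : Nat.card (A Q e) ≤ Nat.card (perp Q e.1 f.1) := by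
    have hx : ∀ u : perp Q e.1 f.1, ∃ g : Om Q, g ∈ rad Q e ∧ IsEich Q e.1 u.1 g.1 := fun u =>
      exists_el hQ hn e ((mem_perp Q).mp u.2).1
    choose el hel hel' using hx
    refine Nat.card_le_card_of_surjective (fun u => (⟨pr Q (el u), el u, hel u, rfl⟩ : A Q e)) ?_
    rintro ⟨y, g, hgr, rfl⟩
    obtain ⟨w, hw, hg⟩ := mem_rad.mp hgr
    refine ⟨⟨w - polar Q f.1 w • e.1, (mem_perp Q).mpr ⟨?_, ?_⟩⟩, Subtype.ext (congrArg (pr Q) ?_)⟩
    · simp [sub_eq_add_neg, polar_add_right, polar_neg_right, polar_smul_right, hw, ReflectionGen.pol_self, e.2.2]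
    · simp [sub_eq_add_neg, polar_add_right, polar_neg_right, polar_smul_right, polar_comm Q f.1 e.1, hf]
    · refine Subtype.ext (eich_unique Q (hel' _) ?_)
      have := eich_shift Q e.2.2 hw (-polar Q f.1 w) hg
      rwa [neg_smul, ← sub_eq_add_neg] at this
  have hinj : Nat.card (perp Q e.1 f.1 × F × F) ≤ Nat.card V := by
    refine Nat.card_le_card_of_injective (fun z => z.1.1 + z.2.1 • e.1 + z.2.2 • f.1) fun z z' h => ?_
    obtain ⟨h1, h2⟩ := (mem_perp Q).mp z.1.2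
    obtain ⟨h1', h2'⟩ := (mem_perp Q).mp z'.1.2
    have he := congrArg (polar Q e.1) h
    have hff := congrArg (polar Q f.1) h
    simp [polar_add_right, polar_smul_right, ReflectionGen.pol_self, e.2.2, f.2.2, h1, h2, h1', h2', hf,
      polar_comm Q f.1 e.1] at he hff
    simp only [he, hff, add_left_inj] at h
    exact Prod.ext (Subtype.ext h) (Prod.ext hff he)
  rw [Nat.card_prod, Nat.card_prod] at hinj
  exact (Nat.mul_le_mul_right _ hsur).trans hinj

/-- A lower bound for the radical of a maximal totally singular subspace. -/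
theorem card_NW_bound {W : Submodule F V} (hW : ∀ a ∈ W, Q a = 0) {k : ℕ} (hk : finrank F W = k + 3) :
    Nat.card F ^ ((k + 2) + (k + 1) + k) ≤ Nat.card ((NW Q W).map (pr Q)) := by
  classical
  haveI : Finite (quadIso Q) := Finite.of_injective (fun g => (g.1 : V → V)) fun g h e =>
    Subtype.ext (LinearEquiv.ext (congrFun e))
  have hWW : ∀ a ∈ W, ∀ b ∈ W, polar Q a b = 0 := fun a ha b hb => by
    simp [polar, hW _ ha, hW _ hb, hW _ (add_mem ha hb)]
  let bas := Module.finBasisOfFinrankEq F W hk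
  let v : Fin (k + 3) → V := fun i => (bas i).1
  have hli : LinearIndependent F v := bas.linearIndependent.map' W.subtype (Submodule.ker_subtype W)
  obtain ⟨f, hf⟩ := dual_family hQ hn v hli
  let i0 : Fin (k + 3) := ⟨0, by omega⟩
  let i1 : Fin (k + 3) := ⟨1, by omega⟩
  let i2 : Fin (k + 3) := ⟨2, by omega⟩
  let j0 : Fin (k + 2) → Fin (k + 3) := fun i => ⟨i.1 + 1, by omega⟩
  let j1 : Fin (k + 1) → Fin (k + 3) := fun i => ⟨i.1 + 2, by omega⟩
  let j2 : Fin k → Fin (k + 3) := fun i => ⟨i.1 + 3, by omega⟩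
  let mk : ∀ {l : ℕ}, (Fin l → Fin (k + 3)) → (Fin l → F) → V := fun j c => ∑ i, c i • v (j i)
  have hmkW : ∀ {l : ℕ} (j : Fin l → Fin (k + 3)) (c : Fin l → F), mk j c ∈ W := fun j c =>
    sum_mem fun i _ => W.smul_mem _ (bas (j i)).2
  have hmkf : ∀ {l : ℕ} (j : Fin l → Fin (k + 3)) (c : Fin l → F) (s : Fin (k + 3)), (∀ i, j i ≠ s) →
      polar Q (mk j c) (f s) = 0 := fun j c s hs => by
    show polarBilin Q (∑ i, c i • v (j i)) (f s) = 0
    rw [map_sum, LinearMap.sum_apply]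
    refine Finset.sum_eq_zero fun i _ => ?_
    rw [map_smul, LinearMap.smul_apply]
    show c i • polar Q (v (j i)) (f s) = 0
    rw [hf, if_neg (hs i), smul_zero]
  have hmkinj : ∀ {l : ℕ} (j : Fin l → Fin (k + 3)), Function.Injective j → Function.Injective (mk j) := by
    intro l j hj c c' h
    have h0 : ∑ i, (c i - c' i) • v (j i) = 0 := by
      simp only [sub_smul, Finset.sum_sub_distrib]; exact sub_eq_zero.mpr h
    funext i
    exact sub_eq_zero.mp (Fintype.linearIndependent_iff.mp (hli.comp j hj) _ h0 i)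
  have hi : ∀ i s, polar Q (v i) (f s) = if i = s then 1 else 0 := hf
  have hel : ∀ (i : Fin (k + 3)) (a : V), a ∈ W →
      ∃ g : Om Q, g ∈ NW Q W ∧ IsEich Q (v i) a g.1 := fun i a ha => by
    obtain ⟨g, -, hg⟩ := exists_el hQ hn (⟨v i, hli.ne_zero i, hW _ (bas i).2⟩ : Sing Q)
      (hWW _ (bas i).2 _ ha)
    exact ⟨g, eich_mem_NW (bas i).2 hWW (fun b hb => hWW a ha b hb) hg, hg⟩
  choose el hel1 hel2 using hel
  let Φ : (Fin (k + 2) → F) × (Fin (k + 1) → F) × (Fin k → F) → (NW Q W).map (pr Q) := fun c =>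
    ⟨pr Q (el i0 (mk j0 c.1) (hmkW _ _) * el i1 (mk j1 c.2.1) (hmkW _ _) * el i2 (mk j2 c.2.2) (hmkW _ _)),
      _, mul_mem (mul_mem (hel1 _ _ _) (hel1 _ _ _)) (hel1 _ _ _), rfl⟩
  have hval : ∀ (c : (Fin (k + 2) → F) × (Fin (k + 1) → F) × (Fin k → F)) (x : V),
      (el i0 (mk j0 c.1) (hmkW _ _) * el i1 (mk j1 c.2.1) (hmkW _ _) * el i2 (mk j2 c.2.2) (hmkW _ _) : Om Q).1.1 x =
        x + polar Q (v i0) x • mk j0 c.1 + (-(polar Q (mk j0 c.1) x)) • v i0
          + (polar Q (v i1) x • mk j1 c.2.1 + (-(polar Q (mk j1 c.2.1) x)) • v i1)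
          + (polar Q (v i2) x • mk j2 c.2.2 + (-(polar Q (mk j2 c.2.2) x)) • v i2) := by
    intro c x
    show (el i0 _ _).1.1 ((el i1 _ _).1.1 ((el i2 _ _).1.1 x)) = _
    have hadd : ∀ (i : Fin (k + 3)) (a : V) (ha : a ∈ W) (y b : V), b ∈ W →
        (el i a ha).1.1 (y + b) = (el i a ha).1.1 y + b := fun i a ha y b hb => by
      rw [map_add, (mem_NW.mp (hel1 i a ha)).1 b hb]
    have hmem : ∀ (s t : F) {l : ℕ} (j : Fin l → Fin (k + 3)) (d : Fin l → F) (i : Fin (k + 3)),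
        s • mk j d + t • v i ∈ W := fun s t _ j d i =>
      add_mem (W.smul_mem _ (hmkW j d)) (W.smul_mem _ (bas i).2)
    rw [hel2 i2 _ _ x, hadd i1 _ _ _ _ (hmem _ _ _ _ _), hel2 i1 _ _ x, hadd i0 _ _ _ _ (hmem _ _ _ _ _),
      hadd i0 _ _ _ _ (hmem _ _ _ _ _), hel2 i0 _ _ x]
    simp only [hW _ (hmkW _ _), zero_mul, sub_zero]
    abel
  have hΦ : Function.Injective Φ := by
    intro c c' h
    have heq := pr_eq_of_fix hQ hn (hli.ne_zero i0)
      ((mem_NW.mp (mul_mem (mul_mem (hel1 _ _ _) (hel1 _ _ _)) (hel1 _ _ _))).1 _ (bas i0).2)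
      ((mem_NW.mp (mul_mem (mul_mem (hel1 _ _ _) (hel1 _ _ _)) (hel1 _ _ _))).1 _ (bas i0).2)
      (congrArg Subtype.val h)
    have hx : ∀ x, _ := fun x => congrArg (fun g : Om Q => g.1.1 x) heq
    simp only [hval] at hx
    have n01 : i0 ≠ i1 := by simp [i0, i1, Fin.ext_iff]
    have n02 : i0 ≠ i2 := by simp [i0, i2, Fin.ext_iff]
    have n12 : i1 ≠ i2 := by simp [i1, i2, Fin.ext_iff]
    have a00 : ∀ d, polar Q (mk j0 d) (f i0) = 0 := fun d => hmkf _ _ _ fun i =>
      Fin.ne_of_val_ne (show i.1 + 1 ≠ 0 by omega)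
    have a10 : ∀ d, polar Q (mk j1 d) (f i0) = 0 := fun d => hmkf _ _ _ fun i =>
      Fin.ne_of_val_ne (show i.1 + 2 ≠ 0 by omega)
    have a20 : ∀ d, polar Q (mk j2 d) (f i0) = 0 := fun d => hmkf _ _ _ fun i =>
      Fin.ne_of_val_ne (show i.1 + 3 ≠ 0 by omega)
    have a11 : ∀ d, polar Q (mk j1 d) (f i1) = 0 := fun d => hmkf _ _ _ fun i =>
      Fin.ne_of_val_ne (show i.1 + 2 ≠ 1 by omega)
    have a21 : ∀ d, polar Q (mk j2 d) (f i1) = 0 := fun d => hmkf _ _ _ fun i =>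
      Fin.ne_of_val_ne (show i.1 + 3 ≠ 1 by omega)
    have a22 : ∀ d, polar Q (mk j2 d) (f i2) = 0 := fun d => hmkf _ _ _ fun i =>
      Fin.ne_of_val_ne (show i.1 + 3 ≠ 2 by omega)
    have e1 := hx (f i0)
    simp [hi, n01.symm, n02.symm, a00, a10, a20] at e1
    have c1 : c.1 = c'.1 := hmkinj j0 (fun a b h => by simpa [j0, Fin.ext_iff] using h) e1
    have e2 := hx (f i1)
    simp [hi, n01, n12.symm, a11, a21, c1] at e2
    have c2 : c.2.1 = c'.2.1 := hmkinj j1 (fun a b h => by simpa [j1, Fin.ext_iff] using h) e2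
    have e3 := hx (f i2)
    simp [hi, n02, n12, a22, c1, c2] at e3
    have c3 : c.2.2 = c'.2.2 := hmkinj j2 (fun a b h => by simpa [j2, Fin.ext_iff] using h) e3
    exact Prod.ext c1 (Prod.ext c2 c3)
  have := Nat.card_le_card_of_injective Φ hΦ
  simpa [Nat.card_prod, Nat.card_fun, pow_add, mul_assoc] using this

theorem map_A_eq (hmax : (∀ W : Submodule F V, (∀ a ∈ W, Q a = 0) → 2 * finrank F W < finrank F V) ∨
      10 ≤ finrank F V) (φ : MulAut (POm Q)) (e : Sing Q) :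
    ∃ e' : Sing Q, (A Q e).map φ.toMonoidHom = A Q e' := by
  classical
  haveI := Fact.mk (CharP.char_is_prime F (ringChar F))
  haveI : Finite (quadIso Q) := Finite.of_injective (fun g => (g.1 : V → V)) fun g h e =>
    Subtype.ext (LinearEquiv.ext (congrFun e))
  obtain ⟨H, hH⟩ : ∃ H, H = (ST Q e).map φ.toMonoidHom := ⟨_, rfl⟩
  have hHne : H ≠ ⊤ := by
    rw [hH]
    intro h
    refine ST_ne_top hQ hn e ?_
    rw [← Subgroup.map_top_of_surjective φ.toMonoidHom φ.surjective] at h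
    exact Subgroup.map_injective φ.injective h
  -- the image of the root group
  have hR : (A Q e).map φ.toMonoidHom = R H := by
    ext y
    obtain ⟨x, rfl⟩ := φ.surjective y
    rw [show φ x = φ.toMonoidHom x from rfl, Subgroup.mem_map_iff_mem φ.injective, ← R_eq hQ hn e, mem_R, mem_R]
    constructor
    · intro hx P hP
      let P' : Sylow (ringChar F) (POm Q) := P.mapSurjective (f := φ.symm.toMonoidHom) φ.symm.surjective
      have hP' : (P' : Subgroup (POm Q)) ≤ ST Q e := by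
        rintro - ⟨z, hz, rfl⟩
        obtain ⟨w, hw, rfl⟩ := hH ▸ hP hz
        simpa using hw
      obtain ⟨z, hz, hzx⟩ := hx P' hP'
      have : z = φ x := by
        simp at hzx
        rw [← hzx, MulEquiv.apply_symm_apply]
      show φ x ∈ P
      exact this ▸ hz
    · intro hx P hP
      let P' : Sylow (ringChar F) (POm Q) := P.mapSurjective (f := φ.toMonoidHom) φ.surjective
      have := hx P' (hH ▸ Subgroup.map_mono hP)
      exact (Subgroup.mem_map_iff_mem φ.injective).mp this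
  obtain ⟨P₀, hP₀⟩ := exists_sylow hQ hn e
  obtain ⟨P, hPdef⟩ : ∃ P : Sylow (ringChar F) (POm Q), P = P₀.mapSurjective (f := φ.toMonoidHom) φ.surjective :=
    ⟨_, rfl⟩
  have hP : (P : Subgroup (POm Q)) ≤ H := by rw [hPdef, hH]; exact Subgroup.map_mono hP₀
  obtain ⟨e₀, he₀⟩ := sylow_point hQ hn P
  have hA₀ : A Q e₀ ≤ H := (A_le_sylow hQ hn P he₀).trans hP
  obtain ⟨O, hO⟩ : ∃ O, O = {v : V | ∃ h : Om Q, pr Q h ∈ H ∧ v = h.1.1 e₀.1} := ⟨_, rfl⟩
  have hAO : ∀ h : Om Q, pr Q h ∈ H → A Q (e₀.map h.1) ≤ H := fun h hh =>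
    conj_A_le hQ hn hh (Sing.map_p e₀ h.1).symm hA₀
  have horth : ∀ a ∈ O, ∀ b ∈ O, polar Q a b = 0 := by
    rw [hO]
    rintro - ⟨h, hh, rfl⟩ - ⟨h', hh', rfl⟩
    by_contra hne
    exact hHne (gen hQ hn (e := e₀.map h.1) (f := e₀.map h'.1) hne (hAO h hh) (hAO h' hh'))
  obtain ⟨W, hWdef⟩ : ∃ W, W = Submodule.span F O := ⟨_, rfl⟩
  have hWW : ∀ a ∈ W, ∀ b ∈ W, polar Q a b = 0 := fun a ha b hb => by
    rw [hWdef] at ha hb
    refine Submodule.span_induction (p := fun a _ => ∀ b ∈ W, polar Q a b = 0) ?_ ?_ ?_ ?_ ha b (hWdef ▸ hb)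
    · intro x hx b hb
      rw [hWdef] at hb
      refine Submodule.span_induction (p := fun b _ => polar Q x b = 0) (fun y hy => horth x hx y hy)
        (QuadraticMap.polar_zero_right Q x) (fun y z _ _ h1 h2 => by rw [polar_add_right, h1, h2, add_zero])
        (fun c y _ h => by rw [polar_smul_right, h, smul_zero]) hb
    · intro b _; exact QuadraticMap.polar_zero_left Q b
    · intro x y _ _ h1 h2 b hb; rw [polar_add_left, h1 b hb, h2 b hb, add_zero]
    · intro c x _ h b hb; rw [polar_smul_left, h b hb, smul_zero]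
  have hWQ : ∀ a ∈ W, Q a = 0 := fun a ha => by
    rw [hWdef] at ha
    refine Submodule.span_induction (p := fun a _ => Q a = 0) ?_ (QuadraticMap.map_zero Q) ?_ ?_ ha
    · intro x hx
      rw [hO] at hx
      obtain ⟨h, -, rfl⟩ := hx
      rw [h.1.2]; exact e₀.2.2
    · intro x y hx hy h1 h2
      rw [QuadraticMap.map_add Q, h1, h2, hWW x (hWdef ▸ hx) y (hWdef ▸ hy), add_zero, add_zero]
    · intro c x _ h; rw [QuadraticMap.map_smul, h, smul_zero]
  have he₀W : e₀.1 ∈ W := by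
    rw [hWdef, hO]
    exact Submodule.subset_span ⟨1, by rw [map_one]; exact one_mem H, rfl⟩
  by_cases hline : ∀ h : Om Q, pr Q h ∈ H → h • e₀.p = e₀.p
  · -- `H` is a point stabiliser
    refine ⟨e₀, ?_⟩
    have hle : H ≤ ST Q e₀ := fun y hy => by
      obtain ⟨h, rfl⟩ := pr_surj Q y
      exact (mem_ST hQ hn).mpr (hline h hy)
    have hcard : Nat.card (ST Q e₀) = Nat.card (ST Q e) := by
      obtain ⟨g, hg⟩ := trans_pt hQ hn e e₀
      have hmap : (ST Q e).map (MulAut.conj (pr Q g)).toMonoidHom = ST Q e₀ := by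
        ext y
        obtain ⟨h, rfl⟩ := pr_surj Q y
        rw [mem_ST hQ hn]
        constructor
        · rintro ⟨z, hz, hzy⟩
          obtain ⟨k, rfl⟩ := pr_surj Q z
          replace hz := (mem_ST hQ hn).mp hz
          have e1 : pr Q h = pr Q (g * k * g⁻¹) := by rw [← hzy]; simp
          rw [← mem_ST hQ hn, e1, mem_ST hQ hn, mul_smul, mul_smul, ← hg, inv_smul_smul, hz]
        · intro h'
          refine ⟨pr Q (g⁻¹ * h * g), (mem_ST hQ hn).mpr ?_, by simp [mul_assoc]⟩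
          rw [mul_smul, mul_smul, hg, h', ← hg, inv_smul_smul]
      rw [← hmap, Subgroup.card_map_of_injective (MulAut.conj (pr Q g)).injective]
    have heq : H = ST Q e₀ := Subgroup.eq_of_le_of_card_ge hle (by
      rw [hcard, hH, Subgroup.card_map_of_injective φ.injective])
    rw [hR, heq, R_eq hQ hn]
  -- otherwise the radical of the subspace would be abelian
  exfalso
  push Not at hline
  obtain ⟨h₁, hh₁, hne₁⟩ := hline
  have hinv : ∀ h : Om Q, pr Q h ∈ H → ∀ a ∈ W, h.1.1 a ∈ W := fun h hh a ha => by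
    rw [hWdef] at ha ⊢
    refine (Submodule.map_span_le (h.1.1 : V →ₗ[F] V) O _).mpr ?_ (Submodule.mem_map_of_mem ha)
    intro x hx
    rw [hO] at hx
    obtain ⟨k, hk, rfl⟩ := hx
    rw [hO]
    exact Submodule.subset_span ⟨h * k, by rw [map_mul]; exact mul_mem hh hk, rfl⟩
  have hnorm : ∀ h : Om Q, pr Q h ∈ H → ∀ n ∈ NW Q W, h * n * h⁻¹ ∈ NW Q W := by
    intro h hh n hn'
    obtain ⟨n1, n2⟩ := mem_NW.mp hn'
    have hh' : pr Q h⁻¹ ∈ H := by rw [map_inv]; exact inv_mem hh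
    refine ⟨fun w hw => ?_, fun x hx => ?_⟩
    · show h.1.1 (n.1.1 (h.1.1.symm w)) = w
      rw [n1 _ (show h.1.1.symm w ∈ W from hinv h⁻¹ hh' w hw), LinearEquiv.apply_symm_apply]
    · show h.1.1 (n.1.1 (h.1.1.symm x)) - x ∈ W
      have hx' : ∀ w ∈ W, polar Q (h.1.1.symm x) w = 0 := fun w hw => by
        rw [← OrthOrder.polar_map h.1.2 (h.1.1.symm x) w, LinearEquiv.apply_symm_apply]
        exact hx _ (hinv h hh w hw)
      rw [show h.1.1 (n.1.1 (h.1.1.symm x)) - x = h.1.1 (n.1.1 (h.1.1.symm x) - h.1.1.symm x) by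
        rw [map_sub, LinearEquiv.apply_symm_apply]]
      exact hinv h hh _ (n2 _ hx')
  obtain ⟨K, hK⟩ : ∃ K, K = (NW Q W).map (pr Q) := ⟨_, rfl⟩
  have hKR : K ≤ R H := fun y hy => mem_R.mpr fun S hS => by
    subst hK
    refine sylow_normal_le hQ hn S ((NW_pgroup hQ hn W).map _) (fun s hs => ?_) hy
    have key : ∀ s ∈ H, ∀ z ∈ (NW Q W).map (pr Q), s * z * s⁻¹ ∈ (NW Q W).map (pr Q) := by
      intro s hs z hz
      obtain ⟨h, rfl⟩ := pr_surj Q s
      obtain ⟨n, hn', rfl⟩ := hz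
      exact ⟨h * n * h⁻¹, hnorm h hs n hn', by simp⟩
    rw [Subgroup.mem_normalizer_iff]
    intro z
    refine ⟨key s (hS hs) z, fun h => ?_⟩
    have := key s⁻¹ (inv_mem (hS hs)) _ h
    rwa [inv_inv, show s⁻¹ * (s * z * s⁻¹) * s = z by group] at this
  rw [← hR] at hKR
  by_cases hW2 : 2 * finrank F W < finrank F V
  · -- two non-commuting elements
    let u₁ := e₀.1
    let u₂ := h₁.1.1 e₀.1
    have hu₂ : u₂ ∈ W := hinv h₁ hh₁ _ he₀W
    have hind : ∀ c : F, u₂ ≠ c • u₁ := fun c hc => hne₁ (by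
      show h₁.1 • e₀.p = e₀.p
      rw [← e₀.map_p, Sing.p_eq_iff]
      exact ⟨c, hc⟩)
    obtain ⟨d₁, d₂, hd₁, hd₂, hdd⟩ : ∃ d₁ d₂, (∀ a ∈ W, polar Q d₁ a = 0) ∧ (∀ a ∈ W, polar Q d₂ a = 0) ∧
        polar Q d₁ d₂ ≠ 0 := by
      by_contra hcon
      push Not at hcon
      let B := polarBilin Q
      have hrefl : LinearMap.IsRefl B := fun a b h => by
        show polar Q b a = 0
        rw [polar_comm]; exact h
      let Wo := LinearMap.BilinForm.orthogonal B W
      have h1 : Wo ≤ LinearMap.BilinForm.orthogonal B Wo := fun x hx y hy =>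
        hcon y x (fun a ha => by rw [polar_comm]; exact hy a ha) (fun a ha => by rw [polar_comm]; exact hx a ha)
      rw [LinearMap.BilinForm.orthogonal_orthogonal hQ hrefl W] at h1
      have h2 := LinearMap.BilinForm.finrank_orthogonal hQ W
      have h3 := Submodule.finrank_mono h1
      change finrank F Wo = _ at h2
      omega
    obtain ⟨g₁, -, hg₁⟩ := exists_el hQ hn e₀ (w := d₁) (by rw [polar_comm]; exact hd₁ _ he₀W)
    obtain ⟨g₂, -, hg₂⟩ := exists_el hQ hn (e₀.map h₁.1) (w := d₂) (by rw [polar_comm]; exact hd₂ _ hu₂)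
    rw [hK] at hKR
    have m₁ := hKR ⟨g₁, eich_mem_NW he₀W hWW hd₁ hg₁, rfl⟩
    have m₂ := hKR ⟨g₂, eich_mem_NW hu₂ hWW hd₂ hg₂, rfl⟩
    obtain ⟨_, ⟨a₁, ha₁, rfl⟩, hm₁⟩ := m₁
    obtain ⟨_, ⟨a₂, ha₂, rfl⟩, hm₂⟩ := m₂
    have hc : pr Q (g₁ * g₂) = pr Q (g₂ * g₁) := by
      rw [map_mul, map_mul, ← hm₁, ← hm₂, ← map_mul, ← map_mul, ← map_mul, ← map_mul, rad_comm hQ hn ha₁ ha₂]
    have hf1 : g₁.1.1 u₁ = u₁ := (mem_NW.mp (eich_mem_NW he₀W hWW hd₁ hg₁)).1 _ he₀W
    have hf2 : g₂.1.1 u₁ = u₁ := (mem_NW.mp (eich_mem_NW hu₂ hWW hd₂ hg₂)).1 _ he₀W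
    have heq := pr_eq_of_fix hQ hn e₀.2.1 (e := u₁) (show g₁.1.1 (g₂.1.1 u₁) = u₁ by rw [hf2, hf1])
      (show g₂.1.1 (g₁.1.1 u₁) = u₁ by rw [hf1, hf2]) hc
    obtain ⟨fd, hfd⟩ := dual_family hQ hn ![u₁, u₂] (by
      refine (LinearIndependent.pair_iff' e₀.2.1).mpr fun a ha => hind a ha.symm)
    have f01 : polar Q u₁ (fd 1) = 0 := by simpa using hfd 0 1
    have f11 : polar Q u₂ (fd 1) = 1 := by simpa using hfd 1 1
    have h0 := congrArg (fun g : Om Q => g.1.1 (fd 1)) heq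
    change g₁.1.1 (g₂.1.1 (fd 1)) = g₂.1.1 (g₁.1.1 (fd 1)) at h0
    have e12 : polar Q u₁ d₂ = 0 := by rw [polar_comm]; exact hd₂ _ he₀W
    have e21 : polar Q u₂ d₁ = 0 := by rw [polar_comm]; exact hd₁ _ hu₂
    have e11 : polar Q u₁ u₂ = 0 := hWW _ he₀W _ hu₂
    have hg₂' : IsEich Q u₂ d₂ g₂.1 := hg₂
    have hg₁' : IsEich Q u₁ d₁ g₁.1 := hg₁
    simp only [hg₁' _, hg₂' _, polar_add_right, polar_smul_right, f01, f11, e12, e21, e11,
      polar_comm Q u₂ u₁, hd₁ u₂ hu₂, hd₂ u₁ he₀W, ReflectionGen.pol_self, hWQ _ hu₂, smul_eq_mul,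
      show Q u₁ = 0 from e₀.2.2] at h0
    have h1 : (-(polar Q d₁ d₂)) • u₁ = 0 := by linear_combination (norm := module) h0
    exact hdd (neg_eq_zero.mp ((smul_eq_zero.mp h1).resolve_right e₀.2.1))
  · -- cardinality
    have hn10 : 10 ≤ finrank F V := hmax.resolve_left fun h => hW2 (h W hWQ)
    obtain ⟨k, hk⟩ : ∃ k, finrank F W = k + 3 := ⟨finrank F W - 3, by omega⟩
    have h1 := card_NW_bound hQ hn hWQ hk
    have h2 := card_A_bound hQ hn e
    have h3 : Nat.card ((NW Q W).map (pr Q)) ≤ Nat.card (A Q e) := by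
      have hinj : Function.Injective φ.toMonoidHom := φ.injective
      have e1 : Nat.card ((A Q e).map φ.toMonoidHom) = Nat.card (A Q e) := Subgroup.card_map_of_injective hinj
      rw [← hK, ← e1]
      exact Subgroup.card_le_of_le hKR
    rw [Module.natCard_eq_pow_finrank (K := F) (V := V)] at h2
    have h4 : Nat.card F ^ ((k + 2) + (k + 1) + k + 2) ≤ Nat.card F ^ finrank F V := by
      refine le_trans ?_ h2
      rw [pow_add _ _ 2, pow_two]
      exact Nat.mul_le_mul_right _ (h1.trans h3)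
    have := (Nat.pow_le_pow_iff_right (Finite.one_lt_card (α := F))).mp h4
    omega

end

end CfsgLib.OrthAut
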