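import Cfsg.Agent.Lib.OrthAut.Transport
import Cfsg.Agent.Lib.PGO.Semilinear

/-!
Only scalars act trivially on a simple orthogonal group; field automorphisms of forms over the prime field.
-/

set_option autoImplicit false
set_option linter.unusedSectionVars false
set_option linter.style.haveILetI false
set_option linter.unusedSimpArgs false

namespace CfsgLib.OrthAut

open QuadraticMap CfsgLib.WittExtension Module CfsgLib.Eichler CfsgLib.OmegaSimple
open scoped Matrix commutatorElement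

section Abstract

variable {F V : Type*} [Field F] [Finite F] [AddCommGroup V] [Module F V] [FiniteDimensional F V]
variable {Q : QuadraticForm F V}

/-- A semilinear similitude commuting with the group modulo scalars is a scalar. -/
theorem rigid (hQ : (polarBilin Q).Nondegenerate) (hn : 7 ≤ finrank F V) (T : V → V) (σ : F ≃+* F) {m : F}
    (hm : m ≠ 0) (Tadd : ∀ x y, T (x + y) = T x + T y) (Tsmul : ∀ (c : F) x, T (c • x) = σ c • T x)
    (Tinj : Function.Injective T) (TQ : ∀ x, Q (T x) = m * σ (Q x))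
    (h : ∀ g : Om Q, ∃ c : F, ∀ x, g.1.1 (T x) = c • T (g.1.1 x)) :
    σ = RingEquiv.refl F ∧ ∃ μ : F, μ ≠ 0 ∧ ∀ x, T x = μ • x := by
  classical
  have T0 : T 0 = 0 := by have := Tsmul 0 0; rwa [zero_smul, map_zero, zero_smul] at this
  have hfix : ∀ e : Sing Q, ∃ μ : F, T e.1 = μ • e.1 := by
    intro e
    let e' : Sing Q := ⟨T e.1, fun h0 => e.2.1 (Tinj (h0.trans T0.symm)), by rw [TQ, e.2.2, map_zero, mul_zero]⟩
    suffices e'.p = e.p by
      obtain ⟨c, hc⟩ := Sing.p_eq_iff.mp this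
      exact ⟨c, hc⟩
    refine rad_fixed hQ hn fun g hg => ?_
    obtain ⟨w, hw, hgE⟩ := mem_rad.mp hg
    obtain ⟨c, hc⟩ := h g
    have h1 := hc e.1
    rw [eich_self e.2.2 hw hgE] at h1
    have hc0 : c ≠ 0 := fun h0 => e'.2.1 (by
      rw [h0, zero_smul] at h1
      exact g.1.1.map_eq_zero_iff.mp h1)
    exact Sing.fix_iff.mpr ⟨c, hc0, h1⟩
  choose lam hlam using hfix
  have key : ∀ a c : Sing Q, polar Q a.1 c.1 = 0 → (∀ t : F, c.1 ≠ t • a.1) → lam a = lam c := by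
    intro a c hac hind
    have hs : Q (a.1 + c.1) = 0 := by rw [QuadraticMap.map_add Q, a.2.2, c.2.2, hac, add_zero, add_zero]
    have hs0 : a.1 + c.1 ≠ 0 := fun h0 => hind (-1) (by rw [neg_one_smul]; exact eq_neg_of_add_eq_zero_right h0)
    have e := hlam ⟨a.1 + c.1, hs0, hs⟩
    obtain ⟨L, hL⟩ : ∃ L, L = lam ⟨a.1 + c.1, hs0, hs⟩ := ⟨_, rfl⟩
    rw [← hL] at e
    change T (a.1 + c.1) = L • (a.1 + c.1) at e
    rw [Tadd, hlam, hlam, smul_add] at e
    have e' : (lam a - L) • a.1 = (L - lam c) • c.1 := by linear_combination (norm := module) e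
    rcases eq_or_ne (L - lam c) 0 with h0 | h0
    · rw [h0, zero_smul, smul_eq_zero, or_iff_left a.2.1] at e'
      exact (sub_eq_zero.mp e').trans (sub_eq_zero.mp h0)
    · exact absurd (show c.1 = ((L - lam c)⁻¹ * (lam a - L)) • a.1 by rw [← smul_smul, e', inv_smul_smul₀ h0])
        (hind _)
  obtain ⟨e₀, he₀0, he₀⟩ := FiniteForms.exists_singular Q (by omega)
  let e : Sing Q := ⟨e₀, he₀0, he₀⟩
  obtain ⟨μ, hμ⟩ : ∃ μ, μ = lam e := ⟨_, rfl⟩
  let φ : V → F := fun a => if h : a ≠ 0 ∧ Q a = 0 then lam ⟨a, h⟩ else μ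
  have hall : ∀ a : Sing Q, lam a = μ := fun a => by
    have := const_of_orth Q hQ (by omega) φ (fun a c ha0 hc0 ha hc hac hind => by
      simp only [φ, dif_pos (And.intro ha0 ha), dif_pos (And.intro hc0 hc)]
      exact key ⟨a, ha0, ha⟩ ⟨c, hc0, hc⟩ hac hind) a.2.1 e.2.1 a.2.2 e.2.2
    simp only [φ, dif_pos a.2, dif_pos e.2] at this
    exact this.trans hμ.symm
  have hμ0 : μ ≠ 0 := fun h0 => e.2.1 (Tinj (by rw [hlam, hall, h0, zero_smul, T0]))
  have hσ : σ = RingEquiv.refl F := RingEquiv.ext fun c => by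
    rcases eq_or_ne c 0 with rfl | hc
    · simp
    have h1 := hlam ⟨c • e.1, smul_ne_zero hc e.2.1, by rw [QuadraticMap.map_smul, e.2.2, smul_zero]⟩
    rw [hall] at h1
    change T (c • e.1) = μ • (c • e.1) at h1
    rw [Tsmul, hlam, hall, smul_smul, smul_smul, mul_comm μ] at h1
    exact mul_right_cancel₀ hμ0 (smul_left_injective F e.2.1 h1)
  refine ⟨hσ, μ, hμ0, fun x => ?_⟩
  refine span3 Q hQ (by omega) (fun x => T x = μ • x) (fun a b ha hb => by rw [Tadd, ha, hb, smul_add]) (fun v hv => ?_) x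
  rcases eq_or_ne v 0 with rfl | hv0
  · rw [T0, smul_zero]
  · rw [← hall ⟨v, hv0, hv⟩]; exact hlam ⟨v, hv0, hv⟩

end Abstract

section Matrix

variable {F : Type*} [Field F] [Fintype F] {ι : Type} [Fintype ι] [DecidableEq ι] {Q : QuadraticForm F (ι → F)}

/-- The entrywise action on vectors. -/
def σv (σ : RingAut F) (v : ι → F) : ι → F := fun i => σ (v i)

theorem σv_mulVec (σ : RingAut F) (M : Matrix ι ι F) (v : ι → F) : σv σ (M *ᵥ v) = M.map σ *ᵥ σv σ v :=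
  PGO.σ_mulVec σ M v

/-- A semisimilarity inducing the identity is a scalar. -/
theorem semi_one (hQ : (polarBilin Q).Nondegenerate) (hn : 7 ≤ Fintype.card ι) {g : GL ι F} {σ : F ≃+* F}
    (hs : Cfsg.IsSemisimilarityPair (⇑Q) g σ)
    (h1 : Cfsg.IsInducedBySemilinearPOmega (⇑Q) g σ (1 : MulAut (Cfsg.POmega F ⇑Q))) :
    σ = RingEquiv.refl F ∧ ∃ c : Fˣ, g = PGO.sc c := by
  have hn' : 7 ≤ finrank F (ι → F) := by rw [Module.finrank_fintype_fun_eq_card]; exact hn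
  let e := CfsgLib.SpinorMatrix.isoEquiv Q
  have hmap : (Cfsg.Omega F ⇑Q).map e.toMonoidHom = Om Q := by
    show _ = Subgroup.closure (Sieg Q)
    rw [← commutator_eq Q hQ (by omega), show Cfsg.Omega F ⇑Q = commutator _ from rfl, _root_.commutator_def,
      _root_.commutator_def, Subgroup.map_commutator, Subgroup.map_top_of_surjective _ e.surjective]
  let e' : ↥(Cfsg.Omega F ⇑Q) ≃* ↥(Om Q) := (e.subgroupMap _).trans (MulEquiv.subgroupCongr hmap)
  have he' : ∀ (s : Cfsg.Omega F ⇑Q) (v : ι → F), (e' s).1.1 v = s.1.1.1 *ᵥ v := fun s v => rfl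
  obtain ⟨d, hd⟩ := id hs
  obtain ⟨hσ, μ, hμ0, hμ⟩ := rigid hQ hn' (fun v => g.1 *ᵥ σv σ v) σ d.ne_zero
    (fun x y => by
      rw [← Matrix.mulVec_add]
      exact congrArg (g.1 *ᵥ ·) (funext fun i => map_add σ (x i) (y i)))
    (fun c x => by
      rw [← Matrix.mulVec_smul]
      exact congrArg (g.1 *ᵥ ·) (funext fun i => map_mul σ c (x i)))
    (fun x y h => funext fun i => σ.injective (congrFun (Matrix.mulVec_injective_of_isUnit g.isUnit h) i))
    hd (fun k => by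
      obtain ⟨s, rfl⟩ := e'.surjective k
      obtain ⟨s', hs'⟩ := PGO.semiRel_exists Q hs s
      have h2 := (PGO.induced_iff_semi Q (g := g) (σ := σ) _).mp h1 s s' hs'
      rw [MulAut.one_apply, QuotientGroup.eq] at h2
      have h3 : e' (s⁻¹ * s') ∈ Subgroup.center ↥(Om Q) := Subgroup.mem_center_iff.mpr fun k => by
        obtain ⟨k, rfl⟩ := e'.surjective k
        rw [← map_mul, ← map_mul, Subgroup.mem_center_iff.mp h2 k]
      obtain ⟨c, hc, hcx⟩ := center_scalar hQ hn' h3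
      refine ⟨c, fun x => ?_⟩
      have hs'x : s'.1.1.1 *ᵥ (g.1 *ᵥ σv σ x) = g.1 *ᵥ σv σ (s.1.1.1 *ᵥ x) := by
        rw [show s'.1.1 = _ from hs', σv_mulVec, Units.val_mul, Units.val_mul, Matrix.mulVec_mulVec,
          Matrix.mul_assoc, Units.inv_mul, Matrix.mul_one, ← Matrix.mulVec_mulVec]
        rfl
      have h4 := congrArg (fun w => (e' s).1.1 w) (hcx (g.1 *ᵥ σv σ x))
      simp only [map_mul, map_inv] at h4
      change (e' s).1.1 ((e' s).1.1.symm ((e' s').1.1 _)) = _ at h4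
      rw [LinearEquiv.apply_symm_apply, map_smul, he', he', hs'x] at h4
      rw [he', he', h4, smul_smul, hc, one_smul])
  refine ⟨hσ, Units.mk0 μ hμ0, Units.ext (Matrix.ext_of_mulVec_single fun i => ?_)⟩
  rw [PGO.sc_mulVec, Units.val_mk0, ← hμ]
  congr 1
  funext j
  rw [hσ]; rfl

theorem Θ_eq_one (hQ : (polarBilin Q).Nondegenerate) (hn : 7 ≤ Fintype.card ι) (g : PGO.GO Q) :
    PGO.Θ Q g = 1 ↔ ∃ c : Fˣ, g.1 = PGO.sc c := by
  refine ⟨fun h => ?_, fun ⟨c, hc⟩ => PGO.Θ_sc Q hc⟩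
  obtain ⟨d, hd⟩ := g.2
  exact (semi_one hQ hn (σ := RingEquiv.refl F) ⟨d, fun v => hd v⟩
    ((PGO.induced_iff Q g _).mpr h.symm)).2

theorem conj_injective (hQ : (polarBilin Q).Nondegenerate) (hn : 7 ≤ Fintype.card ι) :
    Function.Injective (MulAut.conj : Cfsg.POmega F ⇑Q → MulAut (Cfsg.POmega F ⇑Q)) := by
  refine (injective_iff_map_eq_one _).mpr fun a ha => ?_
  induction a using QuotientGroup.induction_on with
  | _ w =>
    have h : PGO.Θ Q ⟨w.1.1, PGO.iso_mem Q w.1.2⟩ = 1 := by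
      rw [← ha]
      refine MulEquiv.ext fun x => ?_
      induction x using QuotientGroup.induction_on with
      | _ s =>
        show QuotientGroup.mk (PGO.omEquiv Q _ s) = _
        rw [MulAut.conj_apply, ← QuotientGroup.mk_inv, ← QuotientGroup.mk_mul, ← QuotientGroup.mk_mul]
        congr 1
    obtain ⟨c, hc⟩ := (Θ_eq_one hQ hn _).mp h
    rw [QuotientGroup.eq_one_iff, Subgroup.mem_center_iff]
    intro k
    refine Subtype.ext (Subtype.ext ?_)
    show k.1.1 * w.1.1 = w.1.1 * k.1.1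
    rw [show w.1.1 = PGO.sc c from hc, PGO.sc_comm]

/-- The form is fixed by the field automorphisms. -/
def Fixed (Q : QuadraticForm F (ι → F)) : Prop := ∀ (σ : RingAut F) (v : ι → F), Q (σv σ v) = σ (Q v)

theorem fixed_pair (hfix : Fixed Q) (σ : RingAut F) : Cfsg.IsSemisimilarityPair (⇑Q) (1 : GL ι F) σ :=
  ⟨1, fun v => by rw [Units.val_one, Matrix.one_mulVec, Units.val_one, one_mul]; exact hfix σ v⟩

theorem σM_iso (hfix : Fixed Q) (σ : RingAut F) {x : GL ι F} (hx : x ∈ Cfsg.isometryGroup F ⇑Q) :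
    PGO.σM σ x ∈ Cfsg.isometryGroup F ⇑Q := by
  obtain ⟨c, hc⟩ := fixed_pair hfix σ
  have := PGO.semi_iso Q (g := (1 : GL ι F)) hc hx
  simpa using this

/-- Entrywise action on `Ω`. -/
def fΩ (hfix : Fixed Q) (σ : RingAut F) : Cfsg.Omega F ⇑Q →* Cfsg.Omega F ⇑Q :=
  MonoidHom.mk' (fun s => ⟨⟨PGO.σM σ s.1.1, σM_iso hfix σ s.1.2⟩, by
    obtain ⟨s', hs'⟩ := PGO.semiRel_exists Q (fixed_pair hfix σ) s
    have e : (⟨PGO.σM σ s.1.1, σM_iso hfix σ s.1.2⟩ : Cfsg.isometryGroup F ⇑Q) = s'.1 := Subtype.ext (by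
      rw [show s'.1.1 = _ from hs']; simp)
    rw [e]; exact s'.2⟩) fun s t => Subtype.ext (Subtype.ext (map_mul (PGO.σM σ) s.1.1 t.1.1))

theorem fΩ_val (hfix : Fixed Q) (σ : RingAut F) (s : Cfsg.Omega F ⇑Q) :
    (fΩ hfix σ s).1.1.1 = s.1.1.1.map σ := rfl

/-- Entrywise action on `Ω`, as an automorphism. -/
def fldΩ (hfix : Fixed Q) : RingAut F →* MulAut (Cfsg.Omega F ⇑Q) where
  toFun σ :=
    { fΩ hfix σ with
      invFun := fΩ hfix σ⁻¹
      left_inv := fun s => Subtype.ext (Subtype.ext (Units.ext (Matrix.ext fun i j => σ.symm_apply_apply _)))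
      right_inv := fun s => Subtype.ext (Subtype.ext (Units.ext (Matrix.ext fun i j => σ.apply_symm_apply _))) }
  map_one' := MulEquiv.ext fun s => Subtype.ext (Subtype.ext (Units.ext (Matrix.ext fun i j => rfl)))
  map_mul' σ τ := MulEquiv.ext fun s => Subtype.ext (Subtype.ext (Units.ext (Matrix.ext fun i j => rfl)))

/-- Field automorphisms of `PΩ`. -/
noncomputable def fld (hfix : Fixed Q) : RingAut F →* MulAut (Cfsg.POmega F ⇑Q) :=
  (PSL2.centreQuotAut (Cfsg.Omega F ⇑Q)).comp (fldΩ hfix)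

theorem fld_mk (hfix : Fixed Q) (σ : RingAut F) (s : Cfsg.Omega F ⇑Q) :
    fld hfix σ (QuotientGroup.mk s) = QuotientGroup.mk (fΩ hfix σ s) := rfl

theorem isField (hfix : Fixed Q) (σ : RingAut F) : Cfsg.IsFieldAutPOmegaOf (⇑Q) σ (fld hfix σ) := by
  intro s s' h
  rw [fld_mk]
  congr 1
  exact Subtype.ext (Subtype.ext (Units.ext h.symm))

theorem field_eq (hfix : Fixed Q) {σ : RingAut F} {β : MulAut (Cfsg.POmega F ⇑Q)}
    (h : Cfsg.IsFieldAutPOmegaOf (⇑Q) σ β) : β = fld hfix σ :=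
  MulEquiv.ext fun a => QuotientGroup.induction_on a fun s => h s _ rfl

/-- The entrywise image of a similitude. -/
def mapG (hfix : Fixed Q) (σ : RingAut F) (g : PGO.GO Q) : PGO.GO Q :=
  ⟨PGO.σM σ g.1, by
    obtain ⟨c, hc⟩ := g.2
    refine ⟨Units.map (σ : F →+* F).toMonoidHom c, fun v => ?_⟩
    have hv : v = σv σ (σv σ⁻¹ v) := funext fun i => (σ.apply_symm_apply (v i)).symm
    conv_lhs => rw [hv, PGO.σM_val, ← σv_mulVec, hfix, hc, map_mul, hfix]
    show σ (c : F) * σ (σ.symm (Q v)) = σ (c : F) * Q v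
    rw [RingEquiv.apply_symm_apply]⟩

theorem mapG_val (hfix : Fixed Q) (σ : RingAut F) (g : PGO.GO Q) : (mapG hfix σ g).1.1 = g.1.1.map σ := rfl

theorem fld_Θ (hfix : Fixed Q) (σ : RingAut F) (g : PGO.GO Q) :
    fld hfix σ * PGO.Θ Q g = PGO.Θ Q (mapG hfix σ g) * fld hfix σ := by
  refine MulEquiv.ext fun a => QuotientGroup.induction_on a fun s => ?_
  show QuotientGroup.mk (fΩ hfix σ (PGO.omEquiv Q g s)) = QuotientGroup.mk (PGO.omEquiv Q (mapG hfix σ g) (fΩ hfix σ s))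
  congr 1
  refine Subtype.ext (Subtype.ext ?_)
  show PGO.σM σ (g.1 * s.1.1 * g.1⁻¹) = PGO.σM σ g.1 * PGO.σM σ s.1.1 * (PGO.σM σ g.1)⁻¹
  rw [map_mul, map_mul, map_inv]

theorem semi_eq (hfix : Fixed Q) {g : GL ι F} {σ : RingAut F} {β : MulAut (Cfsg.POmega F ⇑Q)}
    (hg : g ∈ PGO.GO Q) (h : Cfsg.IsInducedBySemilinearPOmega (⇑Q) g σ β) :
    β = PGO.Θ Q ⟨g, hg⟩ * fld hfix σ :=
  MulEquiv.ext fun a => QuotientGroup.induction_on a fun s => h s (PGO.omEquiv Q ⟨g, hg⟩ (fΩ hfix σ s)) rfl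

theorem decomp (hfix : Fixed Q) (hQ : (polarBilin Q).Nondegenerate) (hn : 7 ≤ Fintype.card ι)
    (hmax : (∀ W : Submodule F (ι → F), (∀ a ∈ W, Q a = 0) → 2 * finrank F W < Fintype.card ι) ∨
      10 ≤ Fintype.card ι) (β : MulAut (Cfsg.POmega F ⇑Q)) :
    ∃ (g : PGO.GO Q) (σ : RingAut F), β = PGO.Θ Q g * fld hfix σ := by
  obtain ⟨g, σ, ⟨c, hc⟩, h⟩ := exists_semi Q hQ hn hmax β
  have hg : g ∈ PGO.GO Q := ⟨c, fun v => by
    have := hc (σv σ.symm v)
    rw [← hfix σ (σv σ.symm v), show σv σ (σv σ.symm v) = v from funext fun i => σ.apply_symm_apply (v i)] at this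
    simpa [σv] using this⟩
  exact ⟨⟨g, hg⟩, σ, semi_eq hfix hg h⟩

theorem conj_field_one (hfix : Fixed Q) (hQ : (polarBilin Q).Nondegenerate) (hn : 7 ≤ Fintype.card ι)
    {g : PGO.GO Q} {σ : RingAut F} (h : PGO.Θ Q g * fld hfix σ = 1) : σ = 1 ∧ ∃ c : Fˣ, g.1 = PGO.sc c := by
  obtain ⟨d, hd⟩ := g.2
  exact semi_one hQ hn (σ := σ) ⟨d, fun v => by
      show Q (g.1.1 *ᵥ σv σ v) = _
      rw [hd, hfix]⟩ (fun s s' hss => by
      rw [← h, MulAut.mul_apply, fld_mk]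
      show QuotientGroup.mk (PGO.omEquiv Q g (fΩ hfix σ s)) = _
      congr 1
      exact Subtype.ext (Subtype.ext (Units.ext hss.symm)))

theorem fld_inj (hfix : Fixed Q) (hQ : (polarBilin Q).Nondegenerate) (hn : 7 ≤ Fintype.card ι) :
    Function.Injective (fld hfix) :=
  (injective_iff_map_eq_one _).mpr fun σ h =>
    (conj_field_one hfix hQ hn (g := 1) (σ := σ) (by rw [map_one, one_mul, h])).1

theorem range_normal (hfix : Fixed Q) (hQ : (polarBilin Q).Nondegenerate) (hn : 7 ≤ Fintype.card ι)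
    (hmax : (∀ W : Submodule F (ι → F), (∀ a ∈ W, Q a = 0) → 2 * finrank F W < Fintype.card ι) ∨
      10 ≤ Fintype.card ι) : (PGO.Θ Q).range.Normal := by
  refine ⟨?_⟩
  rintro _ ⟨x, rfl⟩ β
  obtain ⟨g, σ, rfl⟩ := decomp hfix hQ hn hmax β
  refine ⟨g * mapG hfix σ x * g⁻¹, ?_⟩
  rw [map_mul, map_mul, map_inv]
  calc PGO.Θ Q g * PGO.Θ Q (mapG hfix σ x) * (PGO.Θ Q g)⁻¹
      = PGO.Θ Q g * (PGO.Θ Q (mapG hfix σ x) * fld hfix σ) * (fld hfix σ)⁻¹ * (PGO.Θ Q g)⁻¹ := by group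
    _ = _ := by rw [← fld_Θ]; group

/-- The field part of an automorphism. -/
theorem exists_fieldPart (hfix : Fixed Q) (hQ : (polarBilin Q).Nondegenerate) (hn : 7 ≤ Fintype.card ι)
    (hmax : (∀ W : Submodule F (ι → F), (∀ a ∈ W, Q a = 0) → 2 * finrank F W < Fintype.card ι) ∨
      10 ≤ Fintype.card ι) :
    ∃ π : MulAut (Cfsg.POmega F ⇑Q) →* RingAut F, π.ker = (PGO.Θ Q).range ∧ ∀ σ, π (fld hfix σ) = σ := by
  choose g s hs using decomp hfix hQ hn hmax
  have uniq : ∀ {g g' : PGO.GO Q} {σ σ' : RingAut F},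
      PGO.Θ Q g * fld hfix σ = PGO.Θ Q g' * fld hfix σ' → σ = σ' := by
    intro g g' σ σ' e
    have h : PGO.Θ Q (g'⁻¹ * g) * fld hfix (σ * σ'⁻¹) = 1 := by
      rw [map_mul, map_inv, map_mul, map_inv]
      calc (PGO.Θ Q g')⁻¹ * PGO.Θ Q g * (fld hfix σ * (fld hfix σ')⁻¹)
          = (PGO.Θ Q g')⁻¹ * (PGO.Θ Q g * fld hfix σ) * (fld hfix σ')⁻¹ := by group
        _ = 1 := by rw [e]; group
    exact mul_inv_eq_one.mp (conj_field_one hfix hQ hn h).1
  let π : MulAut (Cfsg.POmega F ⇑Q) →* RingAut F := MonoidHom.mk' s fun a b => by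
    refine uniq (g := g (a * b)) (g' := g a * mapG hfix (s a) (g b)) ?_
    calc PGO.Θ Q (g (a * b)) * fld hfix (s (a * b)) = a * b := (hs _).symm
      _ = (PGO.Θ Q (g a) * fld hfix (s a)) * (PGO.Θ Q (g b) * fld hfix (s b)) := by rw [← hs a, ← hs b]
      _ = PGO.Θ Q (g a) * (fld hfix (s a) * PGO.Θ Q (g b)) * fld hfix (s b) := by group
      _ = _ := by rw [fld_Θ, map_mul, map_mul]; group
  refine ⟨π, ?_, fun σ => uniq (g := g (fld hfix σ)) (g' := 1) (by rw [map_one, one_mul]; exact (hs _).symm)⟩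
  ext β
  rw [MonoidHom.mem_ker]
  constructor
  · intro h
    exact ⟨g β, ((hs β).trans (by rw [show s β = 1 from h, map_one, mul_one])).symm⟩
  · rintro ⟨x, rfl⟩
    exact uniq (g := g _) (g' := x) (by rw [map_one, mul_one]; exact (hs _).symm)

theorem exists_conj_field (hfix : Fixed Q) (hQ : (polarBilin Q).Nondegenerate) (hn : 7 ≤ Fintype.card ι)
    {x : MulAut (Cfsg.POmega F ⇑Q)} (hx : Cfsg.IsFieldAutClassPOmega (⇑Q) x) :
    ∃ (α : MulAut (Cfsg.POmega F ⇑Q)) (σ : RingAut F), σ ≠ 1 ∧ x = α * fld hfix σ * α⁻¹ ∧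
      orderOf x = orderOf σ := by
  obtain ⟨α, φ, σ, hσ, hφ, h⟩ := hx
  have e : x = α⁻¹ * fld hfix σ * α⁻¹⁻¹ := by rw [← field_eq hfix hφ, ← h]; group
  refine ⟨α⁻¹, σ, hσ, e, ?_⟩
  rw [e, ← MulAut.conj_apply, MulEquiv.orderOf_eq, orderOf_injective _ (fld_inj hfix hQ hn)]

theorem commute_iff (hfix : Fixed Q) (hQ : (polarBilin Q).Nondegenerate) (hn : 7 ≤ Fintype.card ι)
    (σ : RingAut F) (x : PGO.GO Q) :
    Commute (PGO.Θ Q x) (fld hfix σ) ↔ ∃ u : Fˣ, x.1.1.map σ = (u : F) • x.1.1 := by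
  rw [commute_iff_eq, fld_Θ, mul_left_inj]
  constructor
  · intro h
    obtain ⟨u, hu⟩ := (Θ_eq_one hQ hn (mapG hfix σ x * x⁻¹)).mp (by rw [map_mul, map_inv, h, mul_inv_cancel])
    refine ⟨u, ?_⟩
    have e : PGO.σM σ x.1 = PGO.sc u * x.1 := mul_inv_eq_iff_eq_mul.mp hu
    have e' := congrArg Units.val e
    rw [Units.val_mul, PGO.sc_val, Matrix.smul_mul, Matrix.one_mul] at e'
    exact e'
  · rintro ⟨u, hu⟩
    have e : mapG hfix σ x = ⟨PGO.sc u, PGO.sc_mem Q u⟩ * x := Subtype.ext (Units.ext (by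
      show x.1.1.map σ = (PGO.sc u).1 * x.1.1
      rw [hu, PGO.sc_val, Matrix.smul_mul, Matrix.one_mul]))
    rw [e, map_mul, PGO.Θ_sc Q (g := ⟨PGO.sc u, PGO.sc_mem Q u⟩) rfl, one_mul]

end Matrix

end CfsgLib.OrthAut
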