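import Cfsg.Agent.Lib.OmegaSimple

/-!
Singular vectors of a non-degenerate quadratic space: spanning, connectivity, and additive bijections preserving them.
-/

set_option autoImplicit false
set_option linter.unusedSectionVars false

namespace CfsgLib.OrthAut

open QuadraticMap CfsgLib.WittExtension Module CfsgLib.Eichler

variable {F V : Type*} [Field F] [Finite F] [AddCommGroup V] [Module F V] [FiniteDimensional F V]
variable (Q : QuadraticForm F V)

/-- Singular vectors generate additively. -/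
theorem span3 (hQ : (polarBilin Q).Nondegenerate) (hn : 3 ≤ finrank F V) (p : V → Prop)
    (padd : ∀ a b, p a → p b → p (a + b)) (psing : ∀ v, Q v = 0 → p v) (x : V) : p x := by
  obtain ⟨e, he0, he⟩ := FiniteForms.exists_singular Q hn
  obtain ⟨f, hf, hef⟩ := exists_partner Q hQ he0 he
  obtain ⟨w, hwdef⟩ : ∃ w, w = x - polar Q f x • e - polar Q e x • f := ⟨_, rfl⟩
  obtain ⟨hew, hfw⟩ := (mem_perp Q).mp (proj_mem Q he hf hef x)
  rw [← hwdef] at hew hfw
  have hsing : ∀ c : F, Q (c • e) = 0 ∧ Q (c • f) = 0 := fun c => by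
    simp [QuadraticMap.map_smul, he, hf]
  have hsv : Q (f + w + (-Q w) • e) = 0 := by
    rw [QuadraticMap.map_add Q, QuadraticMap.map_add Q, QuadraticMap.map_smul, he, hf, polar_smul_right,
      polar_add_left, polar_comm Q f e, hef, hfw, polar_comm Q w e, hew]
    simp
  have hdec : x = (polar Q f x + Q w) • e + (polar Q e x - 1) • f + (f + w + (-Q w) • e) := by
    rw [hwdef]; module
  rw [hdec]
  exact padd _ _ (padd _ _ (psing _ (hsing _).1) (psing _ (hsing _).2)) (psing _ hsv)

/-- Membership in a line from the orthogonal decomposition at a pair. -/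
theorem eq_smul_of_perp (hQ : (polarBilin Q).Nondegenerate) {a g v : V} (ha : Q a = 0) (hg : Q g = 0)
    (hag : polar Q a g = 1) (hav : polar Q a v = 0) (h : ∀ u ∈ perp Q a g, polar Q u v = 0) :
    v = polar Q g v • a := by
  refine sub_eq_zero.mp (hQ.1 _ fun y => ?_)
  obtain ⟨hay, hgy⟩ := (mem_perp Q).mp (proj_mem Q ha hg hag y)
  obtain ⟨u, hu⟩ : ∃ u, u = y - polar Q g y • a - polar Q a y • g := ⟨_, rfl⟩
  have huv := h u (hu ▸ proj_mem Q ha hg hag y)
  rw [show y = polar Q g y • a + polar Q a y • g + u by rw [hu]; module]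
  rw [← hu] at hay
  have e1 : polar Q (v - polar Q g v • a) u = 0 := by
    simp [sub_eq_add_neg, polar_add_left, polar_smul_left, polar_neg_left, polar_comm Q v u, huv, hay]
  show polar Q (v - polar Q g v • a) _ = 0
  rw [polar_add_right, polar_add_right, e1, polar_smul_right, polar_smul_right]
  simp [sub_eq_add_neg, polar_add_left, polar_smul_left, polar_neg_left, ReflectionGen.pol_self, ha,
    polar_comm Q v a, hav, polar_comm Q v g, hag]

/-- A vector orthogonal to the singular vectors orthogonal to `a` is a multiple of `a`. -/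
theorem mem_line (hQ : (polarBilin Q).Nondegenerate) (hn : 5 ≤ finrank F V) {a v : V} (ha0 : a ≠ 0)
    (ha : Q a = 0) (h : ∀ c, Q c = 0 → polar Q a c = 0 → polar Q c v = 0) : ∃ t : F, v = t • a := by
  obtain ⟨g, hg, hag⟩ := exists_partner Q hQ ha0 ha
  have hd := perp_finrank Q ha hg hag
  refine ⟨polar Q g v, eq_smul_of_perp Q hQ ha hg hag (h a ha (by simp [ReflectionGen.pol_self, ha]))
    fun u hu => ?_⟩
  refine span3 (Q.comp (perp Q a g).subtype) (perp_nondeg Q hQ ha hg hag) (by omega)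
    (fun z => polar Q z.1 v = 0) (fun z z' hz hz' => ?_) (fun z hz => h z.1 hz ((mem_perp Q).mp z.2).1) ⟨u, hu⟩
  rw [Submodule.coe_add, polar_add_left, hz, hz', add_zero]

/-- A function constant on orthogonal pairs of independent singular vectors is constant on singular vectors. -/
theorem const_of_orth (hQ : (polarBilin Q).Nondegenerate) (hn : 5 ≤ finrank F V) {α : Type*} (φ : V → α)
    (h : ∀ a c, a ≠ 0 → c ≠ 0 → Q a = 0 → Q c = 0 → polar Q a c = 0 → (∀ t : F, c ≠ t • a) → φ a = φ c)
    {a c : V} (ha0 : a ≠ 0) (hc0 : c ≠ 0) (ha : Q a = 0) (hc : Q c = 0) : φ a = φ c := by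
  have sym : ∀ {x y : V}, x ≠ 0 → (∀ t : F, y ≠ t • x) → y ≠ 0 → ∀ t : F, x ≠ t • y := by
    intro x y hx0 hxy _ t hxt
    rcases eq_or_ne t 0 with rfl | ht
    · exact hx0 (by rw [hxt, zero_smul])
    · exact hxy t⁻¹ (by rw [hxt, inv_smul_smul₀ ht])
  -- a singular vector orthogonal to a hyperbolic pair
  have third : ∀ {x y : V}, x ≠ 0 → Q x = 0 → Q y = 0 → polar Q x y = 1 →
      ∃ d, d ≠ 0 ∧ Q d = 0 ∧ polar Q x d = 0 ∧ polar Q y d = 0 := by
    intro x y _ hx hy hxy
    have := perp_finrank Q hx hy hxy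
    obtain ⟨d, hd0, hd⟩ := FiniteForms.exists_singular (Q.comp (perp Q x y).subtype) (by omega)
    exact ⟨d.1, fun h0 => hd0 (Subtype.ext h0), hd, ((mem_perp Q).mp d.2).1, ((mem_perp Q).mp d.2).2⟩
  have indep : ∀ {x y d : V}, polar Q x y ≠ 0 → d ≠ 0 → polar Q y d = 0 → ∀ t : F, d ≠ t • x := by
    intro x y d hxy hd0 hyd t hdt
    rw [hdt, polar_smul_right, polar_comm Q y x, smul_eq_mul, mul_eq_zero, or_iff_left hxy] at hyd
    exact hd0 (by rw [hdt, hyd, zero_smul])
  by_cases hpar : ∃ t : F, c = t • a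
  · obtain ⟨t, rfl⟩ := hpar
    obtain ⟨g, hg, hag⟩ := exists_partner Q hQ ha0 ha
    obtain ⟨d, hd0, hd, had, hgd⟩ := third ha0 ha hg hag
    have ht : t ≠ 0 := fun h0 => hc0 (by rw [h0, zero_smul])
    have i1 := indep (x := a) (by rw [hag]; exact one_ne_zero) hd0 hgd
    have i2 : ∀ s : F, d ≠ s • (t • a) := fun s hs => i1 (s * t) (by rw [hs, smul_smul])
    exact (h a d ha0 hd0 ha hd had i1).trans
      (h (t • a) d hc0 hd0 hc hd (by rw [polar_smul_left, had, smul_zero]) i2).symm
  push Not at hpar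
  by_cases hac : polar Q a c = 0
  · exact h a c ha0 hc0 ha hc hac hpar
  · obtain ⟨c', hc'⟩ : ∃ c', c' = (polar Q a c)⁻¹ • c := ⟨_, rfl⟩
    obtain ⟨d, hd0, hd, had, hcd⟩ := third ha0 ha (y := c')
      (by rw [hc', QuadraticMap.map_smul, hc, smul_zero])
      (by rw [hc', polar_smul_right, smul_eq_mul, inv_mul_cancel₀ hac])
    have hcd' : polar Q c d = 0 := by
      rw [hc', polar_smul_left, smul_eq_mul, mul_eq_zero] at hcd
      exact hcd.resolve_left (inv_ne_zero hac)
    exact (h a d ha0 hd0 ha hd had (indep hac hd0 hcd')).trans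
      (h c d hc0 hd0 hc hd hcd' (indep (by rwa [polar_comm]) hd0 had)).symm

/-- An additive bijection preserving singular vectors is a semilinear similitude. -/
theorem similitude_of_singular {V' : Type*} [AddCommGroup V'] [Module F V'] [FiniteDimensional F V']
    (Q' : QuadraticForm F V') (hQ : (polarBilin Q).Nondegenerate) (hQ' : (polarBilin Q').Nondegenerate)
    (hn : 5 ≤ finrank F V) (hn' : 5 ≤ finrank F V') (A : V ≃+ V') (hA : ∀ a, Q a = 0 ↔ Q' (A a) = 0) :
    ∃ (σ : F ≃+* F) (m : F), m ≠ 0 ∧ (∀ (x : F) a, A (x • a) = σ x • A a) ∧ ∀ a, Q' (A a) = m * σ (Q a) := by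
  classical
  -- orthogonality of singular vectors
  have orth : ∀ a c, Q a = 0 → Q c = 0 → (polar Q a c = 0 ↔ polar Q' (A a) (A c) = 0) := by
    intro a c ha hc
    have h1 := hA (a + c)
    rw [QuadraticMap.map_add Q, map_add, QuadraticMap.map_add Q', ha, hc, (hA a).mp ha, (hA c).mp hc] at h1
    simpa using h1
  have hex : ∀ (x : F) a, Q a = 0 → ∃ t : F, A (x • a) = t • A a := by
    intro x a ha
    rcases eq_or_ne a 0 with rfl | ha0
    · exact ⟨0, by simp⟩
    refine mem_line Q' hQ' hn' (fun h0 => ha0 (A.injective (h0.trans (map_zero A).symm))) ((hA a).mp ha)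
      fun c hc hac => ?_
    obtain ⟨d, rfl⟩ := A.surjective c
    have hd := (hA d).mpr hc
    rw [polar_comm, ← orth _ _ (by rw [QuadraticMap.map_smul, ha, smul_zero]) hd, polar_smul_left,
      (orth a d ha hd).mpr hac, smul_zero]
  choose t ht using hex
  let τ : V → F → F := fun a x => if h : Q a = 0 then t x a h else 0
  have hτ : ∀ a, Q a = 0 → ∀ x, A (x • a) = τ a x • A a := fun a ha x => by
    simp only [τ, dif_pos ha]; exact ht x a ha
  have hne : ∀ {a}, a ≠ 0 → A a ≠ 0 := fun {a} ha0 h0 => ha0 (A.injective (h0.trans (map_zero A).symm))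
  have inj : ∀ {a}, a ≠ 0 → ∀ {r s : F}, r • A a = s • A a → r = s := fun {a} ha0 {r s} h =>
    smul_left_injective F (hne ha0) h
  have horth : ∀ a c, a ≠ 0 → c ≠ 0 → Q a = 0 → Q c = 0 → polar Q a c = 0 → (∀ t : F, c ≠ t • a) →
      τ a = τ c := by
    intro a c ha0 hc0 ha hc hac hind
    funext x
    have hs : Q (a + c) = 0 := by rw [QuadraticMap.map_add Q, ha, hc, hac, add_zero, add_zero]
    have e := hτ _ hs x
    rw [smul_add, map_add, map_add, hτ a ha, hτ c hc, smul_add] at e
    have e' : (τ a x - τ (a + c) x) • A a = (τ (a + c) x - τ c x) • A c := by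
      rw [sub_smul, sub_smul, sub_eq_sub_iff_add_eq_add, add_comm (τ (a + c) x • A c)]; exact e
    by_contra hxne
    rcases eq_or_ne (τ (a + c) x - τ c x) 0 with h0 | h0
    · rw [h0, zero_smul, smul_eq_zero, or_iff_left (hne ha0)] at e'
      exact hxne ((sub_eq_zero.mp e').trans (sub_eq_zero.mp h0))
    · obtain ⟨r, hr⟩ : ∃ r, A c = r • A a :=
        ⟨(τ (a + c) x - τ c x)⁻¹ * (τ a x - τ (a + c) x), by rw [← smul_smul, e', inv_smul_smul₀ h0]⟩
      -- then `c` is a multiple of `a`
      obtain ⟨s, hs'⟩ := mem_line Q hQ hn ha0 ha (v := c) fun d hd had => by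
        rw [orth d c hd hc, hr, polar_smul_right, (orth d a hd ha).mp (by rw [polar_comm]; exact had), smul_zero]
      exact hind s hs'
  obtain ⟨a₀, ha₀0, ha₀⟩ := FiniteForms.exists_singular Q (by omega)
  obtain ⟨σf, hσf⟩ : ∃ σf, σf = τ a₀ := ⟨_, rfl⟩
  have hsing : ∀ a, Q a = 0 → ∀ x, A (x • a) = σf x • A a := fun a ha x => by
    rcases eq_or_ne a 0 with rfl | ha0
    · simp
    · rw [hσf, const_of_orth Q hQ hn τ horth ha₀0 ha0 ha₀ ha]; exact hτ a ha x
  let s : F →+* F :=
    { toFun := σf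
      map_one' := inj ha₀0 (by rw [← hsing a₀ ha₀, one_smul, one_smul])
      map_zero' := inj ha₀0 (by rw [← hsing a₀ ha₀, zero_smul, map_zero, zero_smul])
      map_add' := fun x y => inj ha₀0 (by
        rw [← hsing a₀ ha₀, add_smul, map_add, hsing a₀ ha₀, hsing a₀ ha₀, add_smul])
      map_mul' := fun x y => inj ha₀0 (by
        rw [← hsing a₀ ha₀, ← smul_smul, hsing (y • a₀) (by rw [QuadraticMap.map_smul, ha₀, smul_zero]),
          hsing a₀ ha₀, smul_smul]) }
  let σ : F ≃+* F := RingEquiv.ofBijective s (Finite.injective_iff_bijective.mp s.injective)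
  have hsmul : ∀ (x : F) a, A (x • a) = σ x • A a := fun x a =>
    span3 Q hQ (by omega) (fun a => A (x • a) = σ x • A a)
      (fun a b ha hb => by rw [smul_add, map_add, map_add, smul_add, ha, hb]) (fun v hv => hsing v hv x) a
  -- the pulled back form
  obtain ⟨B', hB'⟩ : ∃ B' : V → V → F, B' = fun a c => σ.symm (polar Q' (A a) (A c)) := ⟨_, rfl⟩
  have B'add : ∀ a c d, B' a (c + d) = B' a c + B' a d := fun a c d => by
    simp only [hB', map_add, polar_add_right]
  have B'smul : ∀ (x : F) a c, B' a (x • c) = x * B' a c := fun x a c => by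
    simp only [hB', hsmul, polar_smul_right, smul_eq_mul, map_mul, RingEquiv.symm_apply_apply]
  have B'comm : ∀ a c, B' a c = B' c a := fun a c => by simp only [hB', polar_comm]
  have B'self : ∀ a, Q a = 0 → B' a a = 0 := fun a ha => by
    simp only [hB', ReflectionGen.pol_self, (hA a).mp ha, mul_zero, map_zero]
  have hk : ∀ v, v ≠ 0 → Q v = 0 → ∃ k : F, ∀ x, B' v x = k * polar Q v x := by
    intro v hv0 hv
    obtain ⟨g, hg, hvg⟩ := exists_partner Q hQ hv0 hv
    have hd := perp_finrank Q hv hg hvg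
    refine ⟨B' v g, fun x => ?_⟩
    have hu : B' v (x - polar Q g x • v - polar Q v x • g) = 0 :=
      span3 (Q.comp (perp Q v g).subtype) (perp_nondeg Q hQ hv hg hvg) (by omega) (fun z => B' v z.1 = 0)
        (fun z z' hz hz' => by rw [Submodule.coe_add, B'add, hz, hz', add_zero])
        (fun z hz => by simp only [hB', (orth v z.1 hv hz).mp ((mem_perp Q).mp z.2).1, map_zero])
        ⟨_, proj_mem Q hv hg hvg x⟩
    have hdec : x = polar Q g x • v + polar Q v x • g + (x - polar Q g x • v - polar Q v x • g) := by module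
    conv_lhs => rw [hdec, B'add, B'add, B'smul, B'smul, B'self v hv, hu]
    ring
  choose! k hk using hk
  have hkc : ∀ v, v ≠ 0 → Q v = 0 → k v = k a₀ := by
    intro v hv0 hv
    have off : ∀ u w, u ≠ 0 → Q u = 0 → w ≠ 0 → Q w = 0 → polar Q u w ≠ 0 → k u = k w := by
      intro u w hu0 hu hw0 hw huw
      refine mul_right_cancel₀ huw ?_
      rw [← hk u hu0 hu, B'comm, hk w hw0 hw, polar_comm]
    obtain ⟨z, hz, hvz, hza⟩ := OmegaSimple.singular_avoid' Q hQ (by omega) hv0 hv (b := a₀) ha₀0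
    have hz0 : z ≠ 0 := fun h0 => by rw [h0, QuadraticMap.polar_zero_right] at hvz; exact zero_ne_one hvz
    exact (off v z hv0 hv hz0 hz (by rw [hvz]; exact one_ne_zero)).trans (off z a₀ hz0 hz ha₀0 ha₀ hza)
  have hB : ∀ a c, B' a c = k a₀ * polar Q a c := fun a c => by
    refine span3 Q hQ (by omega) (fun a => B' a c = k a₀ * polar Q a c) (fun a b ha hb => ?_) (fun v hv => ?_) a
    · rw [B'comm, B'add, ← B'comm a, ← B'comm b, ha, hb, polar_add_left, mul_add]
    · rcases eq_or_ne v 0 with rfl | hv0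
      · rw [B'comm, ← zero_smul F (0 : V), B'smul]; simp
      · rw [hk v hv0 hv, hkc v hv0 hv]
  have hQA : ∀ a, σ.symm (Q' (A a)) = k a₀ * Q a := fun a => by
    refine span3 Q hQ (by omega) (fun a => σ.symm (Q' (A a)) = k a₀ * Q a) (fun a b ha hb => ?_) (fun v hv => ?_) a
    · have h2 := hB a b
      simp only [hB'] at h2
      rw [map_add, QuadraticMap.map_add Q', map_add, map_add, ha, hb, h2, QuadraticMap.map_add Q]
      ring
    · rw [hv, (hA v).mp hv, map_zero, mul_zero]
  refine ⟨σ, σ (k a₀), ?_, hsmul, fun a => ?_⟩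
  · obtain ⟨g, -, hg⟩ := exists_partner Q hQ ha₀0 ha₀
    intro h0
    have hk0 : k a₀ = 0 := σ.injective (h0.trans (map_zero σ).symm)
    refine hne ha₀0 (hQ'.1 _ fun y => ?_)
    obtain ⟨d, rfl⟩ := A.surjective y
    have := hB a₀ d
    rw [hk0, zero_mul] at this
    simp only [hB', map_eq_zero] at this
    exact this
  · rw [← map_mul, ← hQA, RingEquiv.apply_symm_apply]

end CfsgLib.OrthAut
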