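import Cfsg.Agent.Lib.OrthAut.Main
import Cfsg.Prelude.Def_LieTypeDatum

/-!
The automorphism theorem for `PΩ(Q)` in matrix form.
-/

set_option autoImplicit false
set_option linter.unusedSectionVars false
set_option linter.style.haveILetI false

namespace CfsgLib.OrthAut

open QuadraticMap CfsgLib.WittExtension Module CfsgLib.Eichler CfsgLib.OmegaSimple
open scoped Matrix commutatorElement

variable {F : Type*} [Field F] [Fintype F] {ι : Type} [Fintype ι] [DecidableEq ι]

/-- Every automorphism is induced by a semisimilarity. -/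
theorem exists_semi (Q : QuadraticForm F (ι → F)) (hQ : (polarBilin Q).Nondegenerate)
    (hn : 7 ≤ Fintype.card ι)
    (hmax : (∀ W : Submodule F (ι → F), (∀ a ∈ W, Q a = 0) → 2 * finrank F W < Fintype.card ι) ∨
      10 ≤ Fintype.card ι)
    (β : MulAut (Cfsg.POmega F ⇑Q)) :
    ∃ (g : GL ι F) (σ : F ≃+* F), Cfsg.IsSemisimilarityPair (⇑Q) g σ ∧
      Cfsg.IsInducedBySemilinearPOmega (⇑Q) g σ β := by
  have hV : finrank F (ι → F) = Fintype.card ι := Module.finrank_fintype_fun_eq_card F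
  have hn' : 7 ≤ finrank F (ι → F) := by rw [hV]; exact hn
  let e := CfsgLib.SpinorMatrix.isoEquiv Q
  have hmap : (Cfsg.Omega F ⇑Q).map e.toMonoidHom = Om Q := by
    show _ = Subgroup.closure (Sieg Q)
    rw [← commutator_eq Q hQ (by omega), show Cfsg.Omega F ⇑Q = commutator _ from rfl, _root_.commutator_def,
      _root_.commutator_def, Subgroup.map_commutator, Subgroup.map_top_of_surjective _ e.surjective]
  let e' : ↥(Cfsg.Omega F ⇑Q) ≃* ↥(Om Q) := (e.subgroupMap _).trans (MulEquiv.subgroupCongr hmap)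
  have he' : ∀ (s : Cfsg.Omega F ⇑Q) (v : ι → F), (e' s).1.1 v = s.1.1.1 *ᵥ v := fun s v => rfl
  have hcen : (Subgroup.center ↥(Cfsg.Omega F ⇑Q)).map e'.toMonoidHom = Subgroup.center ↥(Om Q) := by
    ext x
    constructor
    · rintro ⟨y, hy, rfl⟩
      refine Subgroup.mem_center_iff.mpr fun k => ?_
      obtain ⟨k, rfl⟩ := e'.surjective k
      show e' k * e' y = e' y * e' k
      rw [← map_mul, ← map_mul, Subgroup.mem_center_iff.mp hy k]
    · intro hx
      refine ⟨e'.symm x, Subgroup.mem_center_iff.mpr fun k => e'.injective ?_, e'.apply_symm_apply x⟩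
      rw [map_mul, map_mul, e'.apply_symm_apply]
      exact Subgroup.mem_center_iff.mp hx _
  let eq : Cfsg.POmega F ⇑Q ≃* POm Q := QuotientGroup.congr _ _ e' hcen
  obtain ⟨φ, hφ⟩ : ∃ φ : MulAut (POm Q), φ = (eq.symm.trans β).trans eq := ⟨_, rfl⟩
  obtain ⟨T, σ, m, hm, Tadd, Tsmul, Tbij, TQ, hT⟩ := exists_similitude hQ hn'
    (by rwa [hV]) φ
  let L₀ : (ι → F) →ₗ[F] (ι → F) :=
    { toFun := fun v => T (fun i => σ.symm (v i))
      map_add' := fun v w => by
        rw [← Tadd]
        exact congrArg T (funext fun i => map_add σ.symm (v i) (w i))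
      map_smul' := fun c v => by
        rw [show (fun i => σ.symm ((c • v) i)) = σ.symm c • fun i => σ.symm (v i) from
          funext fun i => map_mul σ.symm c (v i), Tsmul, RingEquiv.apply_symm_apply]
        rfl }
  have hL₀ : Function.Bijective L₀ := Tbij.comp
    ⟨fun v w h => funext fun i => σ.symm.injective (congrFun h i),
      fun w => ⟨fun i => σ (w i), funext fun i => σ.symm_apply_apply (w i)⟩⟩
  let M : GL ι F := Matrix.GeneralLinearGroup.toLin.symm
    (LinearMap.GeneralLinearGroup.ofLinearEquiv (LinearEquiv.ofBijective L₀ hL₀))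
  have hM : ∀ v : ι → F, M.1 *ᵥ (fun i => σ (v i)) = T v := fun v => by
    show (LinearMap.toMatrix' L₀) *ᵥ _ = _
    rw [LinearMap.toMatrix'_mulVec]
    show T _ = T v
    exact congrArg T (funext fun i => σ.symm_apply_apply (v i))
  refine ⟨M, σ, ⟨Units.mk0 m hm, fun v => by rw [hM, TQ]; rfl⟩, fun s s' hss => ?_⟩
  refine eq.injective ?_
  obtain ⟨k, hk⟩ := pr_surj Q (φ (pr Q (e' s)))
  obtain ⟨c, hc⟩ := hT (e' s) k hk.symm
  have h1 : φ (pr Q (e' s)) = eq (β (QuotientGroup.mk s)) := by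
    rw [hφ, show pr Q (e' s) = eq (QuotientGroup.mk s) from rfl]
    simp
  rw [← h1, ← hk, show eq (QuotientGroup.mk s') = pr Q (e' s') from rfl, pr_eq_iff hQ hn']
  refine ⟨c, fun x => ?_⟩
  obtain ⟨y, rfl⟩ := Tbij.2 x
  rw [hc, he' s']
  congr 1
  rw [hss, he' s, ← hM y, Matrix.mulVec_mulVec, Matrix.mul_assoc, ← Units.val_mul, inv_mul_cancel, Units.val_one,
    Matrix.mul_one, ← Matrix.mulVec_mulVec, ← hM]
  congr 1
  funext i
  exact RingHom.map_mulVec σ.toRingHom _ y i

/-- The automorphism group of `PΩ(Q)` is the image of the semisimilarity group. -/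
theorem gamma_top (Q : QuadraticForm F (ι → F)) {fq : (ι → F) → F} (hf : ∀ v, fq v = Q v)
    (hQ : (polarBilin Q).Nondegenerate) (hn : 7 ≤ Fintype.card ι)
    (hmax : (∀ W : Submodule F (ι → F), (∀ a ∈ W, Q a = 0) → 2 * finrank F W < Fintype.card ι) ∨
      10 ≤ Fintype.card ι) : Cfsg.gammaPOmega F fq = ⊤ := by
  obtain rfl : fq = ⇑Q := funext hf
  exact eq_top_iff.mpr fun β _ => Subgroup.subset_closure (exists_semi Q hQ hn hmax β)

end CfsgLib.OrthAut
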